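import Cfsg.Agent.Lib.J4Type.Rank7.Root

/-!
The conjugates meeting `V` in an involution of central type: two orbits besides the trivial one,
and the conjugates containing an involution of pair type of the normaliser are among them.
-/

set_option autoImplicit false
set_option linter.unusedSectionVars false
set_option maxRecDepth 100000

namespace CfsgLib.J4Type.Rank7

open Cfsg Subgroup
open CfsgLib.J4Type.Cert (rM blt_lt stabF)
open CfsgLib.J4Type.Frame (vE pairV classV)

variable {G : Type*} [Group G] [Finite G] {z : G} {P : Subgroup G} {F : Frame z P} {D : VData F}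

theorem conj_V_ne {p n : ℕ} (hn : n < 2048) (h0 : n ≠ 0) : wEl D p n ≠ 1 := fun e => by
  rw [wEl, conj_eq_one_iff, Frame.vE_eq_one D hn] at e
  exact h0 e

theorem wEl_mem (p : ℕ) {n : ℕ} (hn : n < 2048) : wEl D p n ∈ cj D (lp D p) := by
  rw [mem_cj, wEl, show (lp D p)⁻¹ * (lp D p * vE D n * (lp D p)⁻¹) * lp D p = vE D n by group]
  exact Frame.vE_mem D hn

theorem exists_wEl {p : ℕ} {u : G} (h : u ∈ cj D (lp D p)) : ∃ n < 2048, u = wEl D p n := by
  obtain ⟨n, hn, e⟩ := Frame.exists_vE D (mem_cj.1 h)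
  exact ⟨n, hn, by rw [wEl, e]; group⟩

variable (hf : Fused D)
include hf

theorem wEl_type (p : ℕ) {n : ℕ} (hn : n < 2048) (h0 : n ≠ 0) :
    IsConj z (wEl D p n) ↔ NV.inB n = false := by
  classical
  have h := (Frame.exists_cover D hf).2 n hn h0
  rw [Frame.isZ] at h
  have hc : IsConj (vE D n) (wEl D p n) := isConj_iff.2 ⟨lp D p, rfl⟩
  constructor
  · intro hz
    rw [decide_eq_true (hz.trans hc.symm)] at h
    simpa using h.symm
  · intro hB
    rw [hB] at h
    exact (of_decide_eq_true h).trans hc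

theorem wEl_low {p n : ℕ} (hp : p < 77) (hn : n < 128) :
    wEl D p n ∈ Rad z ∧ F.co (wEl D p n) = mv (rM p) (n % 64) := by
  have hv := Cd.vE (F := F) D (show n < 2048 by omega)
  obtain ⟨hr, hc⟩ := hv.rad (by show upTab.getD (n / 128) idM = idM; rw [show n / 128 = 0 by omega]; decide +kernel) D
  obtain ⟨l1, -, l3⟩ := lp_spec (D := D) hp
  exact ⟨F.rad_conj l1 hr, by rw [wEl, F.conj_co l1 hr, hc, l3]⟩

theorem wEl_in_V {p n : ℕ} (hp : p < 77) (h0 : p ≠ 0) (hn : n < 2048) :
    wEl D p n ∈ D.V ↔ n < 128 ∧ mv (rM p) (n % 64) < 64 := by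
  constructor
  · intro h
    have h128 : n < 128 := by
      by_contra hc
      obtain ⟨m, hm, em⟩ := Frame.exists_vE D h
      obtain ⟨l1, -, l3⟩ := lp_spec (D := D) hp
      have hv := Cd.vE (F := F) D hn
      have hw := Cd.vE (F := F) D hm
      have e := congrArg F.mat
        (show lp D p * vE D n = wEl D p n * lp D p by rw [wEl]; group)
      rw [← em, F.mat_mul _ l1 _ hv.cen, F.mat_mul _ hw.cen _ l1, l3, hv.mat_eq, hw.mat_eq] at e
      have hl := List.all_eq_true.1 line_ok p (List.mem_range.2 hp)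
      simp only [Bool.or_eq_true, List.all_eq_true, List.mem_range] at hl
      rcases hl with e' | hl
      · exact h0 (Nat.eq_of_beq_eq_true e')
      rcases hl (n / 128) (by omega) with e' | hl
      · have := Nat.eq_of_beq_eq_true e'
        omega
      have := hl (m / 128) (by omega)
      rw [e] at this
      simp at this
    obtain ⟨hr, hc⟩ := wEl_low hf hp h128
    exact ⟨h128, hc ▸ (D.rad _ hr).1 h⟩
  · rintro ⟨h, hlt⟩
    obtain ⟨hr, hc⟩ := wEl_low hf hp h
    exact (D.rad _ hr).2 (by rw [hc]; exact hlt)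

theorem ycl_z : ycl D z = {v : G | v ∈ D.V ∧ IsConj z v} := by
  ext v
  constructor
  · rintro ⟨n, hn, rfl⟩
    exact ⟨(conj_V hn).2 D.z_mem, isConj_iff.2 ⟨n, rfl⟩⟩
  · rintro ⟨hv, hz⟩
    exact Frame.class_control D hf hv hz

theorem count_common {p : ℕ} (hp : p < 77) (h0 : p ≠ 0) :
    (ycl D z ∩ (cj D (lp D p) : Set G)).ncard = ((List.range 128).filter (common p)).length := by
  classical
  rw [← List.toFinset_card_of_nodup (List.nodup_range.filter _), ← Set.ncard_coe_finset,
    ycl_z hf]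
  refine (Set.ncard_congr (fun n _ => wEl D p n) (fun n hn => ?_) (fun a b ha hb e => ?_)
    fun u hu => ?_).symm
  · simp only [List.coe_toFinset, Set.mem_ofPred_eq, List.mem_filter, List.mem_range] at hn
    obtain ⟨hn, hc⟩ := hn
    simp only [common, Bool.and_eq_true, Bool.not_eq_true'] at hc
    obtain ⟨⟨h1, h2⟩, h3⟩ := hc
    have h1' : n ≠ 0 := fun e => by rw [e] at h1; exact Bool.noConfusion h1
    exact Set.mem_inter ⟨(wEl_in_V hf hp h0 (by omega)).2 ⟨hn, blt_lt h3⟩,
      (wEl_type hf p (by omega) h1').2 h2⟩ (wEl_mem p (by omega))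
  · simp only [List.coe_toFinset, Set.mem_ofPred_eq, List.mem_filter, List.mem_range] at ha hb
    exact Frame.vE_injOn D (show a < 2048 by omega) (show b < 2048 by omega)
      (mul_left_cancel (mul_right_cancel e))
  · obtain ⟨n, hn, rfl⟩ := exists_wEl hu.2
    obtain ⟨⟨hV, hz⟩, -⟩ := hu
    have h1 : n ≠ 0 := fun e => F.z_ne (by
      rw [e, wEl, Frame.vE_zero, mul_one, mul_inv_cancel] at hz
      obtain ⟨c, hc⟩ := isConj_iff.1 hz
      exact conj_eq_one_iff.1 hc)
    obtain ⟨h128, hlt⟩ := (wEl_in_V hf hp h0 hn).1 hV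
    refine ⟨n, ?_, rfl⟩
    simp only [List.coe_toFinset, Set.mem_ofPred_eq, List.mem_filter, List.mem_range, common,
      Bool.and_eq_true, Bool.not_eq_true']
    exact ⟨h128, ⟨Bool.eq_false_iff.2 fun e => h1 (Nat.eq_of_beq_eq_true e),
      (wEl_type hf p hn h1).1 hz⟩, Nat.ble_eq_true_of_le hlt⟩

omit hf in
theorem plane_step : ∀ j < gensN.length, ∀ p < 77, ∀ q < 77,
    imgOK (gensN.getD j idM) p q = true → orb D (lp D q) = orb D (lp D p) := by
  intro j hj p hp q hq H
  have hm : ∀ j < gensN.length, gensN.getD j idM ∈ gensN := by decide +kernel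
  have hmem := hm j hj
  have hL : InL (gensN.getD j idM) := InL.of_gen (by
    simp only [gensN, gensL, List.mem_cons, List.not_mem_nil, or_false] at hmem ⊢
    tauto)
  obtain ⟨n, n1, -, n3⟩ := F.exists_liftN (Order.mkL _ hL)
  have n3' : F.mat n = gensN.getD j idM := n3
  have hN : n ∈ NN D :=
    (Frame.stabF_iff_norm D n1).2 (by rw [n3']; exact List.all_eq_true.1 gensN_stab _ hmem)
  refine orb_eq ?_
  rw [← move (D := D) n1 hp hq (by rw [n3']; exact H)]
  exact mem_orb_of hN

omit hf in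
theorem same16 : ∀ p ∈ tree16.map Prod.fst, p < 77 ∧ orb D (lp D p) = orb D (lp D 30) := by
  have h := tree16_ok
  rw [Bool.and_eq_true] at h
  exact tree_same h.1 (fun p => orb D (lp D p)) plane_step

omit hf in
theorem same60 : ∀ p ∈ tree60.map Prod.fst, p < 77 ∧ orb D (lp D p) = orb D (lp D 1) := by
  have h := tree16_ok
  rw [Bool.and_eq_true] at h
  exact tree_same h.2 (fun p => orb D (lp D p)) plane_step

omit hf in
theorem cover_cases {p : ℕ} (hp : p < 77) :
    p = 0 ∨ p ∈ tree16.map Prod.fst ∨ p ∈ tree60.map Prod.fst := by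
  have h := List.all_eq_true.1 adj_cover p (List.mem_range.2 hp)
  simp only [Bool.or_eq_true, List.contains_iff_mem] at h
  rcases h with (h | h) | h
  exacts [.inl (Nat.eq_of_beq_eq_true h), .inr (.inl h), .inr (.inr h)]

theorem count_const :
    (∀ p ∈ tree16.map Prod.fst, (ycl D z ∩ (cj D (lp D p) : Set G)).ncard = 1) ∧
    ∀ p ∈ tree60.map Prod.fst, (ycl D z ∩ (cj D (lp D p) : Set G)).ncard = 7 := by
  have h := adj_count
  simp only [Bool.and_eq_true, List.all_eq_true] at h
  obtain ⟨⟨⟨⟨⟨h1, h2⟩, -⟩, -⟩, -⟩, -⟩ := h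
  have d0 : ∀ p ∈ tree16.map Prod.fst ++ tree60.map Prod.fst, p ≠ 0 := by decide +kernel
  constructor <;> intro p hp
  · obtain ⟨t, ht, rfl⟩ := List.mem_map.1 hp
    rw [count_common hf (same16 (D := D) _ hp).1 (d0 _ (List.mem_append_left _ hp))]
    exact Nat.eq_of_beq_eq_true (h1 t ht)
  · obtain ⟨t, ht, rfl⟩ := List.mem_map.1 hp
    rw [count_common hf (same60 (D := D) _ hp).1 (d0 _ (List.mem_append_right _ hp))]
    exact Nat.eq_of_beq_eq_true (h2 t ht)

theorem adj_sizes : (orb D (lp D 1)).ncard = 15180 ∧ (orb D (lp D 30)).ncard = 28336 := by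
  classical
  obtain ⟨c16, c60⟩ := count_const (D := D) hf
  have hA : (ycl D z).ncard = 1771 := by
    rw [ycl_z hf]; exact (Frame.ncard_class D hf).1
  have h30 : 30 ∈ tree16.map Prod.fst := by decide +kernel
  have h1 : 1 ∈ tree60.map Prod.fst := by decide +kernel
  have nd := adj_count
  simp only [Bool.and_eq_true, decide_eq_true_eq] at nd
  obtain ⟨⟨⟨⟨-, l16⟩, l60⟩, n16⟩, n60⟩ := nd
  have hz : ((1 : G)⁻¹ * z * 1) = z := by group
  have zero : ∀ k : ℕ, k < 77 → k ≠ 0 → pt D (lp D 0) ∉ orb D (lp D k) := fun k hk hk0 e => by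
    have e' := orb_eq e
    have h0 : lp D 0 ∈ NN D := by
      obtain ⟨a1, -, a3⟩ := lp_spec (D := D) (show 0 < 77 by norm_num)
      exact (Frame.stabF_iff_norm D a1).2 (by rw [a3]; decide +kernel)
    rw [orb_eq (mem_orb_one.2 h0)] at e'
    have hk' : lp D k ∈ NN D := mem_orb_one.1 (e'.symm ▸ self_orb (lp D k))
    exact hk0 (lp_inj (D := D) hk (by norm_num) (pt_eq_iff.2 (mul_mem (inv_mem hk') h0)))
  have t16 : (through D z (lp D 30)).ncard = 16 := by
    have := through_card hf (1 : G) (lp D 30)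
    rw [hz] at this
    rw [this, ← Nat.eq_of_beq_eq_true l16, ← List.length_map Prod.fst,
      ← List.toFinset_card_of_nodup n16]
    congr 1
    ext p
    simp only [Finset.mem_filter, Finset.mem_range, List.mem_toFinset, inv_one, one_mul]
    refine ⟨fun ⟨hp, e⟩ => ?_, fun hp => ⟨(same16 (D := D) p hp).1,
      (same16 (D := D) p hp).2 ▸ self_orb _⟩⟩
    rcases cover_cases hp with rfl | h | h
    · exact absurd e (zero 30 (by norm_num) (by norm_num))
    · exact h
    · have hm := meet_card_orb z e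
      rw [c60 p h, c16 30 h30] at hm
      omega
  have t60 : (through D z (lp D 1)).ncard = 60 := by
    have := through_card hf (1 : G) (lp D 1)
    rw [hz] at this
    rw [this, ← Nat.eq_of_beq_eq_true l60, ← List.length_map Prod.fst,
      ← List.toFinset_card_of_nodup n60]
    congr 1
    ext p
    simp only [Finset.mem_filter, Finset.mem_range, List.mem_toFinset, inv_one, one_mul]
    refine ⟨fun ⟨hp, e⟩ => ?_, fun hp => ⟨(same60 (D := D) p hp).1,
      (same60 (D := D) p hp).2 ▸ self_orb _⟩⟩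
    rcases cover_cases hp with rfl | h | h
    · exact absurd e (zero 1 (by norm_num) (by norm_num))
    · have hm := meet_card_orb z e
      rw [c16 p h, c60 1 h1] at hm
      omega
    · exact h
  have a := double_count (D := D) z (lp D 1)
  have b := double_count (D := D) z (lp D 30)
  rw [c60 1 h1, hA, t60] at a
  rw [c16 30 h30, hA, t16] at b
  omega

omit hf in
theorem adj_lp {p : ℕ} (hp : p < 77) : Adj D (lp D p) :=
  ⟨z, D.z_mem, IsConj.refl z, z_mem_cj_cen (lp_spec (D := D) hp).1⟩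

theorem adj_cases (g : G) : Adj D g ↔
    pt D g ∈ orb D 1 ∨ pt D g ∈ orb D (lp D 1) ∨ pt D g ∈ orb D (lp D 30) := by
  constructor
  · rintro ⟨v, hv, hz, hg⟩
    obtain ⟨k, hk, rfl⟩ := Frame.class_control D hf hv hz
    have hk' : z ∈ cj D (k⁻¹ * g) := by
      have := (mem_cj_mul (n := k⁻¹)).2 hg
      rwa [show k⁻¹ * (k * z * k⁻¹) * k⁻¹⁻¹ = z by group] at this
    obtain ⟨p, hp, e⟩ := cover hf hk'
    have hg' : pt D g ∈ orb D (lp D p) := by
      have : pt D g = pt D (k * lp D p) := by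
        refine pt_eq_iff.2 ?_
        have := pt_eq_iff.1 e
        rwa [show (k⁻¹ * g)⁻¹ * lp D p = g⁻¹ * (k * lp D p) by group] at this
      rw [this]
      exact mem_orb_of hk
    rcases cover_cases hp with rfl | h | h
    · refine .inl ?_
      obtain ⟨a1, -, a3⟩ := lp_spec (D := D) hp
      rw [← orb_eq (mem_orb_one.2 ((Frame.stabF_iff_norm D a1).2
        (by rw [a3]; decide +kernel)))]
      exact hg'
    · exact .inr (.inr ((same16 (D := D) p h).2 ▸ hg'))
    · exact .inr (.inl ((same60 (D := D) p h).2 ▸ hg'))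
  · rintro (h | h | h)
    · exact Adj.of_orb ⟨z, D.z_mem, IsConj.refl z, mem_cj.2 (by simpa using D.z_mem)⟩ h
    · exact (adj_lp (by norm_num)).of_orb h
    · exact (adj_lp (by norm_num)).of_orb h

/-- The witnesses of pair type in the two orbits. -/
theorem witness {p : ℕ} (hp : p < 77) (h1 : Nat.blt (mv (rM p) 1) 64 = false) :
    wEl D p 1 ∈ cj D (lp D p) ∧ wEl D p 1 ∈ NN D ∧ wEl D p 1 ∉ D.V ∧
      wEl D p 1 * wEl D p 1 = 1 ∧ ¬ IsConj z (wEl D p 1) := by
  obtain ⟨hr, hc⟩ := wEl_low hf hp (show (1 : ℕ) < 128 by norm_num)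
  have hmem := wEl_mem (D := D) p (show (1 : ℕ) < 2048 by norm_num)
  refine ⟨hmem, (Frame.stabF_iff_norm D (rad_le_Cen hr)).2 ?_, fun h => ?_, cj_sq hmem, fun h => ?_⟩
  · rw [(F.mat_eq_id _ (rad_le_Cen hr)).2 hr]; decide +kernel
  · have := (D.rad _ hr).1 h
    rw [hc] at this
    have e : Nat.blt (mv (rM p) 1) 64 = true := Nat.ble_eq_true_of_le this
    rw [e] at h1
    exact Bool.noConfusion h1
  · have := (wEl_type hf p (by norm_num) (by norm_num)).1 h
    exact absurd this (by decide +kernel)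

variable {S : Order.TSetup D} (C : Classes S)
include C

/-- A conjugate with an involution of pair type in the normaliser is adjacent. -/
theorem adj_of_t {g y : G} (hy : y ∈ cj D g) (hN : y ∈ NN D) (h1 : y ≠ 1) (hz : ¬ IsConj z y) :
    Adj D g := by
  rw [adj_cases hf]
  by_cases hV : y ∈ D.V
  · have := unique_cj hf h1 hz hy (mem_cj.2 (by simpa using hV) : y ∈ cj D 1)
    exact .inl (this ▸ self_orb 1)
  have tw := t_witness
  simp only [Bool.and_eq_true, Bool.not_eq_true'] at tw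
  obtain ⟨a1, a2, a3, a4, a5⟩ := witness (D := D) hf (p := 1) (by norm_num) tw.2
  obtain ⟨b1, b2, b3, b4, b5⟩ := witness (D := D) hf (p := 30) (by norm_num) tw.1.2
  have link : ∀ {g h u v : G}, u ∈ cj D g → v ∈ cj D h → v ≠ 1 → ¬ IsConj z v →
      (∃ n ∈ NN D, n * u * n⁻¹ = v) → pt D h ∈ orb D g := by
    rintro g h u v hu hv v1 vz ⟨n, hn, rfl⟩
    rw [unique_cj hf v1 vz hv (mem_cj_mul.2 hu)]
    exact mem_orb_of hn
  have symm : ∀ {u v : G}, (∃ n ∈ NN D, n * u * n⁻¹ = v) → ∃ n ∈ NN D, n * v * n⁻¹ = u := by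
    rintro u v ⟨n, hn, rfl⟩
    exact ⟨n⁻¹, inv_mem hn, by group⟩
  have n1 : ∀ {u : G}, u ∉ D.V → u ≠ 1 := fun h e => h (e ▸ one_mem _)
  obtain ⟨i, j, hij, hn⟩ := C.tclasses ![y, wEl D 1 1, wEl D 30 1] (fun i => by
    fin_cases i
    exacts [⟨hN, hV, cj_sq hy, hz⟩, ⟨a2, a3, a4, a5⟩, ⟨b2, b3, b4, b5⟩])
  have no : pt D (lp D 30) ∉ orb D (lp D 1) := fun e => by
    have := congrArg Set.ncard (orb_eq e)
    obtain ⟨s1, s2⟩ := adj_sizes (D := D) hf
    omega
  fin_cases i <;> fin_cases j <;> simp at hij hn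
  · exact .inr (.inl (link a1 hy h1 hz (symm hn)))
  · exact .inr (.inr (link b1 hy h1 hz (symm hn)))
  · exact .inr (.inl (link a1 hy h1 hz hn))
  · exact absurd (link a1 b1 (n1 b3) b5 hn) no
  · exact .inr (.inr (link b1 hy h1 hz hn))
  · exact absurd (link a1 b1 (n1 b3) b5 (symm hn)) no

end CfsgLib.J4Type.Rank7
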