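import Cfsg.Agent.Lib.J4Type.Rank7.Basic

/-!
The seven orbits from the five with a nontrivial intersection and the data of the remaining ones.
-/

set_option autoImplicit false
set_option linter.unusedSectionVars false

namespace CfsgLib.J4Type.Rank7

open Cfsg Subgroup

variable {G : Type*} [Group G] {z : G} {P : Subgroup G} {F : Frame z P} {D : VData F}

theorem self_orb (g : G) : pt D g ∈ orb D g := MulAction.mem_orbit_self _

theorem orb_eq {g h : G} (e : pt D g ∈ orb D h) : orb D g = orb D h := MulAction.orbit_eq_iff.2 e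

theorem mem_cn {g x : G} : x ∈ cn D g ↔ g⁻¹ * x * g ∈ NN D := by
  rw [cn, Subgroup.mem_map]
  constructor
  · rintro ⟨w, hw, rfl⟩
    show g⁻¹ * (g * w * g⁻¹) * g ∈ _
    rwa [show g⁻¹ * (g * w * g⁻¹) * g = w by group]
  · intro h
    exact ⟨_, h, by show g * (g⁻¹ * x * g) * g⁻¹ = x; group⟩

theorem orb_card [Finite G] (g : G) :
    (orb D g).ncard * Nat.card ↥(st D g) = Nat.card ↥(NN D) := by
  let e : ↥(MulAction.stabilizer ↥(NN D) (pt D g)) ≃ ↥(st D g) :=
    { toFun := fun n => ⟨n.1.1, n.1.2, mem_cn.2 (by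
        have h : pt D (n.1.1 * g) = pt D g := n.2
        have := QuotientGroup.eq.1 h
        rw [show g⁻¹ * n.1.1 * g = ((n.1.1 * g)⁻¹ * g)⁻¹ by group]
        exact inv_mem this)⟩
      invFun := fun x => ⟨⟨x.1, x.2.1⟩, by
        show pt D (x.1 * g) = pt D g
        refine QuotientGroup.eq.2 ?_
        have := inv_mem (mem_cn.1 x.2.2)
        rwa [show (x.1 * g)⁻¹ * g = (g⁻¹ * x.1 * g)⁻¹ by group]⟩
      left_inv := fun n => rfl
      right_inv := fun x => rfl }
  have h := Nat.card_congr (MulAction.orbitProdStabilizerEquivGroup ↥(NN D) (pt D g))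
  rw [Nat.card_prod, Nat.card_coe_set_eq, Nat.card_congr e] at h
  exact h

theorem orb_one : (orb D (1 : G)).ncard = 1 := by
  have : orb D (1 : G) = {pt D 1} := by
    refine Set.eq_singleton_iff_unique_mem.2 ⟨self_orb 1, ?_⟩
    rintro _ ⟨n, rfl⟩
    show pt D (n.1 * 1) = pt D 1
    exact QuotientGroup.eq.2 (by simp)
  rw [this, Set.ncard_singleton]

/-- **The seven orbits.** -/
theorem seven_orbits [Finite G] (hN : Nat.card ↥(NN D) = 2 ^ 11 * 244823040)
    (hidx : (NN D).index = 173067389) (K : Known D) (R : Rest D) :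
    ∃ c : Fin 7 → G ⧸ NN D,
      (∀ i j : Fin 7, i ≠ j → MulAction.orbit ↥(NN D) (c i) ≠ MulAction.orbit ↥(NN D) (c j)) ∧
      (∀ q : G ⧸ NN D, ∃ i : Fin 7, q ∈ MulAction.orbit ↥(NN D) (c i)) ∧
      (List.ofFn fun i => (MulAction.orbit ↥(NN D) (c i)).ncard) =
        [1, 15180, 28336, 3400320, 32643072, 54405120, 82575360] := by
  classical
  haveI : Fintype (G ⧸ NN D) := Fintype.ofFinite _
  let Kn : Set (G ⧸ NN D) := orb D 1 ∪ orb D K.g1 ∪ orb D K.g2 ∪ orb D K.g3 ∪ orb D K.g4 ∪ orb D R.g5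
  have hle : Kn.ncard ≤ 1 + 15180 + 28336 + 32643072 + 3400320 + 82575360 := by
    refine (Set.ncard_union_le _ _).trans (Nat.add_le_add ?_ R.size5.le)
    refine (Set.ncard_union_le _ _).trans (Nat.add_le_add ?_ K.size4.le)
    refine (Set.ncard_union_le _ _).trans (Nat.add_le_add ?_ K.size3.le)
    refine (Set.ncard_union_le _ _).trans (Nat.add_le_add ?_ K.size2.le)
    exact (Set.ncard_union_le _ _).trans (Nat.add_le_add orb_one.le K.size1.le)
  have hn : Nat.card (G ⧸ NN D) = 173067389 := hidx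
  have hne : Kn ≠ Set.univ := fun e => by
    rw [e, Set.ncard_univ, hn] at hle
    omega
  obtain ⟨q, hq⟩ := (Set.ne_univ_iff_exists_notMem _).1 hne
  obtain ⟨g6, rfl⟩ := QuotientGroup.mk_surjective q
  have big : ∀ g, Far D g → pt D g ∉ orb D R.g5 → 54405120 ≤ (orb D g).ncard := by
    intro g hf h5
    have h1 := orb_card (D := D) g
    have h2 : Nat.card ↥(st D g) ≤ 9216 := Nat.le_of_dvd (by norm_num) (R.dvd_rest g hf h5)
    rw [hN] at h1
    by_contra hc
    have h4 := Nat.mul_le_mul (show (orb D g).ncard ≤ 54405119 by omega) h2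
    rw [h1] at h4
    norm_num at h4
  simp only [Kn, Set.mem_union, not_or] at hq
  obtain ⟨⟨⟨⟨⟨q0, q1⟩, q2⟩, q3⟩, q4⟩, q5⟩ := hq
  have hfar : Far D g6 := (K.cases g6).resolve_right fun h => by
    rcases h with h | h | h | h | h
    exacts [q0 h, q1 h, q2 h, q3 h, q4 h]
  let c : Fin 7 → G := ![1, K.g1, K.g2, K.g4, K.g3, g6, R.g5]
  -- the orbits
  have d6 : orb D g6 ≠ orb D R.g5 := fun e => q5 (e ▸ self_orb g6)
  have hne' : ∀ g, (orb D g).ncard ≠ (orb D g6).ncard → orb D g ≠ orb D g6 := fun g h e => h (by rw [e])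
  have d : ∀ i j : Fin 7, i ≠ j → orb D (c i) ≠ orb D (c j) := by
    intro i j hij e
    have s := congrArg Set.ncard e
    have six : ∀ g, pt D g6 ∉ orb D g → orb D g ≠ orb D g6 := fun g h e => h (e ▸ self_orb g6)
    fin_cases i <;> fin_cases j <;> simp [c] at hij e s ⊢ <;>
      first
      | (rw [orb_one] at s; simp only [K.size1, K.size2, K.size3, K.size4, R.size5] at s; omega)
      | (simp only [K.size1, K.size2, K.size3, K.size4, R.size5] at s; omega)
      | exact six _ q0 e
      | exact six _ q1 e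
      | exact six _ q2 e
      | exact six _ q3 e
      | exact six _ q4 e
      | exact six _ q5 e
      | exact six _ q0 e.symm
      | exact six _ q1 e.symm
      | exact six _ q2 e.symm
      | exact six _ q3 e.symm
      | exact six _ q4 e.symm
      | exact six _ q5 e.symm
  have hd : ∀ i j : Fin 7, i ≠ j → Disjoint (orb D (c i)) (orb D (c j)) := fun i j hij =>
    Set.disjoint_left.2 fun a ha hb => d i j hij
      ((MulAction.orbit_eq_iff.2 ha).symm.trans (MulAction.orbit_eq_iff.2 hb))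
  let T : Set (G ⧸ NN D) := ⋃ i, orb D (c i)
  have hT : T.ncard = ∑ i, (orb D (c i)).ncard := by
    rw [show T = ⋃ i ∈ ((Finset.univ : Finset (Fin 7)) : Set (Fin 7)), orb D (c i) by simp [T],
      Set.Finite.ncard_biUnion (Finset.finite_toSet _) (fun _ _ => Set.toFinite _)
        (fun i _ j _ hij => hd i j hij), finsum_mem_coe_finset]
  have hsum : ∑ i, (orb D (c i)).ncard =
      1 + 15180 + 28336 + 3400320 + 32643072 + (orb D g6).ncard + 82575360 := by
    simp [Fin.sum_univ_seven, c, orb_one, K.size1, K.size2, K.size3, K.size4, R.size5]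
  have hTle : T.ncard ≤ 173067389 := by
    rw [← hn, ← Set.ncard_univ]
    exact Set.ncard_le_ncard (Set.subset_univ _)
  have h6 := big g6 hfar q5
  have size6 : (orb D g6).ncard = 54405120 := by omega
  have hTu : T = Set.univ := Set.eq_of_subset_of_ncard_le (Set.subset_univ _) (by
    rw [Set.ncard_univ, hn, hT, hsum, size6])
  refine ⟨fun i => pt D (c i), d, fun x => ?_, ?_⟩
  · have hx : x ∈ T := hTu ▸ Set.mem_univ x
    exact Set.mem_iUnion.1 hx
  · show (List.ofFn fun i => (orb D (c i)).ncard) = _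
    simp [List.ofFn_succ, c, orb_one, K.size1, K.size2, K.size3, K.size4, R.size5, size6]

end CfsgLib.J4Type.Rank7
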