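import Cfsg.Agent.Lib.J4Type.Order.TSetup

/-!
The action of the normaliser of the subgroup of order `2 ^ 11` on its conjugates: definitions and
the data exchanged between the parts of the proof of the rank seven.
-/

set_option autoImplicit false

namespace CfsgLib.J4Type.Rank7

open Cfsg Subgroup

variable {G : Type*} [Group G] {z : G} {P : Subgroup G} {F : Frame z P}

/-- The normaliser of `V`. -/
abbrev NN (D : VData F) : Subgroup G := normalizer (D.V : Set G)

/-- The coset of an element. -/
abbrev pt (D : VData F) (g : G) : G ⧸ NN D := QuotientGroup.mk g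

/-- A conjugate of `V`. -/
def cj (D : VData F) (g : G) : Subgroup G := D.V.map (MulAut.conj g).toMonoidHom

/-- A conjugate of the normaliser. -/
def cn (D : VData F) (g : G) : Subgroup G := (NN D).map (MulAut.conj g).toMonoidHom

/-- The orbit of a coset under the normaliser. -/
def orb (D : VData F) (g : G) : Set (G ⧸ NN D) := MulAction.orbit ↥(NN D) (pt D g)

/-- The stabiliser of a coset. -/
def st (D : VData F) (g : G) : Subgroup G := NN D ⊓ cn D g

/-- The two conjugates meet in an involution of central type. -/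
def Adj (D : VData F) (g : G) : Prop := ∃ v ∈ D.V, IsConj z v ∧ v ∈ cj D g

/-- Neither conjugate meets the normaliser of the other. -/
def Far (D : VData F) (g : G) : Prop := D.V ⊓ cn D g = ⊥ ∧ cj D g ⊓ NN D = ⊥

/-- The classes in the normaliser of the involutions outside `V`. -/
structure Classes [Finite G] {D : VData F} (S : Order.TSetup D) : Prop where
  ztype : ∀ y ∈ NN D, y ∉ D.V → IsConj z y →
    Nat.card ↥(NN D ⊓ centralizer ({y} : Set G)) = 2752512 ∨
      Nat.card ↥(NN D ⊓ centralizer ({y} : Set G)) = 491520 ∧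
        ∀ i, S.M.perm y i ≠ i
  zconj : ∀ y ∈ NN D, y ∉ D.V → IsConj z y → ∀ y' ∈ NN D, y' ∉ D.V → IsConj z y' →
    Nat.card ↥(NN D ⊓ centralizer ({y} : Set G)) = Nat.card ↥(NN D ⊓ centralizer ({y'} : Set G)) →
      ∃ n ∈ NN D, n * y * n⁻¹ = y'
  tclasses : ∀ f : Fin 3 → G,
    (∀ i, f i ∈ NN D ∧ f i ∉ D.V ∧ f i * f i = 1 ∧ ¬ IsConj z (f i)) →
      ∃ i j, i ≠ j ∧ ∃ n ∈ NN D, n * f i * n⁻¹ = f j

/-- The five orbits with a nontrivial intersection. -/
structure Known (D : VData F) where
  /-- A representative of the orbit of length `15180`. -/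
  g1 : G
  /-- A representative of the orbit of length `28336`. -/
  g2 : G
  /-- A representative of the orbit of length `32643072`. -/
  g3 : G
  /-- A representative of the orbit of length `3400320`. -/
  g4 : G
  size1 : (orb D g1).ncard = 15180
  size2 : (orb D g2).ncard = 28336
  size3 : (orb D g3).ncard = 32643072
  size4 : (orb D g4).ncard = 3400320
  adj_iff : ∀ g, Adj D g ↔
    pt D g ∈ orb D 1 ∨ pt D g ∈ orb D g1 ∨ pt D g ∈ orb D g2
  adj1 : Adj D g1
  adj2 : Adj D g2
  not_adj3 : ¬ Adj D g3
  not_adj4 : ¬ Adj D g4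
  not_far3 : ¬ Far D g3
  not_far4 : ¬ Far D g4
  inf3 : Nat.card ↥(D.V ⊓ cn D g3) = 2
  cases : ∀ g, Far D g ∨
    pt D g ∈ orb D 1 ∨ pt D g ∈ orb D g1 ∨ pt D g ∈ orb D g2 ∨ pt D g ∈ orb D g3 ∨ pt D g ∈ orb D g4

/-- The orbit of length `82575360` and the stabilisers in the remaining one. -/
structure Rest (D : VData F) where
  /-- A representative of the orbit of length `82575360`. -/
  g5 : G
  size5 : (orb D g5).ncard = 82575360
  far5 : Far D g5
  dvd_rest : ∀ g, Far D g → pt D g ∉ orb D g5 → Nat.card ↥(st D g) ∣ 9216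

end CfsgLib.J4Type.Rank7
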