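import Cfsg.Agent.Lib.J4Type.Rank7.CertData
import Cfsg.Agent.Lib.J4Type.Cert.Decomp
import Cfsg.Agent.Lib.J4Type.Cert.OvalData
import Cfsg.Agent.Lib.J4Type.NV.Graph
import Cfsg.Agent.Lib.J4Type.Order.HRoot
import Cfsg.Agent.Lib.J4Type.Order.CosChecks

/-!
Checks on the tables of the seventy seven conjugates through the central involution.
-/

set_option autoImplicit false
set_option maxRecDepth 100000
set_option maxHeartbeats 4000000

namespace CfsgLib.J4Type.Rank7

open CfsgLib.J4Type.Cert CfsgLib.J4Type.Order

/-- The mask of an image. -/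
def mask (p : ℕ) : ℕ := maskTab.getD p 0

/-- The map sends one image into the other. -/
def imgOK (m : List ℕ) (p q : ℕ) : Bool :=
  (List.range 6).all fun i => (mask q).testBit (mv m (mv (rM p) (2 ^ i)))

/-- A tree of conjugates under maps. -/
def treeOK (gs : List (List ℕ)) (T : List (ℕ × ℕ × ℕ)) : Bool :=
  (List.range T.length).all fun k =>
    Nat.blt (T.getD k (0, 0, 0)).1 77 && (Nat.beq k 0 || (Nat.blt (T.getD k (0, 0, 0)).2.1 k &&
      Nat.blt (T.getD k (0, 0, 0)).2.2 gs.length &&
      imgOK (gs.getD (T.getD k (0, 0, 0)).2.2 idM) (T.getD (T.getD k (0, 0, 0)).2.1 (0, 0, 0)).1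
        (T.getD k (0, 0, 0)).1))

/-- The generators of the stabiliser of the plane. -/
def gensN : List (List ℕ) := [kX, kA, kB, qU, sig]

/-- A coded element of the plane of central type in both conjugates. -/
def common (p n : ℕ) : Bool :=
  !Nat.beq n 0 && !NV.inB n && Nat.blt (mv (rM p) (n % 64)) 64

/-- The matrix of a witness. -/
def witM (q : ℕ × ℕ × ℕ × Bool × ℕ × ℕ) : List ℕ :=
  mm (rM q.1) (bif q.2.2.2.1 then mm (mm (qM q.2.1) (kM q.2.2.1)) sig
    else mm (qM q.2.1) (kM q.2.2.1))

/-- The matrices of the witnesses. -/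
def gens2 : List (List ℕ) := wit2.map witM

/-- The matrices of the witnesses. -/
def gens3 : List (List ℕ) := wit3.map witM

/-- The product of coded elements modulo the central involution. -/
def cm (u v : ℕ × List ℕ) : ℕ × List ℕ := (u.1 ^^^ mv u.2 v.1, mm u.2 v.2)

/-- The product of a word. -/
def cprod : List (ℕ × List ℕ) → ℕ × List ℕ
  | [] => (0, idM)
  | a :: l => cm a (cprod l)

/-- Two words which do not commute or whose product is excluded. -/
def bad (u v : List (ℕ × List ℕ)) : Bool :=
  !(cprod (u ++ v) == cprod (v ++ u)) || ((cprod (u ++ v)).2 == idM &&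
    (qF (cprod (u ++ v)).1 || oneMask.testBit (cprod (u ++ v)).1))

/-- The word of a conjugate of an element of `V`. -/
def wordW (p : ℕ) (pi : List ℕ) (n : ℕ) : List (ℕ × List ℕ) :=
  [(0, rM p), (n % 64, upTab.getD (n / 128) idM), (0, pi)]

/-- The word of the root. -/
def wordX : List (ℕ × List ℕ) := [(0, kr 2)]

/-- The word of the witness with a given shift. -/
def wordH (f : ℕ) : List (ℕ × List ℕ) := [(f, witM (wit2.getD 0 (0, 0, 0, false, 0, 0)))]

/-- The word of its inverse. -/
def wordHi (f : ℕ) : List (ℕ × List ℕ) := [(mv witInv f, witInv)]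

/-- A word is excluded from the conjugate. -/
def killed (f : ℕ) (s : List (ℕ × List ℕ)) : Bool :=
  bad s wordX || (bad s (wordH f ++ (s ++ wordHi f)) || bad wordX (wordH f ++ (s ++ wordHi f)))

theorem mask_ok : ((List.range 77).all fun p => Nat.beq (mask p)
    ((List.range 64).foldl (fun m v => m ||| 2 ^ mv (rM p) v) 0)) = true := by decide +kernel

theorem mask_ne : ((List.range 77).all fun p => (List.range 77).all fun q => Nat.beq p q ||
    (List.range 6).any fun i => !(mask q).testBit (mv (rM p) (2 ^ i))) = true := by decide +kernel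

theorem gensN_stab : (gensN.all stabF) = true := by decide +kernel

theorem tree16_ok : (treeOK gensN tree16 && treeOK gensN tree60) = true := by decide +kernel

theorem adj_cover : ((List.range 77).all fun p => Nat.beq p 0 || (tree16.map Prod.fst).contains p ||
    (tree60.map Prod.fst).contains p) = true := by decide +kernel

theorem adj_count : ((tree16.all fun t => Nat.beq ((List.range 128).filter (common t.1)).length 1) &&
    (tree60.all fun t => Nat.beq ((List.range 128).filter (common t.1)).length 7) &&
    Nat.beq tree16.length 16 && Nat.beq tree60.length 60 &&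
    decide (tree16.map Prod.fst).Nodup && decide (tree60.map Prod.fst).Nodup) = true := by
  decide +kernel

theorem line_ok : ((List.range 77).all fun p => Nat.beq p 0 || (List.range 16).all fun c' =>
    Nat.beq c' 0 || (List.range 16).all fun c =>
      !(mm (rM p) (upTab.getD c' idM) == mm (upTab.getD c idM) (rM p))) = true := by decide +kernel

theorem t_witness : (NV.inB 1 && !Nat.blt (mv (rM 30) 1) 64 && !Nat.blt (mv (rM 1) 1) 64) = true := by
  decide +kernel

theorem upTab_ok : ((List.range 16).all fun c => upTab.getD c idM == NV.upM c) = true := by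
  decide +kernel

theorem root_ok : (([2, 3] : List ℕ).all fun c => (List.range 77).all fun p =>
    (List.range 16).all fun c' =>
      !(mm (kr c) (rM p) == mm (rM p) (upTab.getD c' idM))) = true := by decide +kernel

theorem fix_ok : ((fix2.all fun p => Nat.blt p 77 && imgOK (kr 2) p p) &&
    (fix3.all fun p => Nat.blt p 77 && imgOK (kr 3) p p)) = true := by decide +kernel

theorem part2 : ((List.range 77).all fun p => fix2.contains p || (tree32.map Prod.fst).contains p ||
    (tree40.map Prod.fst).contains p) = true := by decide +kernel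

theorem part3 : ((List.range 77).all fun p => fix3.contains p ||
    (tree56.map Prod.fst).contains p) = true := by decide +kernel

theorem trees_ok : (treeOK gens2 tree32 && treeOK gens2 tree40 && treeOK gens3 tree56 &&
    Nat.beq tree32.length 32 && Nat.beq tree40.length 40 && Nat.beq tree56.length 56 &&
    decide (tree32.map Prod.fst).Nodup && decide (tree40.map Prod.fst).Nodup &&
    decide (tree56.map Prod.fst).Nodup &&
    Nat.beq (tree32.getD 0 (0, 0, 0)).1 4 && Nat.beq (tree40.getD 0 (0, 0, 0)).1 1) = true := by
  decide +kernel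

theorem wit_bound : ((wit2 ++ wit3).all fun q => Nat.blt q.1 77 && Nat.blt q.2.1 16 &&
    Nat.blt q.2.2.1 1080 && Nat.blt q.2.2.2.2.1 4096 && Nat.blt q.2.2.2.2.2 4096) = true := by
  decide +kernel

theorem wit_comm : ((wit2.all fun q => mm (witM q) (kr 2) == mm (kr 2) (witM q)) &&
    (wit3.all fun q => mm (witM q) (kr 3) == mm (kr 3) (witM q))) = true := by decide +kernel

theorem wit2_shift : (wit2.all fun q =>
    Nat.beq (shift (kr 2) q.2.2.2.2.1 (eact (witM q) (linB (witM q)) 0)) 0 &&
    Nat.beq (emul (shift (kr 2) q.2.2.2.2.2 (eact (witM q) (linB (witM q)) 0)) 4096) 0) = true := by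
  decide +kernel

theorem wit3_shift : (wit3.all fun q =>
    Nat.beq (shift (kr 3) q.2.2.2.2.1 (eact (witM q) (linB (witM q)) 4096)) 4096 &&
    Nat.beq (emul (shift (kr 3) q.2.2.2.2.1 (eact (witM q) (linB (witM q)) 4096)) 4096) 0) = true := by
  decide +kernel

theorem wit_order : (powM (witM (wit2.getD 0 (0, 0, 0, false, 0, 0))) 5 == idM &&
    !(witM (wit2.getD 0 (0, 0, 0, false, 0, 0)) == idM) &&
    powM (witM (wit3.getD 0 (0, 0, 0, false, 0, 0))) 7 == idM &&
    !(witM (wit3.getD 0 (0, 0, 0, false, 0, 0)) == idM)) = true := by decide +kernel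

theorem inv_ok : (mm (witM (wit2.getD 0 (0, 0, 0, false, 0, 0))) witInv == idM &&
    mm (rM 4) repInv32 == idM && mm (rM 1) repInv40 == idM) = true := by decide +kernel

theorem kill32_ok : (([0, 264] : List ℕ).all fun f => (List.range 2048).all fun n =>
    Nat.beq n 0 || Nat.beq n 64 || NV.inB n ||
      killed f (wordW 4 repInv32 n ++ (wordX ++ wordW 4 repInv32 n))) = true := by decide +kernel

theorem kill40_ok : (([0, 264] : List ℕ).all fun f => (List.range 2048).all fun n =>
    Nat.beq n 0 || Nat.beq n 64 || NV.inB n || killed f (wordW 1 repInv40 n)) = true := by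
  decide +kernel

theorem five_ok : (!NV.inB 5 && !NV.inB 69 && Nat.beq (eact (kr 2) (linB (kr 2)) (mv (rM 1) 5))
      (mv (rM 1) 5) &&
    Nat.beq (eact (kr 2) (linB (kr 2)) (mv (rM 1) 5 + 4096)) (mv (rM 1) 5 + 4096)) = true := by
  decide +kernel

theorem inT_roots : inT true true false true 2 0 = true ∧ inT true true false true 3 4096 = true ∧
    inT true true false true 3 0 = false := by decide +kernel

end CfsgLib.J4Type.Rank7
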