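import Cfsg.Agent.Lib.J4Type.Rank7.Basic
import Cfsg.Agent.Lib.J4Type.Order.TCount

/-!
The classes in the normaliser of `V` of the involutions outside `V`: two of central type, with
centralisers of orders `2752512` and `491520`, and at most two of pair type.
-/

set_option autoImplicit false
set_option linter.style.haveILetI false
set_option maxRecDepth 100000

namespace CfsgLib.J4Type.Rank7

open Cfsg Subgroup CfsgLib.Golay CfsgLib.Mathieu
open CfsgLib.J4Type.Order
open CfsgLib.J4Type.Frame (vE Acts coV pairV)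
open CfsgLib.J4Type.Order.TSetup (matOK zType rp inIm rp_spec rp_sq)

variable {G : Type*} [Group G] [Finite G] {z : G} {P : Subgroup G} {F : Frame z P} {D : VData F}
variable (S : TSetup D)

/-- The permutations of `M24` commuting with a given one. -/
def comm24 (σ : Equiv.Perm GolayPt) : Subgroup (Equiv.Perm GolayPt) :=
  M24 ⊓ centralizer ({σ} : Set (Equiv.Perm GolayPt))

omit [Finite G] in
theorem mem_comm24 {σ τ : Equiv.Perm GolayPt} : τ ∈ comm24 σ ↔ τ ∈ M24 ∧ τ * σ = σ * τ := by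
  rw [comm24, Subgroup.mem_inf, Subgroup.mem_centralizer_iff]
  simp only [Set.mem_singleton_iff, forall_eq]
  exact and_congr_right fun _ => eq_comm

theorem card_comm24_conj {d : Equiv.Perm GolayPt} (hd : d ∈ M24) (r : Equiv.Perm GolayPt) :
    Nat.card (comm24 (d * r * d⁻¹)) = Nat.card (comm24 r) := by
  have h : ∀ τ, τ ∈ comm24 r → d * τ * d⁻¹ ∈ comm24 (d * r * d⁻¹) := fun τ hτ => by
    obtain ⟨h1, h2⟩ := mem_comm24.1 hτ
    refine mem_comm24.2 ⟨mul_mem (mul_mem hd h1) (inv_mem hd), ?_⟩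
    calc d * τ * d⁻¹ * (d * r * d⁻¹) = d * (τ * r) * d⁻¹ := by group
      _ = d * r * d⁻¹ * (d * τ * d⁻¹) := by rw [h2]; group
  have h' : ∀ τ, τ ∈ comm24 (d * r * d⁻¹) → d⁻¹ * τ * d ∈ comm24 r := fun τ hτ => by
    obtain ⟨h1, h2⟩ := mem_comm24.1 hτ
    refine mem_comm24.2 ⟨mul_mem (mul_mem (inv_mem hd) h1) hd, ?_⟩
    calc d⁻¹ * τ * d * r = d⁻¹ * (τ * (d * r * d⁻¹)) * d := by group
      _ = r * (d⁻¹ * τ * d) := by rw [h2]; group
  exact Nat.card_congr
    { toFun := fun τ => ⟨_, h' _ τ.2⟩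
      invFun := fun τ => ⟨_, h _ τ.2⟩
      left_inv := fun τ => Subtype.ext (by simp only; group)
      right_inv := fun τ => Subtype.ext (by simp only; group) }

theorem card_comm24_rep (t n : ℕ) (h : Nat.card (commFix [] [t]) = n) :
    Nat.card (comm24 (permOf t)) = n := by
  rw [← h]
  refine Nat.card_congr (Equiv.subtypeEquivRight fun τ => ?_)
  rw [mem_comm24, mem_commFix, mem_fixMasks]
  simp

theorem rp_points : (∃ p, rp 0 p = p) ∧ ∀ p, rp 2 p ≠ p := by
  have h0 : ((List.range 24).any fun i => Nat.beq (img (invAt (rootOf 0)) i) i) = true := by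
    decide +kernel
  have h2 : ((List.range 24).all fun i => !Nat.beq (img (invAt (rootOf 2)) i) i) = true := by
    decide +kernel
  have hv0 := inv_valid' (root_lt (t := 0) (by norm_num)).1
  have hv2 := inv_valid' (root_lt (t := 2) (by norm_num)).1
  constructor
  · obtain ⟨i, hi, e⟩ := List.any_eq_true.1 h0
    have hi := List.mem_range.1 hi
    exact ⟨Golay.pt i, by rw [rp, Lp, permOf_pt hv0 hi, Nat.eq_of_beq_eq_true e]⟩
  · intro p e
    have hp := List.all_eq_true.1 h2 (idx p) (List.mem_range.2 (idx_lt p))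
    rw [rp, Lp, permOf_apply hv2] at e
    have := congrArg idx e
    rw [idx_pt (valid_lt hv2 (idx_lt p))] at this
    rw [this, Nat.beq_refl] at hp
    exact Bool.noConfusion hp

theorem card_comm24_rp (S : TSetup D) :
    Nat.card (comm24 (rp 0)) = 21504 ∧ Nat.card (comm24 (rp 2)) = 7680 := by
  have e0 : Nat.card (comm24 (permOf tOct)) = 21504 :=
    card_comm24_rep _ _ (by rw [show [tOct] = tOctPows from rfl]; exact card_comm_tOct)
  have e2 : Nat.card (comm24 (permOf tFree)) = 7680 :=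
    card_comm24_rep _ _ (by rw [show [tFree] = tFreePows from rfl]; exact card_comm_tFree)
  obtain ⟨⟨p, hp⟩, hf⟩ := rp_points
  constructor
  · rcases invol_cases (rp_spec (c := 0) (by norm_num)).2.2 (S.orderOf_rp (by norm_num)) with
      ⟨d, hd, e, -⟩ | ⟨d, hd, -, e⟩
    · rw [e, card_comm24_conj hd, e0]
    · exact absurd hp ((fixS_eq_empty_iff.1 e) p)
  · rcases invol_cases (rp_spec (c := 2) (by norm_num)).2.2 (S.orderOf_rp (by norm_num)) with
      ⟨d, hd, -, e⟩ | ⟨d, hd, e, -⟩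
    · rw [fixS_eq_empty_iff.2 hf, Finset.card_empty] at e
      omega
    · rw [e, card_comm24_conj hd, e2]

/-- The elements of the normaliser whose permutation commutes with a given one. -/
def overComm (σ : Equiv.Perm GolayPt) : Subgroup G where
  carrier := {n | n ∈ NN D ∧ S.M.perm n * σ = σ * S.M.perm n}
  one_mem' := ⟨one_mem _, by rw [(S.M.perm_eq_one 1 (one_mem _)).2 (one_mem _), one_mul, mul_one]⟩
  mul_mem' := fun {a b} ha hb => ⟨mul_mem ha.1 hb.1, by
    rw [S.M.perm_mul _ ha.1 _ hb.1, mul_assoc, hb.2, ← mul_assoc, ha.2, mul_assoc]⟩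
  inv_mem' := fun {a} ha => ⟨inv_mem ha.1, by
    rw [S.perm_inv ha.1, inv_mul_eq_iff_eq_mul, ← mul_assoc, ha.2, mul_inv_cancel_right]⟩

theorem card_overComm (σ : Equiv.Perm GolayPt) :
    Nat.card (overComm S σ) = 2048 * Nat.card (comm24 σ) := by
  let f : Fin 2048 × comm24 σ → overComm S σ := fun p =>
    ⟨S.el p.1 p.2, S.el_N p.1.2 (mem_comm24.1 p.2.2).1,
      by rw [S.perm_el p.1.2 (mem_comm24.1 p.2.2).1]; exact (mem_comm24.1 p.2.2).2⟩
  have hf : Function.Bijective f := by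
    constructor
    · rintro ⟨a, τ⟩ ⟨b, τ'⟩ e
      obtain ⟨h1, h2⟩ := S.el_inj a.2 b.2 (mem_comm24.1 τ.2).1 (mem_comm24.1 τ'.2).1
        (congrArg Subtype.val e)
      exact Prod.ext (Fin.ext h1) (Subtype.ext h2)
    · rintro ⟨n, hn, hc⟩
      obtain ⟨a, ha, e⟩ := S.exists_el hn
      exact ⟨(⟨a, ha⟩, ⟨S.M.perm n, mem_comm24.2 ⟨S.M.perm_mem n hn, hc⟩⟩), Subtype.ext e.symm⟩
  rw [← Nat.card_eq_of_bijective f hf, Nat.card_prod, Nat.card_eq_fintype_card (α := Fin 2048),
    Fintype.card_fin]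

/-- Conjugate by an element over the centraliser of `σ`. -/
def Lnk (σ : Equiv.Perm GolayPt) (x y : G) : Prop := ∃ n ∈ overComm S σ, n * x * n⁻¹ = y

theorem lnk_refl (σ : Equiv.Perm GolayPt) (x : G) : Lnk S σ x x := ⟨1, one_mem _, by group⟩

theorem lnk_symm {σ : Equiv.Perm GolayPt} {x y : G} : Lnk S σ x y → Lnk S σ y x := by
  rintro ⟨n, hn, rfl⟩; exact ⟨n⁻¹, inv_mem hn, by group⟩

theorem lnk_trans {σ : Equiv.Perm GolayPt} {x y w : G} :
    Lnk S σ x y → Lnk S σ y w → Lnk S σ x w := by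
  rintro ⟨n, hn, rfl⟩ ⟨m, hm, rfl⟩; exact ⟨m * n, mul_mem hm hn, by group⟩

/-- Moving along a tree inside the normaliser. -/
theorem tree_lnk {c : ℕ} (hc : c < 3) {T : List (ℕ × ℕ × ℕ × ℕ)} {mask : ℕ}
    (h : treeOK c T mask = true) {a : ℕ} (ha : a < 2048) (hm : mask.testBit a = true) :
    Lnk S (rp c) (S.el (T.getD 0 (0, 0, 0, 0)).1 (rp c)) (S.el a (rp c)) := by
  simp only [treeOK, Bool.and_eq_true, List.all_eq_true, List.mem_range] at h
  obtain ⟨hk, hcov⟩ := h
  have key : ∀ k < T.length, Lnk S (rp c) (S.el (T.getD 0 (0, 0, 0, 0)).1 (rp c))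
      (S.el (T.getD k (0, 0, 0, 0)).1 (rp c)) := by
    intro k
    induction k using Nat.strong_induction_on with
    | _ k ih =>
      intro hkl
      have hh := hk k hkl
      simp only [Bool.and_eq_true, Bool.or_eq_true, Nat.blt_eq, Nat.beq_eq] at hh
      obtain ⟨⟨⟨ha', -⟩, -⟩, hh⟩ := hh
      rcases hh with rfl | ⟨hp, hh⟩
      · exact lnk_refl S _ _
      have hpl := hp.trans hkl
      have hpar := hk _ hpl
      simp only [Bool.and_eq_true, Nat.blt_eq] at hpar
      have hp2 : (T.getD (T.getD k (0, 0, 0, 0)).2.1 (0, 0, 0, 0)).1 < 2048 := hpar.1.1.1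
      refine lnk_trans S (ih _ hp hpl) ?_
      set p := (T.getD (T.getD k (0, 0, 0, 0)).2.1 (0, 0, 0, 0)).1
      obtain ⟨hrm, -, hr24⟩ := rp_spec hc
      cases hj : Nat.blt (T.getD k (0, 0, 0, 0)).2.2.1 3 with
      | true =>
        rw [hj, cond_true, Nat.beq_eq] at hh
        set j := (T.getD k (0, 0, 0, 0)).2.2.1
        have hm := List.all_eq_true.1 mats_ok c (List.mem_range.2 hc)
        simp only [Bool.and_eq_true, List.all_eq_true, List.mem_range] at hm
        obtain ⟨⟨hg, hgm⟩, hgc⟩ := hm.2 j (Nat.le_of_ble_eq_true hj)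
        have hgM := inM24_mem hg
        have hact := S.acts_of_perm (S.kap_N hgM) hgm (S.kap_spec hgM).2
        have hgc' : permOf (mGen c j) * rp c = rp c * permOf (mGen c j) :=
          eqProd_sound (inM24_valid hg) (inv_valid' (root_lt hc).1) (inv_valid' (root_lt hc).1)
            (inM24_valid hg) hgc
        refine ⟨S.kap (permOf (mGen c j)), ⟨S.kap_N hgM, by rw [(S.kap_spec hgM).2]; exact hgc'⟩, ?_⟩
        rw [← hh, TSetup.el, TSetup.el, ← hact.2 p hp2]
        have hk' : S.kap (permOf (mGen c j)) * S.kap (rp c) = S.kap (rp c) * S.kap (permOf (mGen c j)) := by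
          rw [← S.kap_mul hgM hr24, ← S.kap_mul hr24 hgM, hgc']
        calc S.kap (permOf (mGen c j)) * (vE D p * S.kap (rp c)) * (S.kap (permOf (mGen c j)))⁻¹
            = S.kap (permOf (mGen c j)) * vE D p * (S.kap (permOf (mGen c j)))⁻¹ *
              (S.kap (permOf (mGen c j)) * S.kap (rp c) * (S.kap (permOf (mGen c j)))⁻¹) := by group
          _ = _ := by rw [hk', mul_inv_cancel_right]
      | false =>
        rw [hj, cond_false] at hh
        simp only [Bool.and_eq_true, Nat.blt_eq, Nat.beq_eq] at hh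
        obtain ⟨hv, hh⟩ := hh
        set v := (T.getD k (0, 0, 0, 0)).2.2.2
        have hvN := Subgroup.le_normalizer (Frame.vE_mem D hv)
        refine ⟨vE D v, ⟨hvN, by
          rw [(S.M.perm_eq_one _ hvN).2 (Frame.vE_mem D hv), one_mul, mul_one]⟩, ?_⟩
        have hvi : (vE D v)⁻¹ = vE D v := inv_eq_of_mul_eq_one_right (Frame.V_sq D (Frame.vE_mem D hv))
        have hvp : v ^^^ p < 2048 := Nat.xor_lt_two_pow (n := 11) hv hp2
        rw [hvi, show vE D v * S.el p (rp c) = S.el (v ^^^ p) (rp c) by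
          rw [TSetup.el, TSetup.el, Frame.vE_xor D hv hp2]; group, ← S.el_one_perm v,
          show rp c = permOf (invAt (rootOf c)) from rfl, S.el_mul hvp hv hr24 hrm (one_mem _), mul_one, hh]
  have := hcov a ha
  rw [Bool.or_eq_true, Bool.not_eq_true', hm] at this
  rcases this with h' | h'
  · exact Bool.noConfusion h'
  · obtain ⟨e, he, hea⟩ := List.any_eq_true.1 h'
    obtain ⟨k, hkl, rfl⟩ := List.mem_iff_getElem.1 he
    have := key k hkl
    rwa [List.getD_eq_getElem _ _ hkl, Nat.eq_of_beq_eq_true hea] at this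

/-- Fixed vectors of equal type are linked. -/
theorem type_lnk {bit : Bool} {c : ℕ} (hc : c < 3) {a b : ℕ} (ha : a < 2048) (hb : b < 2048)
    (ha' : mv (rMat c) a = a) (hb' : mv (rMat c) b = b)
    (he : zType bit c a = zType bit c b) : Lnk S (rp c) (S.el a (rp c)) (S.el b (rp c)) := by
  have hi : inIm c a = inIm c b := by
    simp only [zType] at he
    revert he
    cases inIm c a <;> cases inIm c b <;> cases bit && Nat.beq c 2 <;> simp
  have ht := List.all_eq_true.1 trees_ok c (List.mem_range.2 hc)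
  simp only [Bool.and_eq_true] at ht
  cases hia : inIm c a
  · have hr := (TSetup.fixed_cases hc ha ha').resolve_left (by simp [hia])
    have hr' := (TSetup.fixed_cases hc hb hb').resolve_left (by simp [← hi, hia])
    exact lnk_trans S (lnk_symm S (tree_lnk S hc ht.2 ha hr)) (tree_lnk S hc ht.2 hb hr')
  · exact lnk_trans S (lnk_symm S (tree_lnk S hc ht.1 ha hia))
      (tree_lnk S hc ht.1 hb (show inIm c b = true from hi ▸ hia))

theorem zList_length : (zList false 0).length = 16 ∧ (zList true 0).length = 16 ∧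
    (zList false 2).length = 32 ∧ (zList true 2).length = 32 := by decide +kernel

variable {bit : Bool} (hbit : ∀ c < 3, ∀ a < 2048, mv (rMat c) a = a →
    (IsConj z (S.el a (rp c)) ↔ zType bit c a = true))

include hbit in
/-- The orders of the centralisers. -/
theorem card_cent_el {c : ℕ} (hc : c < 3) {a : ℕ} (ha : a ∈ zList bit c) :
    Nat.card ↥(NN D ⊓ centralizer ({S.el a (rp c)} : Set G)) * (zList bit c).length =
      2048 * Nat.card (comm24 (rp c)) := by
  classical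
  obtain ⟨hal, haf, haz⟩ := mem_zList.1 ha
  set y := S.el a (rp c)
  set H := overComm S (rp c)
  have hyN : y ∈ NN D := S.el_N hal (rp_spec hc).2.2
  have hyp : S.M.perm y = rp c := S.perm_el hal (rp_spec hc).2.2
  rw [← card_overComm S (rp c)]
  let f : H → {b // b ∈ (zList bit c).toFinset} → Prop := fun n b =>
    (n : G) * y * (n : G)⁻¹ = S.el b.1 (rp c)
  have hex : ∀ n : H, ∃ b, f n b := fun n => by
    have hnN : (n : G) ∈ NN D := n.2.1
    have hu : (n : G) * y * (n : G)⁻¹ ∈ NN D := mul_mem (mul_mem hnN hyN) (inv_mem hnN)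
    have hup : S.M.perm ((n : G) * y * (n : G)⁻¹) = rp c := by
      rw [S.M.perm_mul _ (mul_mem hnN hyN) _ (inv_mem hnN), S.M.perm_mul _ hnN _ hyN,
        S.perm_inv hnN, hyp, n.2.2, mul_inv_cancel_right]
    obtain ⟨b, hb, e⟩ := S.exists_el hu
    rw [hup] at e
    have hz : IsConj z ((n : G) * y * (n : G)⁻¹) :=
      ((hbit c hc a hal haf).2 haz).trans (isConj_iff.2 ⟨n, rfl⟩)
    rw [e] at hz
    have hbf := (S.el_rp_sq hc hb).1 (S.sq_of_isConj_z hz).1
    exact ⟨⟨b, List.mem_toFinset.2 (mem_zList.2 ⟨hb, hbf, (hbit c hc b hb hbf).1 hz⟩)⟩, e⟩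
  choose g hg using hex
  let C : Subgroup H := (centralizer ({y} : Set G)).subgroupOf H
  have hCcard : Nat.card C = Nat.card ↥(NN D ⊓ centralizer ({y} : Set G)) := by
    refine Nat.card_congr
      { toFun := fun x => ⟨x.1.1, x.1.2.1, x.2⟩
        invFun := fun x => ⟨⟨x.1, x.2.1, ?_⟩, x.2.2⟩
        left_inv := fun x => rfl
        right_inv := fun x => rfl }
    have h := Subgroup.mem_centralizer_iff.1 x.2.2 y rfl
    rw [← hyp, ← S.M.perm_mul _ x.2.1 _ hyN, ← S.M.perm_mul _ hyN _ x.2.1, h]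
  rw [← hCcard, ← Subgroup.card_mul_index C]
  congr 1
  have hsame : ∀ n m : H, g n = g m ↔ n⁻¹ * m ∈ C := fun n m => by
    constructor
    · intro e
      have e' : (n : G) * y * (n : G)⁻¹ = (m : G) * y * (m : G)⁻¹ :=
        (hg n).trans ((congrArg (fun b => S.el b.1 (rp c)) e).trans (hg m).symm)
      rw [Subgroup.mem_subgroupOf, Subgroup.mem_centralizer_iff]
      intro w hw
      rw [Set.mem_singleton_iff.1 hw]
      push_cast
      calc y * ((n : G)⁻¹ * m) = (n : G)⁻¹ * ((n : G) * y * (n : G)⁻¹) * m := by group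
        _ = (n : G)⁻¹ * m * y := by rw [e']; group
    · intro h
      rw [Subgroup.mem_subgroupOf, Subgroup.mem_centralizer_iff] at h
      have h' := h y rfl
      push_cast at h'
      have e' : (n : G) * y * (n : G)⁻¹ = (m : G) * y * (m : G)⁻¹ := by
        calc (n : G) * y * (n : G)⁻¹ = (n : G) * (y * ((n : G)⁻¹ * m)) * (m : G)⁻¹ := by group
          _ = (m : G) * y * (m : G)⁻¹ := by rw [h']; group
      have e'' := (hg n).symm.trans (e'.trans (hg m))
      exact Subtype.ext (S.el_inj ((mem_zList.1 (List.mem_toFinset.1 (g n).2)).1)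
        ((mem_zList.1 (List.mem_toFinset.1 (g m).2)).1) (rp_spec hc).2.2 (rp_spec hc).2.2 e'').1
  let ψ : H ⧸ C → {b // b ∈ (zList bit c).toFinset} :=
    Quotient.lift g fun n m h => (hsame n m).2 (QuotientGroup.leftRel_apply.1 h)
  have hψ : Function.Bijective ψ := by
    constructor
    · intro p q
      induction p using Quotient.inductionOn with
      | h n =>
        induction q using Quotient.inductionOn with
        | h m => exact fun e => Quotient.sound (QuotientGroup.leftRel_apply.2 ((hsame n m).1 e))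
    · rintro ⟨b, hb⟩
      obtain ⟨hbl, hbf, hbz⟩ := mem_zList.1 (List.mem_toFinset.1 hb)
      obtain ⟨n, hn, e⟩ := type_lnk S (bit := bit) hc hal hbl haf hbf (haz.trans hbz.symm)
      refine ⟨Quotient.mk _ ⟨n, hn⟩, Subtype.ext ?_⟩
      exact (S.el_inj (mem_zList.1 (List.mem_toFinset.1 (g ⟨n, hn⟩).2)).1 hbl (rp_spec hc).2.2
        (rp_spec hc).2.2 ((hg ⟨n, hn⟩).symm.trans e)).1
  rw [Subgroup.index, Nat.card_eq_of_bijective ψ hψ, Nat.card_eq_fintype_card, Fintype.card_coe,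
    List.toFinset_card_of_nodup (TSetup.list_ok.1 bit c).1]

omit [Finite G] in
theorem card_cent_conj {n : G} (hn : n ∈ NN D) (y : G) :
    Nat.card ↥(NN D ⊓ centralizer ({n * y * n⁻¹} : Set G)) =
      Nat.card ↥(NN D ⊓ centralizer ({y} : Set G)) := by
  have h : ∀ m : G, m ∈ NN D → ∀ y x : G, x ∈ NN D ⊓ centralizer ({y} : Set G) →
      m * x * m⁻¹ ∈ NN D ⊓ centralizer ({m * y * m⁻¹} : Set G) := fun m hm y x hx => by
    refine ⟨(NN D).mul_mem ((NN D).mul_mem hm hx.1) ((NN D).inv_mem hm), Subgroup.mem_centralizer_iff.2 fun w hw => ?_⟩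
    rw [Set.mem_singleton_iff.1 hw]
    calc m * y * m⁻¹ * (m * x * m⁻¹) = m * (y * x) * m⁻¹ := by group
      _ = m * x * m⁻¹ * (m * y * m⁻¹) := by
        rw [Subgroup.mem_centralizer_iff.1 hx.2 y rfl]; group
  exact Nat.card_congr
    { toFun := fun x => ⟨n⁻¹ * x * n⁻¹⁻¹, by
        have := h n⁻¹ ((NN D).inv_mem hn) _ _ x.2
        rwa [show n⁻¹ * (n * y * n⁻¹) * n⁻¹⁻¹ = y by group] at this⟩
      invFun := fun x => ⟨n * x * n⁻¹, h n hn _ _ x.2⟩
      left_inv := fun x => Subtype.ext (by simp only; group)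
      right_inv := fun x => Subtype.ext (by simp only; group) }

/-- Every involution outside `V` is conjugate into one of two cosets. -/
theorem normal_form {y : G} (hy : y ∈ NN D) (hV : y ∉ D.V) (h2 : y * y = 1) :
    ∃ c, (c = 0 ∨ c = 2) ∧ ∃ a < 2048, mv (rMat c) a = a ∧
      ∃ n ∈ NN D, n * y * n⁻¹ = S.el a (rp c) := by
  haveI : Fact (Nat.Prime 2) := ⟨Nat.prime_two⟩
  set σ := S.M.perm y
  have hσ : σ ∈ M24 := S.M.perm_mem y hy
  have hσ2 : orderOf σ = 2 := by
    refine orderOf_eq_prime ?_ fun e => hV ((S.M.perm_eq_one y hy).1 e)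
    rw [pow_two, ← S.M.perm_mul _ hy _ hy, h2]
    exact (S.M.perm_eq_one 1 (one_mem _)).2 (one_mem _)
  obtain ⟨⟨p0, hp0⟩, hf2⟩ := rp_points
  obtain ⟨c, hc, d, hd, hdσ⟩ : ∃ c, (c = 0 ∨ c = 2) ∧ ∃ d ∈ M24, d * σ * d⁻¹ = rp c := by
    rcases invol_cases hσ hσ2 with ⟨d, hd, e, -⟩ | ⟨d, hd, e, -⟩
    · rcases invol_cases (rp_spec (c := 0) (by norm_num)).2.2 (S.orderOf_rp (by norm_num)) with
        ⟨d', hd', e', -⟩ | ⟨d', hd', -, e'⟩
      · exact ⟨0, Or.inl rfl, d' * d⁻¹, mul_mem hd' (inv_mem hd), by rw [e, e']; group⟩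
      · exact absurd hp0 ((fixS_eq_empty_iff.1 e') p0)
    · rcases invol_cases (rp_spec (c := 2) (by norm_num)).2.2 (S.orderOf_rp (by norm_num)) with
        ⟨d', hd', -, e'⟩ | ⟨d', hd', e', -⟩
      · rw [fixS_eq_empty_iff.2 hf2, Finset.card_empty] at e'
        omega
      · exact ⟨2, Or.inr rfl, d' * d⁻¹, mul_mem hd' (inv_mem hd), by rw [e, e']; group⟩
  have hc3 : c < 3 := by omega
  have hkN := S.kap_N hd
  have hu : S.kap d * y * (S.kap d)⁻¹ ∈ NN D := mul_mem (mul_mem hkN hy) (inv_mem hkN)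
  have hup : S.M.perm (S.kap d * y * (S.kap d)⁻¹) = rp c := by
    rw [S.M.perm_mul _ (mul_mem hkN hy) _ (inv_mem hkN), S.M.perm_mul _ hkN _ hy, S.perm_inv hkN,
      (S.kap_spec hd).2, hdσ]
  obtain ⟨a, ha, e⟩ := S.exists_el hu
  rw [hup] at e
  refine ⟨c, hc, a, ha, (S.el_rp_sq hc3 ha).1 ?_, S.kap d, hkN, e⟩
  rw [← e, show ∀ k x : G, k * x * k⁻¹ * (k * x * k⁻¹) = k * (x * x) * k⁻¹ from fun k x => by group,
    h2, mul_one, mul_inv_cancel]

/-- **The classes of involutions of the normaliser outside `V`.** -/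
theorem classes : Classes S := by
  obtain ⟨bit, hbit⟩ := S.types
  obtain ⟨h0, h1, h2, h3⟩ := zList_length
  obtain ⟨k0, k2⟩ := card_comm24_rp S
  have form : ∀ y ∈ NN D, y ∉ D.V → IsConj z y → ∃ c, (c = 0 ∨ c = 2) ∧ ∃ a ∈ zList bit c,
      ∃ n ∈ NN D, n * y * n⁻¹ = S.el a (rp c) ∧
        Nat.card ↥(NN D ⊓ centralizer ({y} : Set G)) = if c = 0 then 2752512 else 491520 := by
    intro y hy hV hz
    obtain ⟨c, hc, a, ha, hfx, n, hn, e⟩ := normal_form S hy hV (S.sq_of_isConj_z hz).1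
    have hc3 : c < 3 := by omega
    have hz' : IsConj z (S.el a (rp c)) := hz.trans (isConj_iff.2 ⟨n, e⟩)
    have hmem := mem_zList.2 ⟨ha, hfx, (hbit c hc3 a ha hfx).1 hz'⟩
    refine ⟨c, hc, a, hmem, n, hn, e, ?_⟩
    have key := card_cent_el S hbit hc3 hmem
    rw [← card_cent_conj hn y, e]
    rcases hc with rfl | rfl
    · rw [if_pos rfl]
      cases bit
      · rw [h0, k0] at key; omega
      · rw [h1, k0] at key; omega
    · rw [if_neg (by norm_num : ¬ (2 : ℕ) = 0)]
      cases bit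
      · rw [h2, k2] at key; omega
      · rw [h3, k2] at key; omega
  refine ⟨fun y hy hV hz => ?_, fun y hy hV hz y' hy' hV' hz' he => ?_, fun f hf => ?_⟩
  · obtain ⟨c, rfl | rfl, a, ha, n, hn, e, hcard⟩ := form y hy hV hz
    · exact Or.inl (by rw [hcard, if_pos rfl])
    · refine Or.inr ⟨by rw [hcard, if_neg (by norm_num : ¬ (2 : ℕ) = 0)], fun i hi => ?_⟩
      refine rp_points.2 (S.M.perm n i) ?_
      have hp := congrArg S.M.perm e
      rw [S.perm_el (mem_zList.1 ha).1 (rp_spec (by norm_num)).2.2,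
        S.M.perm_mul _ (mul_mem hn hy) _ (inv_mem hn), S.M.perm_mul _ hn _ hy, S.perm_inv hn] at hp
      rw [← hp, Equiv.Perm.mul_apply, Equiv.Perm.mul_apply, Equiv.Perm.inv_def,
        Equiv.symm_apply_apply, hi]
  · obtain ⟨c, hc, a, ha, n, hn, e, hcard⟩ := form y hy hV hz
    obtain ⟨c', hc', a', ha', n', hn', e', hcard'⟩ := form y' hy' hV' hz'
    have hcc : c = c' := by
      rw [hcard, hcard'] at he
      rcases hc with rfl | rfl <;> rcases hc' with rfl | rfl <;> simp at he ⊢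
    subst hcc
    obtain ⟨hl, hfx, ht⟩ := mem_zList.1 ha
    obtain ⟨hl', hfx', ht'⟩ := mem_zList.1 ha'
    obtain ⟨m, hm, em⟩ := type_lnk S (bit := bit) (by omega) hl hl' hfx hfx' (ht.trans ht'.symm)
    refine ⟨n'⁻¹ * m * n, mul_mem (mul_mem (inv_mem hn') hm.1) hn, ?_⟩
    calc n'⁻¹ * m * n * y * (n'⁻¹ * m * n)⁻¹ = n'⁻¹ * (m * (n * y * n⁻¹) * m⁻¹) * n' := by group
      _ = y' := by rw [e, em, ← e']; group
  · have hform : ∀ i, ∃ c, (c = 0 ∨ c = 2) ∧ ∃ a < 2048, mv (rMat c) a = a ∧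
        zType bit c a = false ∧ ∃ n ∈ NN D, n * f i * n⁻¹ = S.el a (rp c) := fun i => by
      obtain ⟨hi, hiV, hi2, hiz⟩ := hf i
      obtain ⟨c, hc, a, ha, hfx, n, hn, e⟩ := normal_form S hi hiV hi2
      refine ⟨c, hc, a, ha, hfx, Bool.eq_false_iff.2 fun h => hiz ?_, n, hn, e⟩
      exact ((hbit c (by omega) a ha hfx).2 h).trans (isConj_iff.2 ⟨n, e⟩).symm
    choose c hc a ha hfx ht n hn e using hform
    obtain ⟨i, j, hij, hcij⟩ : ∃ i j, i ≠ j ∧ c i = c j := by
      rcases hc 0 with h | h <;> rcases hc 1 with h' | h' <;> rcases hc 2 with h'' | h'' <;>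
        first
        | exact ⟨0, 1, by decide, h.trans h'.symm⟩
        | exact ⟨0, 2, by decide, h.trans h''.symm⟩
        | exact ⟨1, 2, by decide, h'.trans h''.symm⟩
    have hl := type_lnk S (bit := bit) (show c i < 3 by rcases hc i with h | h <;> omega) (ha i) (ha j)
      (hfx i) (hcij ▸ hfx j) ((ht i).trans (hcij ▸ ht j).symm)
    obtain ⟨m, hm, em⟩ := hl
    refine ⟨i, j, hij, (n j)⁻¹ * m * n i, mul_mem (mul_mem (inv_mem (hn j)) hm.1) (hn i), ?_⟩
    calc (n j)⁻¹ * m * n i * f i * ((n j)⁻¹ * m * n i)⁻¹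
        = (n j)⁻¹ * (m * (n i * f i * (n i)⁻¹) * m⁻¹) * n j := by group
      _ = f j := by rw [e i, em, hcij, ← e j]; group

end CfsgLib.J4Type.Rank7
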