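import Cfsg.Agent.Lib.J4Type.Rank7.Assembly
import Mathlib.Combinatorics.Enumerative.DoubleCounting
import Mathlib.GroupTheory.GroupAction.Quotient

/-!
General facts about the conjugates of `V` and the orbits of its normaliser on them: the double
count of incidences between a class in the normaliser and the conjugates of one orbit, the
symmetry, and the divisibility at a free orbit.
-/

set_option autoImplicit false
set_option linter.unusedSectionVars false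

namespace CfsgLib.J4Type.Rank7

open Cfsg Subgroup
open Frame (pairV)

variable {G : Type*} [Group G] {z : G} {P : Subgroup G} {F : Frame z P} {D : VData F}

theorem mem_cj {g x : G} : x ∈ cj D g ↔ g⁻¹ * x * g ∈ D.V := by
  rw [cj, Subgroup.mem_map]
  constructor
  · rintro ⟨w, hw, rfl⟩
    show g⁻¹ * (g * w * g⁻¹) * g ∈ _
    rwa [show g⁻¹ * (g * w * g⁻¹) * g = w by group]
  · intro h
    exact ⟨_, h, by show g * (g⁻¹ * x * g) * g⁻¹ = x; group⟩

theorem conj_V {n : G} (hn : n ∈ NN D) {v : G} : n * v * n⁻¹ ∈ D.V ↔ v ∈ D.V :=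
  (mem_normalizer_iff.1 hn v).symm

theorem pt_eq_iff {g h : G} : pt D g = pt D h ↔ g⁻¹ * h ∈ NN D := QuotientGroup.eq

theorem cj_congr {g h : G} (e : pt D g = pt D h) : cj D g = cj D h := by
  have hn := pt_eq_iff.1 e
  ext x
  rw [mem_cj, mem_cj, show g⁻¹ * x * g = (g⁻¹ * h) * (h⁻¹ * x * h) * (g⁻¹ * h)⁻¹ by group, conj_V hn]

theorem cn_congr {g h : G} (e : pt D g = pt D h) : cn D g = cn D h := by
  have hn := pt_eq_iff.1 e
  ext x
  rw [mem_cn, mem_cn]
  constructor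
  · intro hx
    rw [show h⁻¹ * x * h = (g⁻¹ * h)⁻¹ * (g⁻¹ * x * g) * (g⁻¹ * h) by group]
    exact mul_mem (mul_mem (inv_mem hn) hx) hn
  · intro hx
    rw [show g⁻¹ * x * g = (g⁻¹ * h) * (h⁻¹ * x * h) * (g⁻¹ * h)⁻¹ by group]
    exact mul_mem (mul_mem hn hx) (inv_mem hn)

theorem mem_cj_mul {n g x : G} : n * x * n⁻¹ ∈ cj D (n * g) ↔ x ∈ cj D g := by
  rw [mem_cj, mem_cj, show (n * g)⁻¹ * (n * x * n⁻¹) * (n * g) = g⁻¹ * x * g by group]

theorem mem_cn_mul {n g x : G} : n * x * n⁻¹ ∈ cn D (n * g) ↔ x ∈ cn D g := by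
  rw [mem_cn, mem_cn, show (n * g)⁻¹ * (n * x * n⁻¹) * (n * g) = g⁻¹ * x * g by group]

theorem cj_le_cn (g : G) : cj D g ≤ cn D g := Subgroup.map_mono Subgroup.le_normalizer

/-- A conjugate is normalised by the conjugate of the normaliser. -/
theorem cj_normal {g a x : G} (ha : a ∈ cn D g) (hx : x ∈ cj D g) : a * x * a⁻¹ ∈ cj D g := by
  rw [mem_cn] at ha
  rw [mem_cj] at hx ⊢
  rw [show g⁻¹ * (a * x * a⁻¹) * g = (g⁻¹ * a * g) * (g⁻¹ * x * g) * (g⁻¹ * a * g)⁻¹ by group]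
  exact (conj_V ha).2 hx

theorem orb_rep {g h : G} (e : pt D h ∈ orb D g) : ∃ n ∈ NN D, pt D h = pt D (n * g) := by
  obtain ⟨n, hn⟩ := e
  exact ⟨n.1, n.2, hn.symm⟩

theorem mem_orb_of {g : G} {n : G} (hn : n ∈ NN D) : pt D (n * g) ∈ orb D g := ⟨⟨n, hn⟩, rfl⟩

theorem mem_orb_one {g : G} : pt D g ∈ orb D 1 ↔ g ∈ NN D := by
  constructor
  · intro h
    obtain ⟨n, hn, e⟩ := orb_rep h
    have h' := mul_mem hn (inv_mem (pt_eq_iff.1 e))
    rwa [show n * (g⁻¹ * (n * 1))⁻¹ = g by group] at h'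
  · intro h
    have e : pt D g = pt D 1 := pt_eq_iff.2 (by rw [mul_one]; exact inv_mem h)
    rw [e]
    exact self_orb 1

/-- Inversion of representatives. -/
theorem inv_mem_orb {g h : G} (e : pt D g⁻¹ ∈ orb D h) : pt D g ∈ orb D h⁻¹ := by
  obtain ⟨n, hn, e⟩ := orb_rep e
  have hk := pt_eq_iff.1 e
  have : pt D g = pt D ((g * n * h) * h⁻¹) := by
    refine pt_eq_iff.2 ?_
    rwa [show g⁻¹ * (g * n * h * h⁻¹) = n by group]
  rw [this]
  refine mem_orb_of ?_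
  rwa [show g⁻¹⁻¹ * (n * h) = g * n * h by group] at hk

theorem card_st_inv (g : G) : Nat.card ↥(st D g⁻¹) = Nat.card ↥(st D g) := by
  refine Nat.card_congr ((MulAut.conj g).toEquiv.subtypeEquiv fun x => ?_)
  show x ∈ st D g⁻¹ ↔ g * x * g⁻¹ ∈ st D g
  rw [st, st, Subgroup.mem_inf, Subgroup.mem_inf, mem_cn, mem_cn, inv_inv,
    show g⁻¹ * (g * x * g⁻¹) * g = x by group]
  exact and_comm

theorem orb_inv_card [Finite G] (g : G) : (orb D g⁻¹).ncard = (orb D g).ncard := by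
  have h1 := orb_card (D := D) g
  have h2 := orb_card (D := D) g⁻¹
  rw [card_st_inv, ← h1] at h2
  exact Nat.eq_of_mul_eq_mul_right Nat.card_pos h2

theorem Adj.of_orb {g h : G} (a : Adj D g) (e : pt D h ∈ orb D g) : Adj D h := by
  obtain ⟨v, hv, hz, hg⟩ := a
  obtain ⟨n, hn, e⟩ := orb_rep e
  exact ⟨n * v * n⁻¹, (conj_V hn).2 hv, hz.trans (isConj_iff.2 ⟨n, rfl⟩),
    by rw [cj_congr e]; exact mem_cj_mul.2 hg⟩

theorem Adj.inv {g : G} (a : Adj D g) : Adj D g⁻¹ := by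
  obtain ⟨v, hv, hz, hg⟩ := a
  refine ⟨g⁻¹ * v * g, mem_cj.1 hg, hz.trans (isConj_iff.2 ⟨g⁻¹, by group⟩), mem_cj.2 ?_⟩
  rwa [show g⁻¹⁻¹ * (g⁻¹ * v * g) * g⁻¹ = v by group]

/-- The class in the normaliser of an element. -/
def ycl (D : VData F) (y : G) : Set G := {u | ∃ n ∈ NN D, n * y * n⁻¹ = u}

theorem self_ycl (y : G) : y ∈ ycl D y := ⟨1, one_mem _, by group⟩

theorem ycl_conj {y u n : G} (hn : n ∈ NN D) : n * u * n⁻¹ ∈ ycl D y ↔ u ∈ ycl D y := by
  constructor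
  · rintro ⟨m, hm, e⟩
    exact ⟨n⁻¹ * m, mul_mem (inv_mem hn) hm, by
      rw [show n⁻¹ * m * y * (n⁻¹ * m)⁻¹ = n⁻¹ * (m * y * m⁻¹) * n by group, e]; group⟩
  · rintro ⟨m, hm, rfl⟩
    exact ⟨n * m, mul_mem hn hm, by group⟩

theorem ycl_card [Finite G] (y : G) :
    (ycl D y).ncard * Nat.card ↥(NN D ⊓ centralizer ({y} : Set G)) = Nat.card ↥(NN D) := by
  classical
  haveI := Fintype.ofFinite G
  have hY : (ycl D y).toFinset =
      (Finset.univ : Finset ↥(NN D)).image fun n => n.1 * y * n.1⁻¹ := by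
    ext u
    rw [Set.mem_toFinset]
    simp [ycl]
  rw [Set.ncard_eq_toFinset_card', hY, Nat.card_eq_fintype_card (α := ↥(NN D)),
    ← Finset.card_univ,
    Finset.card_eq_sum_card_image (fun n : ↥(NN D) => n.1 * y * n.1⁻¹) (Finset.univ : Finset ↥(NN D))]
  refine (Finset.sum_const_nat fun u hu => ?_).symm
  obtain ⟨⟨m, hm⟩, -, rfl⟩ := Finset.mem_image.1 hu
  rw [← Fintype.card_subtype, ← Nat.card_eq_fintype_card]
  refine Nat.card_congr
    { toFun := fun n => ⟨m⁻¹ * n.1.1, Subgroup.mem_inf.2 ⟨mul_mem (inv_mem hm) n.1.2,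
        mem_centralizer_singleton_iff.2 ?_⟩⟩
      invFun := fun c => ⟨⟨m * c.1, mul_mem hm c.2.1⟩, ?_⟩
      left_inv := fun n => Subtype.ext (Subtype.ext (mul_inv_cancel_left m n.1.1))
      right_inv := fun c => Subtype.ext (inv_mul_cancel_left m c.1) }
  · have e := n.2
    simp only at e
    calc m⁻¹ * n.1.1 * y = m⁻¹ * (n.1.1 * y * n.1.1⁻¹) * n.1.1 := by group
      _ = m⁻¹ * (m * y * m⁻¹) * n.1.1 := by rw [e]
      _ = y * (m⁻¹ * n.1.1) := by group
  · have e := mem_centralizer_singleton_iff.1 c.2.2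
    show m * c.1 * y * (m * c.1)⁻¹ = m * y * m⁻¹
    rw [mul_assoc m, e]
    group

/-- Conjugates of one orbit containing an element. -/
def through (D : VData F) (y g : G) : Set (G ⧸ NN D) :=
  {q | q ∈ orb D g ∧ y ∈ cj D q.out}

theorem out_pt (g : G) : cj D (pt D g).out = cj D g := cj_congr (QuotientGroup.out_eq' _)

theorem mem_through {y g h : G} : pt D h ∈ through D y g ↔ pt D h ∈ orb D g ∧ y ∈ cj D h := by
  show _ ∧ _ ↔ _
  rw [out_pt]

theorem through_card_conj [Finite G] {n : G} (hn : n ∈ NN D) (y g : G) :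
    (through D (n * y * n⁻¹) g).ncard = (through D y g).ncard := by
  have hh : ∀ (m : G) (hm : m ∈ NN D) (u : G), ∀ q ∈ through D u g,
      (⟨m, hm⟩ : ↥(NN D)) • q ∈ through D (m * u * m⁻¹) g := by
    intro m hm u q hq
    obtain ⟨h, rfl⟩ := QuotientGroup.mk_surjective q
    obtain ⟨h1, h2⟩ := mem_through.1 hq
    refine mem_through.2 ⟨?_, mem_cj_mul.2 h2⟩
    obtain ⟨a, ha, e⟩ := orb_rep h1
    have : pt D (m * h) = pt D (m * a * g) := by
      refine pt_eq_iff.2 ?_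
      have := pt_eq_iff.1 e
      rwa [show (m * h)⁻¹ * (m * a * g) = h⁻¹ * (a * g) by group]
    show pt D (m * h) ∈ orb D g
    rw [this]
    exact mem_orb_of (mul_mem hm ha)
  refine (Set.ncard_congr (fun q _ => (⟨n, hn⟩ : ↥(NN D)) • q) (hh n hn y)
    (fun a b _ _ e => MulAction.injective _ e) fun q hq => ?_).symm
  refine ⟨(⟨n⁻¹, inv_mem hn⟩ : ↥(NN D)) • q, ?_, smul_inv_smul (⟨n, hn⟩ : ↥(NN D)) q⟩
  have := hh n⁻¹ (inv_mem hn) _ q hq
  rwa [show n⁻¹ * (n * y * n⁻¹) * n⁻¹⁻¹ = y by group] at this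

/-- The elements of a class in one conjugate. -/
theorem meet_card_orb [Finite G] {g h : G} (y : G) (e : pt D h ∈ orb D g) :
    (ycl D y ∩ (cj D h : Set G)).ncard = (ycl D y ∩ (cj D g : Set G)).ncard := by
  obtain ⟨n, hn, e⟩ := orb_rep e
  rw [cj_congr e]
  refine (Set.ncard_congr (fun u _ => n * u * n⁻¹)
    (fun u hu => Set.mem_inter ((ycl_conj hn).2 hu.1) (mem_cj_mul.2 hu.2))
    (fun a b _ _ e => mul_left_cancel (mul_right_cancel e)) fun u hu =>
    ⟨n⁻¹ * u * n, ?_, by group⟩).symm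
  have e' : n * (n⁻¹ * u * n) * n⁻¹ = u := by group
  exact ⟨(ycl_conj hn).1 (by rw [e']; exact hu.1), mem_cj_mul.1 (by rw [e']; exact hu.2)⟩

/-- **The double count.** -/
theorem double_count [Finite G] (y g : G) :
    (orb D g).ncard * (ycl D y ∩ (cj D g : Set G)).ncard =
      (ycl D y).ncard * (through D y g).ncard := by
  classical
  haveI := Fintype.ofFinite G
  haveI : Fintype (G ⧸ NN D) := Fintype.ofFinite _
  have key := Finset.card_mul_eq_card_mul (r := fun (q : G ⧸ NN D) (u : G) => u ∈ cj D q.out)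
    (s := (orb D g).toFinset) (t := (ycl D y).toFinset)
    (m := (ycl D y ∩ (cj D g : Set G)).ncard) (n := (through D y g).ncard) ?_ ?_
  · rw [← Set.ncard_eq_toFinset_card', ← Set.ncard_eq_toFinset_card'] at key
    exact key
  · intro q hq
    rw [Set.mem_toFinset] at hq
    obtain ⟨h, rfl⟩ := QuotientGroup.mk_surjective q
    rw [← meet_card_orb y hq, Set.ncard_eq_toFinset_card']
    congr 1
    ext u
    simp [Finset.mem_bipartiteAbove, out_pt]
  · intro u hu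
    rw [Set.mem_toFinset] at hu
    obtain ⟨n, hn, rfl⟩ := hu
    rw [← through_card_conj hn y g, Set.ncard_eq_toFinset_card']
    congr 1
    ext q
    rw [Finset.mem_bipartiteBelow, Set.mem_toFinset, Set.mem_toFinset]
    exact Iff.rfl

/-- A set of conjugates on which `V` acts freely has size divisible by `2 ^ 11`. -/
theorem free_dvd [Finite G] (W : Set (G ⧸ NN D))
    (hinv : ∀ g, pt D g ∈ W → ∀ v ∈ D.V, pt D (v * g) ∈ W)
    (hfree : ∀ g, pt D g ∈ W → D.V ⊓ cn D g = ⊥) : 2 ^ 11 ∣ W.ncard := by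
  let A : SubMulAction ↥D.V (G ⧸ NN D) :=
    { carrier := W
      smul_mem' := fun v q hq => by
        obtain ⟨g, rfl⟩ := QuotientGroup.mk_surjective q
        exact hinv g hq v.1 v.2 }
  have hst : ∀ q : A, MulAction.stabilizer ↥D.V q = ⊥ := by
    rintro ⟨q, hq⟩
    obtain ⟨g, rfl⟩ := QuotientGroup.mk_surjective q
    refine (Subgroup.eq_bot_iff_forall _).2 fun v hv => Subtype.ext ?_
    have e : pt D (v.1 * g) = pt D g := congrArg Subtype.val (MulAction.mem_stabilizer_iff.1 hv)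
    have hn : g⁻¹ * v.1 * g ∈ NN D := by
      have := inv_mem (pt_eq_iff.1 e)
      rwa [show ((v.1 * g)⁻¹ * g)⁻¹ = g⁻¹ * v.1 * g by group] at this
    exact (Subgroup.eq_bot_iff_forall _).1 (hfree g hq) v.1 ⟨v.2, mem_cn.2 hn⟩
  have h := Nat.card_congr (MulAction.selfEquivOrbitsQuotientProd (G := ↥D.V) (X := A) hst)
  rw [Nat.card_prod, D.card] at h
  refine ⟨Nat.card (Quotient (MulAction.orbitRel ↥D.V A)), ?_⟩
  rw [mul_comm, ← h]
  exact (Nat.card_coe_set_eq W).symm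

theorem free_orb {g : G} (h0 : D.V ⊓ cn D g = ⊥) {h : G} (e : pt D h ∈ orb D g) :
    D.V ⊓ cn D h = ⊥ := by
  obtain ⟨n, hn, e⟩ := orb_rep e
  refine (Subgroup.eq_bot_iff_forall _).2 fun v hv => ?_
  obtain ⟨hv1, hv2⟩ := hv
  rw [cn_congr e] at hv2
  have e' : v = n * (n⁻¹ * v * n) * n⁻¹ := by group
  rw [e'] at hv1 hv2
  have := (Subgroup.eq_bot_iff_forall _).1 h0 _ ⟨(conj_V hn).1 hv1, mem_cn_mul.1 hv2⟩
  rw [e', this]
  group

theorem free_dvd_orb [Finite G] {g : G} (h0 : D.V ⊓ cn D g = ⊥) : 2 ^ 11 ∣ (orb D g).ncard := by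
  refine free_dvd _ (fun h hh v hv => ?_) fun h hh => free_orb h0 hh
  obtain ⟨n, hn, e⟩ := orb_rep hh
  have : pt D (v * h) = pt D (v * n * g) := by
    refine pt_eq_iff.2 ?_
    have := pt_eq_iff.1 e
    rwa [show (v * h)⁻¹ * (v * n * g) = h⁻¹ * (n * g) by group]
  rw [this]
  exact mem_orb_of (mul_mem (Subgroup.le_normalizer hv) hn)

/-- If `V` meets the conjugate normaliser then the inverse conjugate meets the normaliser. -/
theorem cj_inv_meet {g : G} (h : D.V ⊓ cn D g ≠ ⊥) : cj D g⁻¹ ⊓ NN D ≠ ⊥ := fun e => by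
  refine h ((Subgroup.eq_bot_iff_forall _).2 fun v hv => ?_)
  have h1 : g⁻¹ * v * g ∈ cj D g⁻¹ := mem_cj.2 (by
    rw [show g⁻¹⁻¹ * (g⁻¹ * v * g) * g⁻¹ = v by group]; exact hv.1)
  have := (Subgroup.eq_bot_iff_forall _).1 e _ ⟨h1, mem_cn.1 hv.2⟩
  calc v = g * (g⁻¹ * v * g) * g⁻¹ := by group
    _ = 1 := by rw [this]; group

/-- An element outside the class of the central involution lies in one conjugate only. -/
theorem unique_cj [Finite G] (hf : Fused D) {y g h : G} (h1 : y ≠ 1) (hz : ¬ IsConj z y)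
    (hg : y ∈ cj D g) (hh : y ∈ cj D h) : pt D g = pt D h := by
  have mk : ∀ k : G, y ∈ cj D k → k⁻¹ * y * k ∈ pairV D := fun k hk =>
    ⟨mem_cj.1 hk, fun e => h1 (by
        calc y = k * (k⁻¹ * y * k) * k⁻¹ := by group
          _ = 1 := by rw [e]; group),
      fun e => hz (e.trans (isConj_iff.2 ⟨k, by group⟩))⟩
  obtain ⟨n, hn, e⟩ := Frame.pairV_transitive D hf (mk h hh) (mk g hg)
  have hc : g⁻¹ * h * n⁻¹ ∈ centralizer ({g⁻¹ * y * g} : Set G) := by
    refine mem_centralizer_singleton_iff.2 ?_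
    calc g⁻¹ * h * n⁻¹ * (g⁻¹ * y * g)
        = g⁻¹ * h * n⁻¹ * (n * (h⁻¹ * y * h) * n⁻¹) := by rw [e]
      _ = g⁻¹ * y * g * (g⁻¹ * h * n⁻¹) := by group
  have hN := mul_mem (Frame.centralizer_pairV_le D hf (mk g hg) hc) hn
  exact pt_eq_iff.2 (by rwa [inv_mul_cancel_right] at hN)

/-- The intersection with the normaliser as a count. -/
theorem card_meet_orb [Finite G] {g h : G} (e : pt D h ∈ orb D g) :
    Nat.card ↥(cj D h ⊓ NN D) = Nat.card ↥(cj D g ⊓ NN D) := by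
  obtain ⟨n, hn, e⟩ := orb_rep e
  rw [cj_congr e]
  refine Nat.card_congr ((MulAut.conj n⁻¹).toEquiv.subtypeEquiv fun x => ?_)
  show x ∈ cj D (n * g) ⊓ NN D ↔ n⁻¹ * x * n⁻¹⁻¹ ∈ cj D g ⊓ NN D
  rw [Subgroup.mem_inf, Subgroup.mem_inf, inv_inv, mem_cj, mem_cj,
    show (n * g)⁻¹ * x * (n * g) = g⁻¹ * (n⁻¹ * x * n) * g by group]
  refine and_congr_right' ⟨fun hx => mul_mem (mul_mem (inv_mem hn) hx) hn, fun hx => ?_⟩
  have := mul_mem (mul_mem hn hx) (inv_mem hn)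
  rwa [show n * (n⁻¹ * x * n) * n⁻¹ = x by group] at this

theorem card_inv_meet (g : G) :
    Nat.card ↥(D.V ⊓ cn D g) = Nat.card ↥(cj D g⁻¹ ⊓ NN D) := by
  refine Nat.card_congr ((MulAut.conj g⁻¹).toEquiv.subtypeEquiv fun x => ?_)
  show x ∈ D.V ⊓ cn D g ↔ g⁻¹ * x * g⁻¹⁻¹ ∈ cj D g⁻¹ ⊓ NN D
  rw [Subgroup.mem_inf, Subgroup.mem_inf, inv_inv, mem_cj, mem_cn, inv_inv,
    show g * (g⁻¹ * x * g) * g⁻¹ = x by group]

end CfsgLib.J4Type.Rank7
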