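import Cfsg.Agent.Lib.J4Type.Rank7.Assembly

/-!
Points fixed by a subgroup: inside one orbit they form one orbit of the normaliser as soon as the
subgroup is determined up to conjugacy in the stabiliser.
-/

set_option autoImplicit false
set_option linter.unusedSectionVars false

namespace CfsgLib.J4Type.Rank7

open Cfsg Subgroup
open scoped Pointwise

section Generic

variable {G X : Type*} [Group G] [MulAction G X]

/-- The points fixed by a subgroup. -/
def fixSet (Q : Subgroup G) : Set X := {x | ∀ q ∈ Q, q • x = x}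

/-- The orbit of a point under a subgroup. -/
def orbS (K : Subgroup G) (p : X) : Set X := {x | ∃ k ∈ K, k • p = x}

theorem orbS_card [Finite G] (K : Subgroup G) (p : X) :
    (orbS K p).ncard * Nat.card ↥(K ⊓ MulAction.stabilizer G p) = Nat.card K := by
  have e : orbS K p = MulAction.orbit ↥K p := by
    ext x
    exact ⟨fun ⟨k, hk, e⟩ => ⟨⟨k, hk⟩, e⟩, fun ⟨k, e⟩ => ⟨k, k.2, e⟩⟩
  have h := Nat.card_congr (MulAction.orbitProdStabilizerEquivGroup ↥K p)
  rw [Nat.card_prod, Nat.card_coe_set_eq] at h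
  rw [e, ← h]
  congr 1
  exact Nat.card_congr
    { toFun := fun k => ⟨⟨k.1, k.2.1⟩, k.2.2⟩
      invFun := fun k => ⟨(k.1 : G), k.1.2, k.2⟩
      left_inv := fun _ => rfl
      right_inv := fun _ => rfl }

theorem fixSet_smul {Q : Subgroup G} {n : G} (hn : n ∈ normalizer (Q : Set G)) {x : X}
    (hx : x ∈ fixSet Q) : n • x ∈ fixSet Q := fun q hq => by
  have h : n⁻¹ * q * n ∈ Q := by
    have := (mem_normalizer_iff.1 (inv_mem hn) q).1 hq
    rwa [inv_inv] at this
  calc q • n • x = n • ((n⁻¹ * q * n) • x) := by rw [smul_smul, smul_smul]; group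
    _ = n • x := by rw [hx _ h]

theorem orbS_sub_fix {Q K : Subgroup G} (hK : K ≤ normalizer (Q : Set G)) {p : X}
    (hp : p ∈ fixSet Q) : orbS K p ⊆ fixSet Q := by
  rintro _ ⟨k, hk, rfl⟩
  exact fixSet_smul (hK hk) hp

theorem mem_fix_iff {Q : Subgroup G} {x : X} : x ∈ fixSet Q ↔ Q ≤ MulAction.stabilizer G x :=
  Iff.rfl

/-- Two subgroups of prime order are conjugate in a group whose order the square does not divide. -/
theorem conj_prime [Finite G] {p : ℕ} (hp : p.Prime) {S Q Q' : Subgroup G} (hQ : Nat.card Q = p)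
    (hQ' : Nat.card Q' = p) (h : Q ≤ S) (h' : Q' ≤ S) (hd : ¬ p * p ∣ Nat.card S) :
    ∃ s ∈ S, Q' = Q.map (MulAut.conj s).toMonoidHom := by
  have : Fact p.Prime := ⟨hp⟩
  have hdvd : p ∣ Nat.card S := hQ ▸ card_dvd_of_le h
  have hfac : (Nat.card S).factorization p = 1 := by
    have h0 : Nat.card S ≠ 0 := Nat.card_pos.ne'
    have h1 : 1 ≤ (Nat.card S).factorization p := (hp.dvd_iff_one_le_factorization h0).1 hdvd
    by_contra hne
    exact hd (pow_two p ▸ (hp.pow_dvd_iff_le_factorization h0).2 (by omega))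
  have hc : ∀ R : Subgroup G, Nat.card R = p → R ≤ S →
      Nat.card (R.subgroupOf S) = p ^ (Nat.card S).factorization p := fun R hR hle => by
    rw [hfac, pow_one, Nat.card_congr (subgroupOfEquivOfLe hle).toEquiv, hR]
  obtain ⟨s, hs⟩ := MulAction.exists_smul_eq ↥S (Sylow.ofCard _ (hc Q hQ h)) (Sylow.ofCard _ (hc Q' hQ' h'))
  refine ⟨s, s.2, ?_⟩
  have e := congrArg (fun P : Sylow p ↥S => ((P : Subgroup ↥S)).map S.subtype) hs
  simp only [Sylow.coe_subgroup_smul, Sylow.coe_ofCard, map_subgroupOf_eq_of_le h'] at e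
  rw [← e]
  ext x
  constructor
  · rintro ⟨_, ⟨w, hw, rfl⟩, rfl⟩
    exact ⟨w, hw, rfl⟩
  · rintro ⟨w, hw, rfl⟩
    exact ⟨_, ⟨⟨w, h hw⟩, hw, rfl⟩, rfl⟩

/-- The fixed points in an orbit form one orbit of the normaliser. -/
theorem fix_orbit_eq {K Q : Subgroup G} {p : X} (hp : p ∈ fixSet Q)
    (hconj : ∀ k ∈ K, k • p ∈ fixSet Q → ∃ s ∈ K ⊓ MulAction.stabilizer G p,
      ∀ q, q ∈ Q → k⁻¹ * q * k ∈ Q.map (MulAut.conj s).toMonoidHom) [Finite G] :
    orbS K p ∩ fixSet Q = orbS (K ⊓ normalizer (Q : Set G)) p := by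
  refine Set.Subset.antisymm ?_ fun x hx => ⟨?_, orbS_sub_fix inf_le_right hp hx⟩
  · rintro _ ⟨⟨k, hk, rfl⟩, hx⟩
    obtain ⟨s, hs, hq⟩ := hconj k hk hx
    have hmem : ∀ q ∈ Q, (k * s)⁻¹ * q * (k * s) ∈ Q := fun q hq' => by
      obtain ⟨w, hw, e⟩ := hq q hq'
      have e' : s * w * s⁻¹ = k⁻¹ * q * k := e
      have : (k * s)⁻¹ * q * (k * s) = w := by
        calc (k * s)⁻¹ * q * (k * s) = s⁻¹ * (k⁻¹ * q * k) * s := by group
          _ = w := by rw [← e']; group
      rwa [this]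
    refine ⟨k * s, ⟨mul_mem hk hs.1, ?_⟩, by rw [mul_smul, show s • p = p from hs.2]⟩
    have hn : (k * s)⁻¹ ∈ normalizer (Q : Set G) := by
      have hmap : Q.map (MulAut.conj (k * s)⁻¹).toMonoidHom = Q := by
        refine eq_of_le_of_card_ge ?_ ?_
        · rintro _ ⟨q, hq', rfl⟩
          simpa [mul_assoc] using hmem q hq'
        · rw [card_map_of_injective (MulAut.conj (k * s)⁻¹).injective]
      refine mem_normalizer_iff.2 fun q => ⟨fun hq' => by simpa [mul_assoc] using hmem q hq', fun hq' => ?_⟩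
      rw [← hmap] at hq'
      obtain ⟨w, hw, e⟩ := hq'
      have : w = q := (MulAut.conj (k * s)⁻¹).injective e
      exact this ▸ hw
    simpa using inv_mem hn
  · obtain ⟨k, hk, rfl⟩ := hx
    exact ⟨k, hk.1, rfl⟩

theorem fix_orbit_card {K Q : Subgroup G} {p : X} (hp : p ∈ fixSet Q)
    (hconj : ∀ k ∈ K, k • p ∈ fixSet Q → ∃ s ∈ K ⊓ MulAction.stabilizer G p,
      ∀ q, q ∈ Q → k⁻¹ * q * k ∈ Q.map (MulAut.conj s).toMonoidHom) [Finite G] :
    (orbS K p ∩ fixSet Q).ncard *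
        Nat.card ↥(K ⊓ MulAction.stabilizer G p ⊓ normalizer (Q : Set G)) =
      Nat.card ↥(K ⊓ normalizer (Q : Set G)) := by
  rw [fix_orbit_eq hp hconj, ← orbS_card (K ⊓ normalizer (Q : Set G)) p]
  congr 2
  rw [inf_right_comm]

/-- For a prime order the conjugacy is Sylow's theorem. -/
theorem fix_orbit_card_prime [Finite G] {r : ℕ} (hr : r.Prime) {K Q : Subgroup G}
    (hQ : Nat.card Q = r) {p : X} (hp : p ∈ fixSet Q) (hQK : Q ≤ K)
    (hd : ¬ r * r ∣ Nat.card ↥(K ⊓ MulAction.stabilizer G p)) :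
    (orbS K p ∩ fixSet Q).ncard *
        Nat.card ↥(K ⊓ MulAction.stabilizer G p ⊓ normalizer (Q : Set G)) =
      Nat.card ↥(K ⊓ normalizer (Q : Set G)) := by
  refine fix_orbit_card hp fun k hk hx => ?_
  set Q' := Q.map (MulAut.conj k⁻¹).toMonoidHom with hQ'
  have hle : Q' ≤ K ⊓ MulAction.stabilizer G p := by
    rintro _ ⟨q, hq, rfl⟩
    simp only [MulEquiv.coe_toMonoidHom, MulAut.conj_apply, inv_inv]
    refine ⟨K.mul_mem (K.mul_mem (K.inv_mem hk) (hQK hq)) hk, ?_⟩
    show (k⁻¹ * q * k) • p = p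
    rw [mul_smul, mul_smul, hx q hq, inv_smul_smul]
  have hc : Nat.card Q' = r := by rw [hQ', card_map_of_injective (MulAut.conj k⁻¹).injective, hQ]
  obtain ⟨s, hs, e⟩ := conj_prime hr hQ hc (le_inf hQK hp) hle hd
  exact ⟨s, hs, fun q hq => e ▸ ⟨q, hq, by simp⟩⟩

/-- A fixed point can be found in an orbit whose stabiliser has order divisible by the prime. -/
theorem exists_fix_prime [Finite G] {r : ℕ} (hr : r.Prime) {K Q : Subgroup G}
    (hQ : Nat.card Q = r) (hQK : Q ≤ K) (hd : ¬ r * r ∣ Nat.card K) (p : X)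
    (hdiv : r ∣ Nat.card ↥(K ⊓ MulAction.stabilizer G p)) :
    ∃ k ∈ K, k • p ∈ fixSet Q := by
  have : Fact r.Prime := ⟨hr⟩
  obtain ⟨⟨y, hy'⟩, hy⟩ := exists_prime_orderOf_dvd_card' r hdiv
  rw [Subgroup.orderOf_mk] at hy
  obtain ⟨hyK, hyp⟩ := hy'
  obtain ⟨k, hk, e⟩ := conj_prime hr (Q := zpowers y) (by rw [Nat.card_zpowers, hy]) hQ
    (zpowers_le.2 hyK) hQK hd
  refine ⟨k, hk, fun q hq => ?_⟩
  rw [e] at hq
  obtain ⟨w, hw, rfl⟩ := hq
  have hwp : w • p = p := (zpowers_le.2 hyp : zpowers y ≤ MulAction.stabilizer G p) hw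
  show (k * w * k⁻¹) • k • p = k • p
  rw [mul_smul, mul_smul, inv_smul_smul, hwp]

end Generic

variable {G : Type*} [Group G] {z : G} {P : Subgroup G} {F : Frame z P} {D : VData F}

theorem stab_pt (g : G) : MulAction.stabilizer G (pt D g) = cn D g := by
  ext x
  rw [MulAction.mem_stabilizer_iff, mem_cn]
  constructor
  · intro h
    have h' : pt D (x * g) = pt D g := h
    have := QuotientGroup.eq.1 h'
    rw [show g⁻¹ * x * g = ((x * g)⁻¹ * g)⁻¹ by group]
    exact inv_mem this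
  · intro h
    show pt D (x * g) = pt D g
    refine QuotientGroup.eq.2 ?_
    have := inv_mem h
    rwa [show (x * g)⁻¹ * g = (g⁻¹ * x * g)⁻¹ by group]

theorem orbS_pt (g : G) : orbS (NN D) (pt D g) = orb D g := by
  ext x
  exact ⟨fun ⟨k, hk, e⟩ => ⟨⟨k, hk⟩, e⟩, fun ⟨k, e⟩ => ⟨k, k.2, e⟩⟩

theorem st_eq (g : G) : NN D ⊓ MulAction.stabilizer G (pt D g) = st D g := by rw [stab_pt]; rfl

/-- The number of fixed cosets times the order of the normaliser in `N` is the order of the normaliser,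
for a subgroup of prime order. -/
theorem fix_card_prime [Finite G] {r : ℕ} (hr : r.Prime) {Q : Subgroup G} (hQ : Nat.card Q = r)
    (hQN : Q ≤ NN D) (hd : ¬ r * r ∣ Nat.card ↥(NN D)) :
    (fixSet (X := G ⧸ NN D) Q).ncard * Nat.card ↥(NN D ⊓ normalizer (Q : Set G)) =
      Nat.card ↥(normalizer (Q : Set G)) := by
  have hs : MulAction.stabilizer G (pt D 1) = NN D := by
    rw [stab_pt]
    ext x
    rw [mem_cn]
    simp
  have hp : pt D 1 ∈ fixSet Q := mem_fix_iff.2 (hs.symm ▸ hQN)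
  have h := fix_orbit_card_prime hr hQ (K := ⊤) hp le_top
    (by rw [top_inf_eq, hs]; exact hd)
  rw [top_inf_eq, top_inf_eq, hs] at h
  have htop : orbS (⊤ : Subgroup G) (pt D 1) = Set.univ := by
    refine Set.eq_univ_of_forall fun x => ?_
    obtain ⟨g, rfl⟩ := QuotientGroup.mk_surjective x
    exact ⟨g, mem_top g, congrArg QuotientGroup.mk (mul_one g)⟩
  rwa [htop, Set.univ_inter] at h

/-- The number of conjugates in `V` of the stabiliser of a coset is constant on orbits. -/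
theorem card_vst [Finite G] {g : G} {x : G ⧸ NN D} (hx : x ∈ orb D g) :
    Nat.card ↥(D.V ⊓ MulAction.stabilizer G x) = Nat.card ↥(D.V ⊓ cn D g) := by
  obtain ⟨⟨n, hn⟩, rfl⟩ := hx
  have e : D.V ⊓ MulAction.stabilizer G ((⟨n, hn⟩ : NN D) • pt D g) =
      (D.V ⊓ cn D g).map (MulAut.conj n).toMonoidHom := by
    rw [Subgroup.map_inf _ _ _ (MulAut.conj n).injective, ← stab_pt]
    congr 1
    · ext y
      rw [mem_map_equiv, MulAut.conj_symm_apply]
      have := mem_normalizer_iff.1 (inv_mem hn) y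
      rw [inv_inv] at this
      exact this
    · show MulAction.stabilizer G (n • pt D g) = _
      rw [MulAction.stabilizer_smul_eq_stabilizer_map_conj]
  rw [e, card_map_of_injective (MulAut.conj n).injective]

theorem not_adj_of_far {g : G} (hg : Far D g) : ¬ Adj D g := by
  rintro ⟨v, hv, hc, hv'⟩
  obtain ⟨w, hw, rfl⟩ := hv'
  have h : (MulAut.conj g).toMonoidHom w ∈ D.V ⊓ cn D g := ⟨hv, w, le_normalizer hw, rfl⟩
  rw [hg.1, mem_bot] at h
  obtain ⟨c, hc'⟩ := isConj_iff.1 hc.symm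
  rw [h] at hc'
  have hz : z = 1 := by rw [← hc']; group
  have := F.type.1
  rw [hz, orderOf_one] at this
  omega

/-- The orbit of a Far coset is not that of a known one. -/
theorem far_orb_ne [Finite G] (K : Known D) {g : G} (hg : Far D g) :
    orb D g ≠ orb D 1 ∧ orb D g ≠ orb D K.g1 ∧ orb D g ≠ orb D K.g2 ∧ orb D g ≠ orb D K.g3 := by
  have hna := not_adj_of_far hg
  refine ⟨fun e => hna ((K.adj_iff g).2 (Or.inl (e ▸ self_orb g))),
    fun e => hna ((K.adj_iff g).2 (Or.inr (Or.inl (e ▸ self_orb g)))),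
    fun e => hna ((K.adj_iff g).2 (Or.inr (Or.inr (e ▸ self_orb g)))), fun e => ?_⟩
  have h := card_vst (e ▸ self_orb (D := D) g : pt D g ∈ orb D K.g3)
  rw [stab_pt, hg.1, Subgroup.card_bot, K.inf3] at h
  omega

/-- The orbit of an adjacent coset is not the third one. -/
theorem adj_orb_ne (K : Known D) {g : G} (hg : Adj D g) : orb D g ≠ orb D K.g3 := by
  intro e
  refine K.not_adj3 ((K.adj_iff _).2 ?_)
  rcases (K.adj_iff g).1 hg with h | h | h
  · exact Or.inl (orb_eq h ▸ e.symm ▸ self_orb _)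
  · exact Or.inr (Or.inl (orb_eq h ▸ e.symm ▸ self_orb _))
  · exact Or.inr (Or.inr (orb_eq h ▸ e.symm ▸ self_orb _))

end CfsgLib.J4Type.Rank7
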