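import Cfsg.Agent.Lib.J4Type.Rank7.Middle
import Cfsg.Agent.Lib.J4Type.NV.Norm

/-!
The five orbits with a nontrivial intersection and their lengths.
-/

set_option autoImplicit false
set_option linter.unusedSectionVars false
set_option maxRecDepth 100000

namespace CfsgLib.J4Type.Rank7

open Cfsg Subgroup CfsgLib.Golay
open CfsgLib.J4Type.Order.TSetup (t0)

variable {G : Type*} [Group G] [Finite G] {z : G} {P : Subgroup G} {F : Frame z P} {D : VData F}

theorem arith_four {X f : ℕ} (hk : ∃ k ≤ 11, f + 1 = 2 ^ k) (hX : X * f = 51004800)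
    (hd : X ∣ 2 ^ 11 * 244823040) (hm : X % 2048 = 640) : X = 3400320 := by
  obtain ⟨k, hk, e⟩ := hk
  obtain rfl : f = 2 ^ k - 1 := by omega
  interval_cases k <;> norm_num at hX <;>
    first
    | omega
    | (obtain rfl : X = 809600 := by omega
       norm_num at hd)

theorem card_cj (g : G) : Nat.card ↥(cj D g) = 2 ^ 11 := by
  rw [cj, ← Nat.card_congr (Subgroup.equivMapOfInjective D.V _ (MulAut.conj g).injective).toEquiv,
    D.card]

variable {S : Order.TSetup D} (C : Classes S)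
include C

theorem mem_ycl_of {y u : G} (hy : y ∈ NN D ∧ y ∉ D.V ∧ IsConj z y)
    (hu : u ∈ NN D ∧ u ∉ D.V ∧ IsConj z u)
    (e : Nat.card ↥(NN D ⊓ centralizer ({u} : Set G)) = Nat.card ↥(NN D ⊓ centralizer ({y} : Set G))) :
    u ∈ ycl D y :=
  C.zconj y hy.1 hy.2.1 hy.2.2 u hu.1 hu.2.1 hu.2.2 e.symm

/-- The facts about the middle orbits. -/
structure Mid (D : VData F) (q q' : G) : Prop where
  nadj : ¬ Adj D q
  nadj' : ¬ Adj D q'
  two : Nat.card ↥(cj D q ⊓ NN D) = 2
  big : 3 ≤ Nat.card ↥(cj D q' ⊓ NN D)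
  size : (orb D q).ncard = 32643072
  prod : ∃ f, f + 1 = Nat.card ↥(cj D q' ⊓ NN D) ∧ (orb D q').ncard * f = 51004800
  fix : ∃ y ∈ cj D q, y ∈ NN D ∧ y * y = 1 ∧ (through D y q).ncard = 32
  meet : ∀ h, ¬ Adj D h → cj D h ⊓ NN D ≠ ⊥ → pt D h ∈ orb D q ∨ pt D h ∈ orb D q'

variable (hf : Fused D) [IsSimpleGroup G]
include hf

omit C [IsSimpleGroup G] in
theorem nadj_elem {h u : G} (C : Classes S) (hh : ¬ Adj D h) (hu : u ∈ cj D h) (hN : u ∈ NN D)
    (h1 : u ≠ 1) : u ∉ D.V ∧ IsConj z u := by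
  have hz : IsConj z u := by
    by_contra hz
    exact hh (adj_of_t hf C hu hN h1 hz)
  exact ⟨fun hV => hh ⟨u, hV, hz, hu⟩, hz⟩

theorem exists_mid : ∃ q q' : G, Mid D q q' := by
  classical
  obtain ⟨g, R⟩ := exists_root hf S
    ((root_isT hf S (show 2 < 4 by norm_num) (show 0 < 8192 by norm_num)).2 inT_roots.1)
  obtain ⟨gA, RA⟩ := exists_root hf S
    ((root_isT hf S (show 3 < 4 by norm_num) (show 4096 < 8192 by norm_num)).2 inT_roots.2.1)
  have hy := root_base hf S R (.inl rfl)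
  have hyA := root_base hf S RA (.inr rfl)
  set y := g⁻¹ * z * g with ydef
  set yA := gA⁻¹ * z * gA with yAdef
  -- the two classes
  have cB : Nat.card ↥(NN D ⊓ centralizer ({y} : Set G)) = 491520 ∧ ∀ i, S.M.perm y i ≠ i := by
    refine (C.ztype y hy.1 hy.2.1 hy.2.2).resolve_left fun e => ?_
    obtain ⟨hm, -⟩ := gens_mem.1 0 (by decide +kernel)
    obtain ⟨h, hx, f, -, hc⟩ := exists_wit2 (D := D) hf hm
    have o := wit_order
    simp only [Bool.and_eq_true, Bool.not_eq_true', beq_iff_eq, beq_eq_false_iff_ne] at o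
    have := dvd_cent hf S R hc.cen hx (k := 5) (by norm_num) (by rw [hc.mat_eq]; exact o.1.1.1)
      (by rw [hc.mat_eq]; exact o.1.1.2)
    rw [← ydef, e] at this
    norm_num at this
  have cA : Nat.card ↥(NN D ⊓ centralizer ({yA} : Set G)) = 2752512 := by
    refine (C.ztype yA hyA.1 hyA.2.1 hyA.2.2).resolve_right fun e => ?_
    obtain ⟨hm, -⟩ := gens_mem.2 0 (by decide +kernel)
    obtain ⟨h, hx, f, hc⟩ := exists_wit3 (D := D) hf S hm
    have o := wit_order
    simp only [Bool.and_eq_true, Bool.not_eq_true', beq_iff_eq, beq_eq_false_iff_ne] at o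
    have := dvd_cent hf S RA hc.cen hx (k := 7) (by norm_num) (by rw [hc.mat_eq]; exact o.1.2)
      (by rw [hc.mat_eq]; exact o.2)
    rw [← yAdef, e.1] at this
    norm_num at this
  have nA : (ycl D yA).ncard = 182160 := by
    have := ycl_card (D := D) yA
    rw [cA, show Nat.card ↥(NN D) = 2 ^ 11 * 244823040 from Frame.card_norm D hf] at this
    omega
  have nB : (ycl D y).ncard = 1020096 := by
    have := ycl_card (D := D) y
    rw [cB.1, show Nat.card ↥(NN D) = 2 ^ 11 * 244823040 from Frame.card_norm D hf] at this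
    omega
  set q := g⁻¹ * lp D 4 with qdef
  set q' := g⁻¹ * lp D 1 with qdef'
  have na : ¬ Adj D q := not_adj32 hf S R
  have na' : ¬ Adj D q' := not_adj40 hf S R
  have zin : ∀ p < 77, ∀ k : G, k⁻¹ * z * k ∈ cj D (k⁻¹ * lp D p) := fun p hp k => by
    have := (mem_cj_mul (n := k⁻¹)).2 (z_mem_cj_cen (D := D) (lp_spec (D := D) hp).1)
    rwa [inv_inv] at this
  have yq : y ∈ cj D q := zin 4 (by norm_num) g
  have yq' : y ∈ cj D q' := zin 1 (by norm_num) g
  have y1 : y ≠ 1 := fun e => hy.2.1 (e ▸ one_mem _)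
  -- at `q` only the base element
  have only : ∀ u ∈ cj D q, u ∈ NN D → u = 1 ∨ u = y := fun u hu hN => by
    rcases only_base hf S R hu hN with e | e | ⟨e1, e2⟩
    · exact .inl e
    · exact .inr e
    · exact absurd (adj_of_t hf C hu hN e1 e2) na
  have two : Nat.card ↥(cj D q ⊓ NN D) = 2 := by
    have e : ((cj D q ⊓ NN D : Subgroup G) : Set G) = {1, y} := by
      ext u
      refine ⟨fun hu => ?_, ?_⟩
      · rcases only u hu.1 hu.2 with rfl | rfl <;> simp
      · rintro (rfl | rfl)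
        · exact one_mem _
        · exact Subgroup.mem_inf.2 ⟨yq, hy.1⟩
    rw [← Set.ncard_pair y1.symm, ← e]
    exact (Nat.card_coe_set_eq _)
  -- two further elements at `q'`
  let u : ℕ → G := fun n => g⁻¹ * wEl D 1 n * g
  have hu : ∀ n ∈ ([5, 69] : List ℕ), u n ∈ cj D q' ∧ u n ∈ NN D ∧ u n ∉ D.V ∧ IsConj z (u n) ∧
      u n * t0 D = t0 D * u n := by
    intro n hn
    have hlt : n < 2048 ∧ n ≠ 0 ∧ NV.inB n = false := by
      revert n; decide +kernel
    have hc := cent_le_cn hf S R (five_comm hf S n hn)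
    have hz : IsConj z (u n) :=
      ((wEl_type hf 1 hlt.1 hlt.2.1).2 hlt.2.2).trans (isConj_iff.2 ⟨g⁻¹, by
        show g⁻¹ * wEl D 1 n * g⁻¹⁻¹ = g⁻¹ * wEl D 1 n * g
        rw [inv_inv]⟩)
    have hm : u n ∈ cj D q' := by
      have := (mem_cj_mul (n := g⁻¹)).2 (wEl_mem (D := D) 1 hlt.1)
      rwa [inv_inv] at this
    exact ⟨hm, mem_cn.1 hc.1, fun hV => na' ⟨_, hV, hz, hm⟩, hz, hc.2⟩
  have h5 := hu 5 (by simp)
  have h69 := hu 69 (by simp)
  have e69 : u 69 = u 5 * y := by
    obtain ⟨l1, -, -⟩ := lp_spec (D := D) (show 1 < 77 by norm_num)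
    have : wEl D 1 69 = wEl D 1 5 * z := by
      rw [show (69 : ℕ) = 5 ^^^ 64 from rfl, wEl, Frame.vE_xor D (by norm_num) (by norm_num),
        Frame.vE_z D, wEl, mul_assoc (lp D 1), mul_assoc (Frame.vE D 5) z,
        ← F.z_comm (inv_mem l1)]
      group
    show g⁻¹ * wEl D 1 69 * g = g⁻¹ * wEl D 1 5 * g * (g⁻¹ * z * g)
    rw [this]
    group
  have uy : u 5 ≠ y := fun e => h69.2.2.1 (by
    rw [e69, e, cj_sq yq]; exact one_mem _)
  have big : 3 ≤ Nat.card ↥(cj D q' ⊓ NN D) := by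
    have hs : ({1, y, u 5} : Set G) ⊆ ((cj D q' ⊓ NN D : Subgroup G) : Set G) := by
      rintro v (rfl | rfl | rfl)
      exacts [one_mem _, Subgroup.mem_inf.2 ⟨yq', hy.1⟩, Subgroup.mem_inf.2 ⟨h5.1, h5.2.1⟩]
    have h3 : ({1, y, u 5} : Set G).ncard = 3 := by
      rw [Set.ncard_insert_of_notMem, Set.ncard_pair (Ne.symm uy)]
      simp only [Set.mem_insert_iff, Set.mem_singleton_iff, not_or]
      exact ⟨y1.symm, fun e => h5.2.2.1 (e ▸ one_mem _)⟩
    calc 3 = ({1, y, u 5} : Set G).ncard := h3.symm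
      _ ≤ ((cj D q' ⊓ NN D : Subgroup G) : Set G).ncard := Set.ncard_le_ncard hs (Set.toFinite _)
      _ = _ := (Nat.card_coe_set_eq _).symm
  have dif : ∀ h, pt D h ∈ orb D q → pt D h ∈ orb D q' → False := fun h a b => by
    have := card_meet_orb a
    rw [card_meet_orb b, two] at this
    omega
  -- one of the two is of the other class
  have hasA : ∃ v ∈ cj D q', v ∈ ycl D yA := by
    have hyy : y * t0 D = t0 D * y :=
      (cent_le_cn hf S R (F.z_comm (rootX_spec hf (show 2 < 4 by norm_num) 0).1).symm).2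
    rcases C.ztype _ h5.2.1 h5.2.2.1 h5.2.2.2.1 with e | ⟨-, f5⟩
    · exact ⟨u 5, h5.1, mem_ycl_of C hyA ⟨h5.2.1, h5.2.2.1, h5.2.2.2.1⟩ (e.trans cA.symm)⟩
    rcases C.ztype _ h69.2.1 h69.2.2.1 h69.2.2.2.1 with e | ⟨-, f69⟩
    · exact ⟨u 69, h69.1, mem_ycl_of C hyA ⟨h69.2.1, h69.2.2.1, h69.2.2.2.1⟩ (e.trans cA.symm)⟩
    exfalso
    obtain ⟨n1, a0, -⟩ := swaps hf S h5.2.2.2.2 f5
    obtain ⟨n2, b0, -⟩ := swaps hf S h69.2.2.2.2 f69
    obtain ⟨n3, d0, -⟩ := swaps hf S hyy cB.2
    rw [e69, S.M.perm_mul _ n1 _ n3, Equiv.Perm.mul_apply, d0] at b0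
    obtain ⟨-, -, a1⟩ := swaps hf S h5.2.2.2.2 f5
    rw [a1] at b0
    exact absurd b0 (by decide +kernel)
  -- the positions at the two roots
  obtain ⟨s32, s40⟩ := pos2_same hf S R
  have s56 := pos3_same hf S RA
  have fx := fix_ok
  simp only [Bool.and_eq_true, List.all_eq_true] at fx
  have posB : ∀ p < 77, Adj D (g⁻¹ * lp D p) ∨
      (p ∈ tree32.map Prod.fst ∧ orb D (g⁻¹ * lp D p) = orb D q) ∨
      (p ∈ tree40.map Prod.fst ∧ orb D (g⁻¹ * lp D p) = orb D q') := by
    intro p hp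
    have h := List.all_eq_true.1 part2 p (List.mem_range.2 hp)
    simp only [Bool.or_eq_true, List.contains_iff_mem] at h
    rcases h with (h | h) | h
    · exact .inl (pos_fix_adj hf S C R (by norm_num) (by norm_num) inT_roots.1 hp (fx.1 p h).2)
    · exact .inr (.inl ⟨h, (s32 p h).2⟩)
    · exact .inr (.inr ⟨h, (s40 p h).2⟩)
  have posA : ∀ p < 77, Adj D (gA⁻¹ * lp D p) ∨
      (p ∈ tree56.map Prod.fst ∧ orb D (gA⁻¹ * lp D p) = orb D q') := by
    obtain ⟨v, hv, n, hn, rfl⟩ := hasA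
    have hA : yA ∈ cj D (n⁻¹ * q') := by
      have := (mem_cj_mul (n := n⁻¹)).2 hv
      rwa [show n⁻¹ * (n * yA * n⁻¹) * n⁻¹⁻¹ = yA by group] at this
    have hin : pt D (n⁻¹ * q') ∈ through D yA q' :=
      mem_through.2 ⟨mem_orb_of (inv_mem hn), hA⟩
    obtain ⟨h1, p0, hp0, e0⟩ := (mem_through_pos hf).1 hin
    rw [e0] at h1
    have fx3 : ∀ p < 77, p ∈ fix3 → Adj D (gA⁻¹ * lp D p) := fun p hp h =>
      pos_fix_adj hf S C RA (by norm_num) (by norm_num) inT_roots.2.1 hp (fx.2 p h).2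
    have hm : p0 ∈ tree56.map Prod.fst := by
      have h := List.all_eq_true.1 part3 p0 (List.mem_range.2 hp0)
      simp only [Bool.or_eq_true, List.contains_iff_mem] at h
      rcases h with h | h
      · exact absurd ((fx3 p0 hp0 h).of_orb (by rw [orb_eq h1]; exact self_orb q')) na'
      · exact h
    intro p hp
    have h := List.all_eq_true.1 part3 p (List.mem_range.2 hp)
    simp only [Bool.or_eq_true, List.contains_iff_mem] at h
    rcases h with h | h
    · exact .inl (fx3 p hp h)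
    · exact .inr ⟨h, ((s56 p h).2.trans (s56 p0 hm).2.symm).trans (orb_eq h1)⟩
  have t := trees_ok
  simp only [Bool.and_eq_true, decide_eq_true_eq] at t
  obtain ⟨⟨⟨⟨⟨⟨⟨⟨⟨⟨-, -⟩, -⟩, l32⟩, l40⟩, l56⟩, n32⟩, n40⟩, n56⟩, -⟩, -⟩ := t
  have th32 : (through D y q).ncard = 32 := by
    rw [ydef, through_card hf g q, ← Nat.eq_of_beq_eq_true l32, ← List.length_map Prod.fst,
      ← List.toFinset_card_of_nodup n32]
    congr 1
    ext p
    simp only [Finset.mem_filter, Finset.mem_range, List.mem_toFinset]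
    refine ⟨fun ⟨hp, e⟩ => ?_, fun hp => ⟨(s32 p hp).1, (s32 p hp).2 ▸ self_orb _⟩⟩
    rcases posB p hp with h | h | h
    · exact absurd (h.of_orb (by rw [orb_eq e]; exact self_orb q)) na
    · exact h.1
    · exact (dif _ e (h.2 ▸ self_orb _)).elim
  have th40 : (through D y q').ncard = 40 := by
    rw [ydef, through_card hf g q', ← Nat.eq_of_beq_eq_true l40, ← List.length_map Prod.fst,
      ← List.toFinset_card_of_nodup n40]
    congr 1
    ext p
    simp only [Finset.mem_filter, Finset.mem_range, List.mem_toFinset]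
    refine ⟨fun ⟨hp, e⟩ => ?_, fun hp => ⟨(s40 p hp).1, (s40 p hp).2 ▸ self_orb _⟩⟩
    rcases posB p hp with h | h | h
    · exact absurd (h.of_orb (by rw [orb_eq e]; exact self_orb q')) na'
    · exact (dif _ (h.2 ▸ self_orb _) e).elim
    · exact h.1
  have th56 : (through D yA q').ncard = 56 := by
    rw [yAdef, through_card hf gA q', ← Nat.eq_of_beq_eq_true l56, ← List.length_map Prod.fst,
      ← List.toFinset_card_of_nodup n56]
    congr 1
    ext p
    simp only [Finset.mem_filter, Finset.mem_range, List.mem_toFinset]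
    refine ⟨fun ⟨hp, e⟩ => ?_, fun hp => ⟨(s56 p hp).1, ?_⟩⟩
    · rcases posA p hp with h | h
      · exact absurd (h.of_orb (by rw [orb_eq e]; exact self_orb q')) na'
      · exact h.1
    · rcases posA p (s56 p hp).1 with h | h
      · obtain ⟨p0, hp0, hp0'⟩ : ∃ p0 ∈ tree56.map Prod.fst, orb D (gA⁻¹ * lp D p0) = orb D q' := by
          obtain ⟨v, hv, n, hn, rfl⟩ := hasA
          have hA : yA ∈ cj D (n⁻¹ * q') := by
            have := (mem_cj_mul (n := n⁻¹)).2 hv
            rwa [show n⁻¹ * (n * yA * n⁻¹) * n⁻¹⁻¹ = yA by group] at this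
          obtain ⟨h1, p0, hp0, e0⟩ := (mem_through_pos hf).1
            (mem_through.2 ⟨mem_orb_of (inv_mem hn), hA⟩ : pt D (n⁻¹ * q') ∈ through D yA q')
          rw [e0] at h1
          rcases posA p0 hp0 with h' | h'
          · exact absurd (h'.of_orb (by rw [orb_eq h1]; exact self_orb q')) na'
          · exact ⟨p0, h'.1, h'.2⟩
        rw [← hp0', ← (s56 p hp).2.trans (s56 p0 hp0).2.symm]
        exact self_orb _
      · exact h.2 ▸ self_orb _
  -- lengths
  have hB1 : (ycl D y ∩ (cj D q : Set G)).ncard = 1 := by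
    rw [Set.ncard_eq_one]
    refine ⟨y, Set.eq_singleton_iff_unique_mem.2 ⟨Set.mem_inter (self_ycl y) yq, fun v hv => ?_⟩⟩
    obtain ⟨⟨n, hn, rfl⟩, hv'⟩ := hv
    refine (only _ hv' (mul_mem (mul_mem hn hy.1) (inv_mem hn))).resolve_left fun e => y1 ?_
    exact conj_eq_one_iff.1 e
  have sizeq : (orb D q).ncard = 32643072 := by
    have := double_count (D := D) y q
    rw [hB1, th32, nB, mul_one] at this
    omega
  refine ⟨q, q', na, na', two, big, sizeq,
    ⟨(ycl D yA ∩ (cj D q' : Set G)).ncard + (ycl D y ∩ (cj D q' : Set G)).ncard, ?_, ?_⟩,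
    ⟨y, yq, hy.1, cj_sq yq, th32⟩, ?_⟩
  · have cls : ∀ v ∈ cj D q', v ∈ NN D → v ≠ 1 → v ∈ ycl D yA ∨ v ∈ ycl D y := by
      intro v hv hN hv1
      obtain ⟨hV, hz⟩ := nadj_elem hf C na' hv hN hv1
      rcases C.ztype v hN hV hz with e | ⟨e, -⟩
      · exact .inl (mem_ycl_of C hyA ⟨hN, hV, hz⟩ (e.trans cA.symm))
      · exact .inr (mem_ycl_of C hy ⟨hN, hV, hz⟩ (e.trans cB.1.symm))
    have inN : ∀ {a v : G}, a ∈ NN D → v ∈ ycl D a → v ∈ NN D := by
      rintro a _ ha ⟨n, hn, rfl⟩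
      exact mul_mem (mul_mem hn ha) (inv_mem hn)
    have disj : Disjoint (ycl D yA ∩ (cj D q' : Set G)) (ycl D y ∩ (cj D q' : Set G)) :=
      Set.disjoint_left.2 fun v hv hv' => by
        obtain ⟨n, hn, e⟩ := hv.1
        obtain ⟨m, hm, e'⟩ := hv'.1
        have a := card_cent_conj (D := D) hn yA
        have b := card_cent_conj (D := D) hm y
        rw [e, cA] at a
        rw [e', cB.1, a] at b
        omega
    have e : ((cj D q' ⊓ NN D : Subgroup G) : Set G) =
        insert 1 ((ycl D yA ∩ (cj D q' : Set G)) ∪ (ycl D y ∩ (cj D q' : Set G))) := by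
      ext v
      constructor
      · rintro ⟨hv, hN⟩
        by_cases h1 : v = 1
        · exact .inl h1
        · rcases cls v hv hN h1 with h | h
          · exact .inr (.inl ⟨h, hv⟩)
          · exact .inr (.inr ⟨h, hv⟩)
      · rintro (rfl | ⟨h, hv⟩ | ⟨h, hv⟩)
        exacts [one_mem _, Subgroup.mem_inf.2 ⟨hv, inN hyA.1 h⟩, Subgroup.mem_inf.2 ⟨hv, inN hy.1 h⟩]
    have h1 : (1 : G) ∉ (ycl D yA ∩ (cj D q' : Set G)) ∪ (ycl D y ∩ (cj D q' : Set G)) := by
      rintro (⟨⟨n, -, e⟩, -⟩ | ⟨⟨n, -, e⟩, -⟩)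
      · exact hyA.2.1 (conj_eq_one_iff.1 e ▸ one_mem _)
      · exact y1 (conj_eq_one_iff.1 e)
    rw [← Nat.card_coe_set_eq, ← Nat.card_coe_set_eq, Nat.card_coe_set_eq, Nat.card_coe_set_eq,
      ← Set.ncard_union_eq disj (Set.toFinite _) (Set.toFinite _),
      ← Set.ncard_insert_of_notMem h1 (Set.toFinite _), ← e]
    exact (Nat.card_coe_set_eq _).symm
  · have a := double_count (D := D) yA q'
    have b := double_count (D := D) y q'
    rw [th56, nA] at a
    rw [th40, nB] at b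
    rw [mul_add, a, b]
  · intro h hh hne
    obtain ⟨v, hv, v1⟩ : ∃ v ∈ cj D h ⊓ NN D, v ≠ 1 := by
      by_contra hc
      push Not at hc
      exact hne ((Subgroup.eq_bot_iff_forall _).2 hc)
    obtain ⟨hV, hz⟩ := nadj_elem hf C hh hv.1 hv.2 v1
    have pick : ∀ a : G, v ∈ ycl D a → ∃ n ∈ NN D, a ∈ cj D (n * h) := by
      rintro a ⟨n, hn, rfl⟩
      refine ⟨n⁻¹, inv_mem hn, ?_⟩
      have := (mem_cj_mul (n := n⁻¹)).2 hv.1
      rwa [show n⁻¹ * (n * a * n⁻¹) * n⁻¹⁻¹ = a by group] at this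
    have key : ∀ n ∈ NN D, ∀ k p, pt D (n * h) = pt D (k⁻¹ * lp D p) →
        ∀ q0, orb D (k⁻¹ * lp D p) = orb D q0 → pt D h ∈ orb D q0 := fun n hn k p e q0 e' => by
      rw [← e', orb_eq (e ▸ mem_orb_of hn : pt D (k⁻¹ * lp D p) ∈ orb D h)]
      exact self_orb _
    have nad : ∀ n ∈ NN D, ¬ Adj D (n * h) := fun n hn a => hh (a.of_orb (by
      rw [orb_eq (mem_orb_of hn)]; exact self_orb h))
    rcases C.ztype v hv.2 hV hz with e | ⟨e, -⟩
    · obtain ⟨n, hn, ha⟩ := pick yA (mem_ycl_of C hyA ⟨hv.2, hV, hz⟩ (e.trans cA.symm))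
      obtain ⟨-, p, hp, ep⟩ := (mem_through_pos hf).1
        (mem_through.2 ⟨self_orb (n * h), ha⟩ : pt D (n * h) ∈ through D yA (n * h))
      rcases posA p hp with h' | h'
      · exact absurd (h'.of_orb (ep ▸ self_orb (gA⁻¹ * lp D p))) (nad n hn)
      · exact .inr (key n hn gA p ep q' h'.2)
    · obtain ⟨n, hn, ha⟩ := pick y (mem_ycl_of C hy ⟨hv.2, hV, hz⟩ (e.trans cB.1.symm))
      obtain ⟨-, p, hp, ep⟩ := (mem_through_pos hf).1
        (mem_through.2 ⟨self_orb (n * h), ha⟩ : pt D (n * h) ∈ through D y (n * h))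
      rcases posB p hp with h' | h' | h'
      · exact absurd (h'.of_orb (ep ▸ self_orb (g⁻¹ * lp D p))) (nad n hn)
      · exact .inl (key n hn g p ep q h'.2)
      · exact .inr (key n hn g p ep q' h'.2)

omit hf [IsSimpleGroup G] C in
/-- A large centraliser in `V` fixes one of thirty two conjugates. -/
theorem fix_point {q y : G} (hy : y ∈ cj D q) (hN : y ∈ NN D) (h2 : y * y = 1)
    (h32 : (through D y q).ncard = 32) : D.V ⊓ cn D q ≠ ⊥ := by
  classical
  intro h0
  let Cv : Subgroup G := D.V ⊓ centralizer ({y} : Set G)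
  have hmem : ∀ v : D.V, v.1 * (y * v.1 * y⁻¹) ∈ Cv := fun v => by
    have hw := (conj_V hN).2 v.2
    refine Subgroup.mem_inf.2 ⟨mul_mem v.2 hw, mem_centralizer_singleton_iff.2 ?_⟩
    have hyi : y⁻¹ = y := inv_eq_of_mul_eq_one_right h2
    rw [hyi] at hw ⊢
    calc v.1 * (y * v.1 * y) * y = v.1 * y * v.1 * (y * y) := by group
      _ = (y * y) * (v.1 * y * v.1) := by rw [h2, mul_one, one_mul]
      _ = y * (y * v.1 * y * v.1) := by group
      _ = y * (v.1 * (y * v.1 * y)) := by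
          rw [show y * v.1 * y * v.1 = v.1 * (y * v.1 * y) from by
            have := Frame.V_comm D hw v.2
            exact this]
  let φ : D.V →* Cv :=
    { toFun := fun v => ⟨v.1 * (y * v.1 * y⁻¹), hmem v⟩
      map_one' := Subtype.ext (by simp)
      map_mul' := fun a b => Subtype.ext (by
        show a.1 * b.1 * (y * (a.1 * b.1) * y⁻¹) = a.1 * (y * a.1 * y⁻¹) * (b.1 * (y * b.1 * y⁻¹))
        have := Frame.V_comm D b.2 ((conj_V hN).2 a.2)
        calc a.1 * b.1 * (y * (a.1 * b.1) * y⁻¹)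
            = a.1 * (b.1 * (y * a.1 * y⁻¹)) * (y * b.1 * y⁻¹) := by group
          _ = _ := by rw [this]; group) }
  have hker : Nat.card φ.ker ≤ Nat.card Cv := by
    refine Nat.card_le_card_of_injective (fun v => ⟨v.1.1, v.1.2, mem_centralizer_singleton_iff.2 ?_⟩)
      fun a b e => Subtype.ext (Subtype.ext (congrArg (fun w : Cv => w.1) e))
    have e : v.1.1 * (y * v.1.1 * y⁻¹) = 1 := congrArg Subtype.val (v.2 : φ v.1 = 1)
    have e' := inv_eq_of_mul_eq_one_right e
    rw [inv_eq_of_mul_eq_one_right (Frame.V_sq D v.1.2)] at e'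
    exact mul_inv_eq_iff_eq_mul.1 e'.symm |>.symm
  have hrange : Nat.card φ.range ≤ Nat.card Cv := Subgroup.card_le_card_group _
  have hbig : 32 < Nat.card Cv := by
    have := φ.ker.card_mul_index
    rw [Subgroup.index_ker, D.card] at this
    by_contra hc
    have := Nat.mul_le_mul (hker.trans (not_lt.1 hc)) (hrange.trans (not_lt.1 hc))
    omega
  have hmap : ∀ v : Cv, pt D (v.1 * q) ∈ through D y q := fun v => by
    refine mem_through.2 ⟨mem_orb_of (Subgroup.le_normalizer v.2.1), ?_⟩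
    have := (mem_cj_mul (n := v.1)).2 hy
    rwa [mem_centralizer_singleton_iff.1 v.2.2, mul_inv_cancel_right] at this
  let f : Cv → through D y q := fun v => ⟨_, hmap v⟩
  have : ¬ Function.Injective f := fun hi => by
    have := Nat.card_le_card_of_injective f hi
    rw [Nat.card_coe_set_eq, h32] at this
    omega
  obtain ⟨a, b, e, hne⟩ := Function.not_injective_iff.1 this
  have hn := pt_eq_iff.1 (congrArg Subtype.val e)
  refine hne (Subtype.ext (inv_mul_eq_one.1 ((Subgroup.eq_bot_iff_forall _).1 h0 _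
    (Subgroup.mem_inf.2 ⟨mul_mem (inv_mem a.2.1) b.2.1, mem_cn.2 ?_⟩))))
  rwa [show q⁻¹ * (a.1⁻¹ * b.1) * q = (a.1 * q)⁻¹ * (b.1 * q) by group]

/-- **The five orbits.** -/
theorem known (hidx : (NN D).index = 173067389) : Nonempty (Known D) := by
  classical
  obtain ⟨q, q', M⟩ := exists_mid C hf
  haveI : Fintype (G ⧸ NN D) := Fintype.ofFinite _
  obtain ⟨s1, s2⟩ := adj_sizes (D := D) hf
  have X := M.prod
  obtain ⟨f, hf', hX⟩ := X
  -- the first middle orbit is self paired
  have hfix : D.V ⊓ cn D q ≠ ⊥ := by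
    obtain ⟨y, y1, y2, y3, y4⟩ := M.fix
    exact fix_point y1 y2 y3 y4
  have inv_nadj : ∀ {h : G}, ¬ Adj D h → ¬ Adj D h⁻¹ := fun {h} hh a => hh (inv_inv h ▸ a.inv)
  have self : pt D q⁻¹ ∈ orb D q := by
    rcases M.meet q⁻¹ (inv_nadj M.nadj) (cj_inv_meet hfix) with h | h
    · exact h
    · exfalso
      have e := congrArg Set.ncard (orb_eq h)
      rw [orb_inv_card, M.size] at e
      rw [← e] at hX
      omega
  have out : ∀ h, ¬ (pt D h ∈ orb D 1 ∨ pt D h ∈ orb D (lp D 1) ∨ pt D h ∈ orb D (lp D 30) ∨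
      pt D h ∈ orb D q ∨ pt D h ∈ orb D q') → cj D h ⊓ NN D = ⊥ := fun h hh => by
    by_contra hne
    have : ¬ Adj D h := fun a => by
      rcases (adj_cases hf h).1 a with e | e | e
      exacts [hh (.inl e), hh (.inr (.inl e)), hh (.inr (.inr (.inl e)))]
    rcases M.meet h this hne with e | e
    exacts [hh (.inr (.inr (.inr (.inl e)))), hh (.inr (.inr (.inr (.inr e))))]
  have outfree : ∀ h, ¬ (pt D h ∈ orb D 1 ∨ pt D h ∈ orb D (lp D 1) ∨ pt D h ∈ orb D (lp D 30) ∨
      pt D h ∈ orb D q ∨ pt D h ∈ orb D q') → pt D h ∉ orb D q'⁻¹ → D.V ⊓ cn D h = ⊥ := by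
    intro h hh h6
    by_contra hne
    have nad : ¬ Adj D h := fun a => by
      rcases (adj_cases hf h).1 a with e | e | e
      exacts [hh (.inl e), hh (.inr (.inl e)), hh (.inr (.inr (.inl e)))]
    rcases M.meet h⁻¹ (inv_nadj nad) (cj_inv_meet hne) with e | e
    · have h' := inv_mem_orb e
      rw [orb_eq self] at h'
      exact hh (.inr (.inr (.inr (.inl h'))))
    · exact h6 (inv_mem_orb e)
  -- the second one is self paired
  have self' : pt D q'⁻¹ ∈ orb D q' := by
    by_contra hns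
    have h0 : D.V ⊓ cn D q' = ⊥ := by
      by_contra hne
      rcases M.meet q'⁻¹ (inv_nadj M.nadj') (cj_inv_meet hne) with e | e
      · have h' := inv_mem_orb e
        rw [orb_eq self] at h'
        have := congrArg (fun s => s) (card_meet_orb h')
        rw [M.two] at this
        have := M.big
        omega
      · exact hns e
    have hd := free_dvd_orb h0
    let W : Set (G ⧸ NN D) :=
      (orb D 1 ∪ orb D (lp D 1) ∪ orb D (lp D 30) ∪ orb D q ∪ orb D q' ∪ orb D q'⁻¹)ᶜ
    have hW : 2 ^ 11 ∣ W.ncard := by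
      refine free_dvd W (fun h hh v hv hc => hh ?_) fun h hh => ?_
      · have back : ∀ k, pt D (v * h) ∈ orb D k → pt D h ∈ orb D k := fun k hk => by
          rw [← orb_eq hk, orb_eq (mem_orb_of (Subgroup.le_normalizer hv))]
          exact self_orb h
        rcases hc with ((((e | e) | e) | e) | e) | e
        exacts [.inl (.inl (.inl (.inl (.inl (back _ e))))), .inl (.inl (.inl (.inl (.inr (back _ e))))),
          .inl (.inl (.inl (.inr (back _ e)))), .inl (.inl (.inr (back _ e))), .inl (.inr (back _ e)),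
          .inr (back _ e)]
      · refine outfree h (fun e => hh ?_) fun e => hh (.inr e)
        rcases e with e | e | e | e | e
        exacts [.inl (.inl (.inl (.inl (.inl e)))), .inl (.inl (.inl (.inl (.inr e)))),
          .inl (.inl (.inl (.inr e))), .inl (.inl (.inr e)), .inl (.inr e)]
    have dj : ∀ {a b : G}, orb D a ≠ orb D b → Disjoint (orb D a) (orb D b) := fun hne =>
      Set.disjoint_left.2 fun x xa xb => hne
        ((MulAction.orbit_eq_iff.2 xa).symm.trans (MulAction.orbit_eq_iff.2 xb))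
    have a1 : Adj D (1 : G) := (adj_cases hf 1).2 (.inl (self_orb 1))
    have a30 : Adj D (lp D 30) := adj_lp (by norm_num)
    have al : Adj D (lp D 1) := adj_lp (by norm_num)
    have na : ∀ {a b : G}, Adj D a → ¬ Adj D b → orb D a ≠ orb D b := fun {a b} ha hb e =>
      hb (ha.of_orb (e ▸ self_orb b))
    have qq : orb D q ≠ orb D q' := fun e => by
      have := card_meet_orb (e ▸ self_orb q : pt D q ∈ orb D q')
      rw [M.two] at this
      have := M.big
      omega
    have q6 : orb D q' ≠ orb D q'⁻¹ := fun e => hns (e.symm ▸ self_orb q'⁻¹)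
    have q36 : orb D q ≠ orb D q'⁻¹ := fun e => by
      have := congrArg Set.ncard e
      rw [orb_inv_card, M.size] at this
      rw [← this] at hX
      omega
    have n6 := inv_nadj M.nadj'
    have c1 : (1 : ℕ) ≠ 15180 ∧ (1 : ℕ) ≠ 28336 := by norm_num
    have d01 : orb D (1 : G) ≠ orb D (lp D 1) := fun e => by
      have := congrArg Set.ncard e
      rw [orb_one, s1] at this
      omega
    have d02 : orb D (1 : G) ≠ orb D (lp D 30) := fun e => by
      have := congrArg Set.ncard e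
      rw [orb_one, s2] at this
      omega
    have d12 : orb D (lp D 1) ≠ orb D (lp D 30) := fun e => by
      have := congrArg Set.ncard e
      rw [s1, s2] at this
      omega
    have htot := Set.ncard_add_ncard_compl
      (orb D 1 ∪ orb D (lp D 1) ∪ orb D (lp D 30) ∪ orb D q ∪ orb D q' ∪ orb D q'⁻¹)
    rw [Set.ncard_union_eq, Set.ncard_union_eq, Set.ncard_union_eq, Set.ncard_union_eq,
      Set.ncard_union_eq, orb_one, s1, s2, M.size, orb_inv_card,
      show Nat.card (G ⧸ NN D) = 173067389 from hidx] at htot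
    · obtain ⟨k1, hk1⟩ := hd
      obtain ⟨k2, hk2⟩ := hW
      simp only [W] at hk2
      omega
    all_goals
      try simp only [Set.disjoint_union_left]
      exact by
        first
        | exact dj d01
        | exact ⟨dj d02, dj d12⟩
        | exact ⟨⟨dj (na a1 M.nadj), dj (na al M.nadj)⟩, dj (na a30 M.nadj)⟩
        | exact ⟨⟨⟨dj (na a1 M.nadj'), dj (na al M.nadj')⟩, dj (na a30 M.nadj')⟩, dj qq⟩
        | exact ⟨⟨⟨⟨dj (na a1 n6), dj (na al n6)⟩, dj (na a30 n6)⟩, dj q36⟩, dj q6⟩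
  have outfree' : ∀ h, ¬ (pt D h ∈ orb D 1 ∨ pt D h ∈ orb D (lp D 1) ∨ pt D h ∈ orb D (lp D 30) ∨
      pt D h ∈ orb D q ∨ pt D h ∈ orb D q') → D.V ⊓ cn D h = ⊥ := fun h hh =>
    outfree h hh (by rw [orb_eq self']; exact fun e => hh (.inr (.inr (.inr (.inr e)))))
  -- the length of the second middle orbit
  have size4 : (orb D q').ncard = 3400320 := by
    let U := orb D 1 ∪ orb D (lp D 1) ∪ orb D (lp D 30) ∪ orb D q ∪ orb D q'
    have hW : 2 ^ 11 ∣ Uᶜ.ncard := by
      refine free_dvd _ (fun h hh v hv hc => hh ?_) fun h hh => ?_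
      · have back : ∀ k, pt D (v * h) ∈ orb D k → pt D h ∈ orb D k := fun k hk => by
          rw [← orb_eq hk, orb_eq (mem_orb_of (Subgroup.le_normalizer hv))]
          exact self_orb h
        rcases hc with (((e | e) | e) | e) | e
        exacts [.inl (.inl (.inl (.inl (back _ e)))), .inl (.inl (.inl (.inr (back _ e)))),
          .inl (.inl (.inr (back _ e))), .inl (.inr (back _ e)), .inr (back _ e)]
      · refine outfree' h fun e => hh ?_
        rcases e with e | e | e | e | e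
        exacts [.inl (.inl (.inl (.inl e))), .inl (.inl (.inl (.inr e))), .inl (.inl (.inr e)),
          .inl (.inr e), .inr e]
    have dj : ∀ {a b : G}, orb D a ≠ orb D b → Disjoint (orb D a) (orb D b) := fun hne =>
      Set.disjoint_left.2 fun x xa xb => hne
        ((MulAction.orbit_eq_iff.2 xa).symm.trans (MulAction.orbit_eq_iff.2 xb))
    have a1 : Adj D (1 : G) := (adj_cases hf 1).2 (.inl (self_orb 1))
    have a30 : Adj D (lp D 30) := adj_lp (by norm_num)
    have al : Adj D (lp D 1) := adj_lp (by norm_num)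
    have na : ∀ {a b : G}, Adj D a → ¬ Adj D b → orb D a ≠ orb D b := fun {a b} ha hb e =>
      hb (ha.of_orb (e ▸ self_orb b))
    have qq : orb D q ≠ orb D q' := fun e => by
      have := card_meet_orb (e ▸ self_orb q : pt D q ∈ orb D q')
      rw [M.two] at this
      have := M.big
      omega
    have d01 : orb D (1 : G) ≠ orb D (lp D 1) := fun e => by
      have := congrArg Set.ncard e
      rw [orb_one, s1] at this
      omega
    have d02 : orb D (1 : G) ≠ orb D (lp D 30) := fun e => by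
      have := congrArg Set.ncard e
      rw [orb_one, s2] at this
      omega
    have d12 : orb D (lp D 1) ≠ orb D (lp D 30) := fun e => by
      have := congrArg Set.ncard e
      rw [s1, s2] at this
      omega
    have htot := Set.ncard_add_ncard_compl U
    have hU : U.ncard = 1 + 15180 + 28336 + 32643072 + (orb D q').ncard := by
      show (orb D 1 ∪ orb D (lp D 1) ∪ orb D (lp D 30) ∪ orb D q ∪ orb D q').ncard = _
      rw [Set.ncard_union_eq, Set.ncard_union_eq, Set.ncard_union_eq,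
        Set.ncard_union_eq, orb_one, s1, s2, M.size]
      all_goals
        try simp only [Set.disjoint_union_left]
        exact by
          first
          | exact dj d01
          | exact ⟨dj d02, dj d12⟩
          | exact ⟨⟨dj (na a1 M.nadj), dj (na al M.nadj)⟩, dj (na a30 M.nadj)⟩
          | exact ⟨⟨⟨dj (na a1 M.nadj'), dj (na al M.nadj')⟩, dj (na a30 M.nadj')⟩, dj qq⟩
    rw [hU, show Nat.card (G ⧸ NN D) = 173067389 from hidx] at htot
    have hdvd : Nat.card ↥(cj D q' ⊓ NN D) ∣ 2 ^ 11 := by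
      rw [← card_cj (D := D) q']
      exact Subgroup.card_dvd_of_le inf_le_left
    obtain ⟨k, hk, e⟩ := (Nat.dvd_prime_pow Nat.prime_two).1 hdvd
    refine arith_four ⟨k, hk, hf'.trans e⟩ hX
      (by rw [← Frame.card_norm D hf]; exact Dvd.intro _ (orb_card q')) ?_
    obtain ⟨j, hj⟩ := hW
    omega
  have notfar : ∀ {h : G}, 2 ≤ Nat.card ↥(cj D h ⊓ NN D) → ¬ Far D h := fun h2 ⟨_, e⟩ => by
    rw [e, Subgroup.card_bot] at h2
    omega
  refine ⟨⟨lp D 1, lp D 30, q, q', s1, s2, M.size, size4, adj_cases hf, adj_lp (by norm_num),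
    adj_lp (by norm_num), M.nadj, M.nadj', notfar M.two.ge, notfar (by have := M.big; omega), ?_,
    fun h => ?_⟩⟩
  · rw [card_inv_meet, card_meet_orb self, M.two]
  · by_cases hh : pt D h ∈ orb D 1 ∨ pt D h ∈ orb D (lp D 1) ∨ pt D h ∈ orb D (lp D 30) ∨
        pt D h ∈ orb D q ∨ pt D h ∈ orb D q'
    · exact .inr hh
    · exact .inl ⟨outfree' h hh, out h hh⟩

end CfsgLib.J4Type.Rank7
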