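import Cfsg.Agent.Lib.J4Type.Rank7.Adjacent
import Cfsg.Agent.Lib.J4Type.Rank7.Classes

/-!
The conjugates meeting the normaliser but not adjacent: the positions at the two roots.
-/

set_option autoImplicit false
set_option linter.unusedSectionVars false
set_option maxRecDepth 100000

namespace CfsgLib.J4Type.Rank7

open Cfsg Subgroup CfsgLib.Golay
open CfsgLib.J4Type.Cert (rM blt_lt)
open CfsgLib.J4Type.Order (kr)
open CfsgLib.J4Type.Order.TSetup (t0)
open CfsgLib.J4Type.Frame (vE pairV)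

variable {G : Type*} [Group G] [Finite G] {z : G} {P : Subgroup G} {F : Frame z P} {D : VData F}

theorem inv_repInv : mm idM repInv32 = repInv32 ∧ mm idM repInv40 = repInv40 := by decide +kernel

theorem gens_mem : (∀ j < gens2.length, wit2.getD j (0, 0, 0, false, 0, 0) ∈ wit2 ∧
      gens2.getD j idM = witM (wit2.getD j (0, 0, 0, false, 0, 0))) ∧
    (∀ j < gens3.length, wit3.getD j (0, 0, 0, false, 0, 0) ∈ wit3 ∧
      gens3.getD j idM = witM (wit3.getD j (0, 0, 0, false, 0, 0))) := by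
  constructor <;> intro j hj
  · have h : j < wit2.length := by simpa [gens2] using hj
    rw [gens2, List.getD_eq_getElem _ _ h,
      List.getD_eq_getElem _ _ (show j < (List.map witM _).length by simpa using h),
      List.getElem_map]
    exact ⟨List.getElem_mem h, rfl⟩
  · have h : j < wit3.length := by simpa [gens3] using hj
    rw [gens3, List.getD_eq_getElem _ _ h,
      List.getD_eq_getElem _ _ (show j < (List.map witM _).length by simpa using h),
      List.getElem_map]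
    exact ⟨List.getElem_mem h, rfl⟩

variable (hf : Fused D) [IsSimpleGroup G] (S : Order.TSetup D) {g : G}
include hf S

theorem pos2_same (R : g * t0 D * g⁻¹ = rootX D 2 0) :
    (∀ p ∈ tree32.map Prod.fst, p < 77 ∧ orb D (g⁻¹ * lp D p) = orb D (g⁻¹ * lp D 4)) ∧
    ∀ p ∈ tree40.map Prod.fst, p < 77 ∧ orb D (g⁻¹ * lp D p) = orb D (g⁻¹ * lp D 1) := by
  have step : ∀ j < gens2.length, ∀ p < 77, ∀ q < 77, imgOK (gens2.getD j idM) p q = true →
      orb D (g⁻¹ * lp D q) = orb D (g⁻¹ * lp D p) := by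
    intro j hj p hp q hq H
    obtain ⟨hm, e⟩ := gens_mem.1 j hj
    obtain ⟨h, hx, f, -, hc⟩ := exists_wit2 (D := D) hf hm
    exact pos_step hf S R hc.cen hx hp hq (by rw [hc.mat_eq]; rw [e] at H; exact H)
  have t := trees_ok
  simp only [Bool.and_eq_true] at t
  obtain ⟨⟨⟨⟨⟨⟨⟨⟨⟨⟨t32, t40⟩, -⟩, -⟩, -⟩, -⟩, -⟩, -⟩, -⟩, r32⟩, r40⟩ := t
  have a := tree_same t32 (fun p => orb D (g⁻¹ * lp D p)) step
  have b := tree_same t40 (fun p => orb D (g⁻¹ * lp D p)) step
  rw [Nat.eq_of_beq_eq_true r32] at a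
  rw [Nat.eq_of_beq_eq_true r40] at b
  exact ⟨a, b⟩

theorem pos3_same (R : g * t0 D * g⁻¹ = rootX D 3 4096) :
    ∀ p ∈ tree56.map Prod.fst, p < 77 ∧
      orb D (g⁻¹ * lp D p) = orb D (g⁻¹ * lp D (tree56.getD 0 (0, 0, 0)).1) := by
  have step : ∀ j < gens3.length, ∀ p < 77, ∀ q < 77, imgOK (gens3.getD j idM) p q = true →
      orb D (g⁻¹ * lp D q) = orb D (g⁻¹ * lp D p) := by
    intro j hj p hp q hq H
    obtain ⟨hm, e⟩ := gens_mem.2 j hj
    obtain ⟨h, hx, f, hc⟩ := exists_wit3 (D := D) hf S hm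
    exact pos_step hf S R hc.cen hx hp hq (by rw [hc.mat_eq]; rw [e] at H; exact H)
  have t := trees_ok
  simp only [Bool.and_eq_true] at t
  obtain ⟨⟨⟨⟨⟨⟨⟨⟨⟨⟨-, -⟩, t56⟩, -⟩, -⟩, -⟩, -⟩, -⟩, -⟩, -⟩, -⟩ := t
  exact tree_same t56 (fun p => orb D (g⁻¹ * lp D p)) step

theorem pos_fix_adj (C : Classes S) {c a : ℕ} (R : g * t0 D * g⁻¹ = rootX D c a) (hc : c < 4)
    (ha : a < 8192) (hT : Order.inT true true false true c a = true) {p : ℕ} (hp : p < 77)
    (H : imgOK (kr c) p p = true) : Adj D (g⁻¹ * lp D p) := by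
  obtain ⟨t, t1, t2, t3, -, t5⟩ :=
    fixed_pos hf S R hc ((root_isT hf S hc ha).2 hT) hp H
  have := (adj_of_t hf C t1 t2 t3 t5).inv
  rwa [mul_inv_rev, inv_inv] at this

/-- The witness for killing. -/
theorem kill_wit (R : g * t0 D * g⁻¹ = rootX D 2 0) :
    ∃ h f, f ∈ ([0, 264] : List ℕ) ∧ h ∈ cn D g ∧
      Cd F h (f, witM (wit2.getD 0 (0, 0, 0, false, 0, 0))) := by
  obtain ⟨h, hx, f, hf', hc⟩ := exists_wit2 (D := D) hf (gens_mem.1 0 (by decide +kernel)).1
  refine ⟨h, f, ?_, (cent_le_cn hf S R hx).1, hc⟩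
  rcases hf' with rfl | rfl <;> decide +kernel

theorem rootX_two : rootX D 2 0 = Frame.xr D 2 := by rw [rootX, F.dec_zero, one_mul]

theorem cd_root : Cd F (rootX D 2 0) (0, kr 2) := by
  obtain ⟨x1, x2, x3, -⟩ := Frame.xr_spec D hf (show 2 < 4 by norm_num)
  rw [rootX_two hf S, ← x3]
  exact Cd.lift x1 x2

omit hf S in
theorem wEl_sixtyfour {p : ℕ} (hp : p < 77) : wEl D p 64 = z := by
  rw [wEl, Frame.vE_z D, F.z_comm (lp_spec (D := D) hp).1, mul_inv_cancel_right]

omit [IsSimpleGroup G] S in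
/-- An involution of pair type in a conjugate through the base element. -/
theorem wEl_t {p n : ℕ} (hn : n < 2048) (h0 : n ≠ 0) (hB : NV.inB n = true) (g : G) :
    g⁻¹ * wEl D p n * g ≠ 1 ∧ ¬ IsConj z (g⁻¹ * wEl D p n * g) := by
  refine ⟨fun e => conj_V_ne (D := D) (p := p) hn h0 ?_, fun e => ?_⟩
  · calc wEl D p n = g * (g⁻¹ * wEl D p n * g) * g⁻¹ := by group
      _ = 1 := by rw [e]; group
  · have := (wEl_type hf p hn h0).1 (e.trans (isConj_iff.2 ⟨g, by group⟩))
    rw [hB] at this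
    exact Bool.noConfusion this

/-- At the thirty two positions nothing but the base element meets the normaliser. -/
theorem only_base (R : g * t0 D * g⁻¹ = rootX D 2 0) {u : G}
    (hu : u ∈ cj D (g⁻¹ * lp D 4)) (hN : u ∈ NN D) :
    u = 1 ∨ u = g⁻¹ * z * g ∨ (u ≠ 1 ∧ ¬ IsConj z u) := by
  have hw : g * u * g⁻¹ ∈ cj D (lp D 4) := by
    have := (mem_cj_mul (n := g)).2 hu
    rwa [mul_inv_cancel_left] at this
  obtain ⟨n, hn, e⟩ := exists_wEl hw
  have eu : u = g⁻¹ * wEl D 4 n * g := by rw [← e]; group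
  by_cases h0 : n = 0
  · refine .inl ?_
    rw [eu, h0, wEl, Frame.vE_zero]
    group
  by_cases h64 : n = 64
  · exact .inr (.inl (by rw [eu, h64, wEl_sixtyfour (by norm_num)]))
  cases hB : NV.inB n with
  | true => exact .inr (.inr (eu ▸ wEl_t hf hn h0 hB g))
  | false =>
    exfalso
    have hcn : wEl D 4 n ∈ cn D g := mem_cn.2 (eu ▸ hN)
    obtain ⟨h, f, hf', hh, hc⟩ := kill_wit hf S R
    have k := List.all_eq_true.1 (List.all_eq_true.1 kill32_ok f hf') n (List.mem_range.2 hn)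
    simp only [Bool.or_eq_true, hB, Bool.false_eq_true, or_false] at k
    rcases k with (k | k) | k
    · exact h0 (Nat.eq_of_beq_eq_true k)
    · exact h64 (Nat.eq_of_beq_eq_true k)
    have hi := inv_ok
    simp only [Bool.and_eq_true, beq_iff_eq] at hi
    have hW := wEl_word (D := D) (show 4 < 77 by norm_num) hn hi.1.2 inv_repInv.1
    have hxg := root_mem_cj hf S R
    refine killed_false hf (z_notMem_cj hf S R (.inl rfl))
      (List.rel_append hW (List.rel_append (.cons (cd_root hf S) .nil) hW)) ?_ (cd_root hf S) hxg hc hh k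
    have hs := cj_normal hcn hxg
    rw [inv_eq_of_mul_eq_one_right (cj_sq (wEl_mem (D := D) 4 hn))] at hs
    simpa [List.prod_append, wEl, mul_assoc] using hs

/-- The thirty two positions are not adjacent. -/
theorem not_adj32 (R : g * t0 D * g⁻¹ = rootX D 2 0) : ¬ Adj D (g⁻¹ * lp D 4) := by
  rintro ⟨v, hv, hz, hq⟩
  rcases only_base hf S R hq (Subgroup.le_normalizer hv) with rfl | rfl | ⟨-, h⟩
  · obtain ⟨c, hc⟩ := isConj_iff.1 hz
    exact F.z_ne (conj_eq_one_iff.1 hc)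
  · exact (root_base hf S R (.inl rfl)).2.1 hv
  · exact h hz

/-- The forty positions are not adjacent. -/
theorem not_adj40 (R : g * t0 D * g⁻¹ = rootX D 2 0) : ¬ Adj D (g⁻¹ * lp D 1) := by
  rintro ⟨v, hv, hz, hq⟩
  have hw : g * v * g⁻¹ ∈ cj D (lp D 1) := by
    have := (mem_cj_mul (n := g)).2 hq
    rwa [mul_inv_cancel_left] at this
  have hwg : g * v * g⁻¹ ∈ cj D g := mem_cj.2 (by
    rwa [show g⁻¹ * (g * v * g⁻¹) * g = v by group])
  obtain ⟨n, hn, e⟩ := exists_wEl hw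
  have h0 : n ≠ 0 := fun h => by
    rw [h, wEl, Frame.vE_zero, mul_one, mul_inv_cancel, conj_eq_one_iff] at e
    obtain ⟨c, hc⟩ := isConj_iff.1 hz
    rw [e] at hc
    exact F.z_ne (conj_eq_one_iff.1 hc)
  have hB : NV.inB n = false :=
    (wEl_type hf 1 hn h0).1 (e ▸ hz.trans (isConj_iff.2 ⟨g, rfl⟩))
  have h64 : n ≠ 64 := fun h => z_notMem_cj hf S R (.inl rfl) (by
    rwa [e, h, wEl_sixtyfour (D := D) (show 1 < 77 by norm_num)] at hwg)
  obtain ⟨h, f, hf', hh, hc⟩ := kill_wit hf S R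
  have k := List.all_eq_true.1 (List.all_eq_true.1 kill40_ok f hf') n (List.mem_range.2 hn)
  simp only [Bool.or_eq_true, hB, Bool.false_eq_true, or_false] at k
  rcases k with (k | k) | k
  · exact h0 (Nat.eq_of_beq_eq_true k)
  · exact h64 (Nat.eq_of_beq_eq_true k)
  have hi := inv_ok
  simp only [Bool.and_eq_true, beq_iff_eq] at hi
  refine killed_false hf (z_notMem_cj hf S R (.inl rfl))
    (wEl_word (D := D) (show 1 < 77 by norm_num) hn hi.2 inv_repInv.2) ?_ (cd_root hf S)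
    (root_mem_cj hf S R) hc hh k
  rw [e, wEl] at hwg
  simpa [mul_assoc] using hwg

theorem five_comm : ∀ n ∈ ([5, 69] : List ℕ),
    wEl D 1 n * rootX D 2 0 = rootX D 2 0 * wEl D 1 n := by
  obtain ⟨x1, x2, x3, -⟩ := Frame.xr_spec D hf (show 2 < 4 by norm_num)
  obtain ⟨l1, -, -⟩ := lp_spec (D := D) (show 1 < 77 by norm_num)
  have h := five_ok
  simp only [Bool.and_eq_true] at h
  obtain ⟨⟨-, e1⟩, e2⟩ := h
  obtain ⟨hr, hc⟩ := wEl_low (D := D) hf (show 1 < 77 by norm_num) (show (5 : ℕ) < 128 by norm_num)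
  obtain ⟨b, hb, eb⟩ := F.exists_dec hr
  have hbe : b = mv (rM 1) 5 ∨ b = mv (rM 1) 5 + 4096 := by
    have : Order.eV b = mv (rM 1) 5 := by
      rw [← F.co_dec b, eb, hc]
    unfold Order.eV at this
    omega
  have h5 : wEl D 1 5 * rootX D 2 0 = rootX D 2 0 * wEl D 1 5 := by
    rw [rootX_two hf S, ← eb]
    have hd := F.conj_dec x1 x2 b
    rw [x3] at hd
    have : Order.eact (kr 2) (Order.linB (kr 2)) b = b := by
      rcases hbe with rfl | rfl
      exacts [Nat.eq_of_beq_eq_true e1, Nat.eq_of_beq_eq_true e2]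
    rw [this] at hd
    exact (mul_inv_eq_iff_eq_mul.1 hd).symm
  intro n hn
  simp only [List.mem_cons, List.not_mem_nil, or_false] at hn
  rcases hn with rfl | rfl
  · exact h5
  · have e : wEl D 1 69 = wEl D 1 5 * z := by
      rw [show (69 : ℕ) = 5 ^^^ 64 from rfl, wEl, Frame.vE_xor D (by norm_num) (by norm_num),
        Frame.vE_z D, wEl, mul_assoc (lp D 1), mul_assoc (vE D 5) z,
        ← F.z_comm (inv_mem l1)]
      group
    rw [e, mul_assoc, ← F.z_comm (rootX_spec hf (show 2 < 4 by norm_num) 0).1, ← mul_assoc, h5,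
      mul_assoc]

/-- A fixed point free element centralising the chosen involution of pair type exchanges its
two points. -/
theorem swaps {u : G} (hu : u * t0 D = t0 D * u) (hfp : ∀ i, S.M.perm u i ≠ i) :
    u ∈ NN D ∧ S.M.perm u (Golay.pt 0) = Golay.pt 1 ∧ S.M.perm u (Golay.pt 1) = Golay.pt 0 := by
  obtain ⟨hN, hm⟩ := S.mem_cent.1 (mem_centralizer_singleton_iff.2 hu)
  have h3 : mset 3 = {Golay.pt 0, Golay.pt 1} := by decide +kernel
  have h' := (mem_fixMasks.1 hm).2 3 (List.mem_singleton.2 rfl)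
  rw [h3, Finset.smul_finset_insert, Finset.smul_finset_singleton, Equiv.Perm.smul_def,
    Equiv.Perm.smul_def] at h'
  refine ⟨hN, ?_, ?_⟩
  · have : S.M.perm u (Golay.pt 0) ∈ ({Golay.pt 0, Golay.pt 1} : Finset GolayPt) := h' ▸ Finset.mem_insert_self _ _
    simpa [hfp (Golay.pt 0)] using this
  · have : S.M.perm u (Golay.pt 1) ∈ ({Golay.pt 0, Golay.pt 1} : Finset GolayPt) :=
      h' ▸ Finset.mem_insert_of_mem (Finset.mem_singleton_self _)
    simpa [hfp (Golay.pt 1)] using this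

end CfsgLib.J4Type.Rank7
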