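import Cfsg.Agent.Lib.J4Type.Rank7.CertChecks
import Cfsg.Agent.Lib.J4Type.Rank7.Count
import Cfsg.Agent.Lib.J4Type.Order.HRel
import Cfsg.Agent.Lib.J4Type.Order.TTypes
import Cfsg.Agent.Lib.J4Type.Cert.Orbits
import Cfsg.Agent.Lib.J4Type.NV.Norm

/-!
The seventy seven conjugates of `V` through the central involution, and codes of words of the
centraliser modulo the central involution.
-/

set_option autoImplicit false
set_option linter.unusedSectionVars false
set_option maxRecDepth 100000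

namespace CfsgLib.J4Type.Rank7

open Cfsg Subgroup
open CfsgLib.J4Type.Cert (rM inX_rM stabF blt_lt oneMask oneMask_iff)
open CfsgLib.J4Type.Frame (vE vC)

theorem testBit_foldl_mem (f : ℕ → ℕ) (v : ℕ) : ∀ (l : List ℕ) (m : ℕ),
    (m.testBit v = true ∨ ∃ i ∈ l, f i = v) →
      (l.foldl (fun m i => m ||| 2 ^ f i) m).testBit v = true
  | [], m, h => h.resolve_right fun ⟨_, hi, _⟩ => by simp at hi
  | a :: l, m, h => by
    rw [List.foldl_cons]
    refine testBit_foldl_mem f v l _ ?_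
    rcases h with h | ⟨i, hi, e⟩
    · left; rw [Nat.testBit_or, h]; rfl
    · rcases List.mem_cons.1 hi with rfl | hi
      · left; rw [Nat.testBit_or, e, Nat.testBit_two_pow_self, Bool.or_true]
      · exact .inr ⟨i, hi, e⟩

theorem mask_eq' {p : ℕ} (hp : p < 77) :
    mask p = (List.range 64).foldl (fun m v => m ||| 2 ^ mv (rM p) v) 0 :=
  Nat.eq_of_beq_eq_true (List.all_eq_true.1 mask_ok p (List.mem_range.2 hp))

theorem mask_spec {p v : ℕ} (hp : p < 77) (h : (mask p).testBit v = true) :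
    ∃ w < 64, mv (rM p) w = v := by
  rw [mask_eq' hp] at h
  rcases Cert.testBit_foldl (fun i => mv (rM p) i) _ _ v h with h | ⟨i, hi, e⟩
  · simp at h
  · exact ⟨i, List.mem_range.1 hi, e⟩

theorem mask_mem {p w : ℕ} (hp : p < 77) (hw : w < 64) : (mask p).testBit (mv (rM p) w) = true := by
  rw [mask_eq' hp]
  exact testBit_foldl_mem (fun i => mv (rM p) i) _ _ _ (.inr ⟨w, List.mem_range.2 hw, rfl⟩)

/-- Along a tree every member has the value of the first. -/
theorem tree_same {α : Type*} {gs : List (List ℕ)} {T : List (ℕ × ℕ × ℕ)}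
    (hT : treeOK gs T = true) (f : ℕ → α)
    (step : ∀ j < gs.length, ∀ p < 77, ∀ q < 77, imgOK (gs.getD j idM) p q = true → f q = f p) :
    ∀ p ∈ T.map Prod.fst, p < 77 ∧ f p = f (T.getD 0 (0, 0, 0)).1 := by
  simp only [treeOK, List.all_eq_true, List.mem_range, Bool.and_eq_true, Bool.or_eq_true] at hT
  have key : ∀ k < T.length, (T.getD k (0, 0, 0)).1 < 77 ∧
      f (T.getD k (0, 0, 0)).1 = f (T.getD 0 (0, 0, 0)).1 := by
    intro k
    induction k using Nat.strong_induction_on with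
    | _ k ih =>
      intro hk
      obtain ⟨h1, h⟩ := hT k hk
      refine ⟨blt_lt h1, ?_⟩
      rcases h with h | ⟨⟨h2, h3⟩, h4⟩
      · rw [Nat.eq_of_beq_eq_true h]
      · obtain ⟨q1, q2⟩ := ih _ (blt_lt h2) ((blt_lt h2).trans hk)
        rw [← q2]
        exact step _ (blt_lt h3) _ q1 _ (blt_lt h1) h4
  intro p hp
  obtain ⟨t, ht, rfl⟩ := List.mem_map.1 hp
  obtain ⟨k, hk, e⟩ := List.getElem_of_mem ht
  have := key k hk
  rwa [List.getD_eq_getElem _ _ hk, e] at this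

theorem upTab_eq {c : ℕ} (hc : c < 16) : upTab.getD c idM = NV.upM c :=
  eq_of_beq (List.all_eq_true.1 upTab_ok c (List.mem_range.2 hc))

variable {G : Type*} [Group G] [Finite G] {z : G} {P : Subgroup G} {F : Frame z P} {D : VData F}

/-- A lift of a representative of an image of the plane. -/
noncomputable def lp (D : VData F) (p : ℕ) : G :=
  if h : p < 77 then (F.exists_liftN ⟨rM p, (inX_rM p h).inL⟩).choose else 1

theorem lp_spec {p : ℕ} (hp : p < 77) : lp D p ∈ Cen z ∧ lp D p ∈ normalizer (P : Set G) ∧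
    F.mat (lp D p) = rM p := by
  rw [lp, dif_pos hp]
  exact (F.exists_liftN ⟨rM p, (inX_rM p hp).inL⟩).choose_spec

theorem pt_of_plane {h : G} (hh : h ∈ Cen z) {q : ℕ} (hq : q < 77)
    (H : ∀ i < 6, ∃ w < 64, mv (F.mat h) (2 ^ i) = mv (rM q) w) :
    pt D h = pt D (lp D q) := by
  obtain ⟨l1, -, l3⟩ := lp_spec (D := D) hq
  have hg : (lp D q)⁻¹ * h ∈ Cen z := mul_mem (inv_mem l1) hh
  have hN : (lp D q)⁻¹ * h ∈ NN D := by
    refine Frame.mem_norm_of_plane D hg fun i hi => ?_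
    obtain ⟨w, hw, e⟩ := H i hi
    have h2 : (2 : ℕ) ^ i < 4096 :=
      lt_of_lt_of_le (Nat.pow_lt_pow_right one_lt_two hi) (by norm_num)
    rw [← mul_inv_cancel_left (lp D q) h, F.mat_mul _ l1 _ hg, l3, mv_mm] at e
    rw [(inX_rM q hq).inL.mv_inj (F.mv_mat_lt hg h2) (by omega) e]
    exact hw
  rw [eq_comm, pt_eq_iff]
  exact hN

theorem move {h : G} (hh : h ∈ Cen z) {p q : ℕ} (hp : p < 77) (hq : q < 77)
    (H : imgOK (F.mat h) p q = true) : pt D (h * lp D p) = pt D (lp D q) := by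
  obtain ⟨l1, -, l3⟩ := lp_spec (D := D) hp
  refine pt_of_plane (mul_mem hh l1) hq fun i hi => ?_
  simp only [imgOK, List.all_eq_true, List.mem_range] at H
  obtain ⟨w, hw, e⟩ := mask_spec hq (H i hi)
  exact ⟨w, hw, by rw [F.mat_mul _ hh _ l1, l3, mv_mm, e]⟩

theorem z_mem_cj_cen {h : G} (hh : h ∈ Cen z) : z ∈ cj D h := by
  rw [mem_cj, show h⁻¹ * z * h = h⁻¹ * (h * z) by rw [F.z_comm hh]; group, inv_mul_cancel_left]
  exact D.z_mem

theorem cover (hf : Fused D) {g : G} (h : z ∈ cj D g) : ∃ p < 77, pt D g = pt D (lp D p) := by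
  obtain ⟨k, hk, e⟩ := Frame.class_control D hf (mem_cj.1 h) (isConj_iff.2 ⟨g⁻¹, by group⟩)
  have hc : g * k ∈ Cen z := by
    refine mem_centralizer_singleton_iff.2 ?_
    calc g * k * z = g * (k * z * k⁻¹) * k := by group
      _ = g * (g⁻¹ * z * g) * k := by rw [e]
      _ = z * (g * k) := by group
  obtain ⟨p, hp, H⟩ := NV.exists_image (F.mat_inL _ hc)
  refine ⟨p, hp, ?_⟩
  rw [← pt_of_plane hc hp fun i hi => H _ (Nat.pow_lt_pow_right one_lt_two hi : 2 ^ i < 2 ^ 6)]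
  exact pt_eq_iff.2 (by rwa [inv_mul_cancel_left])

theorem lp_inj {p q : ℕ} (hp : p < 77) (hq : q < 77) (e : pt D (lp D p) = pt D (lp D q)) :
    p = q := by
  by_contra hne
  have h := List.all_eq_true.1 (List.all_eq_true.1 mask_ne p (List.mem_range.2 hp)) q
    (List.mem_range.2 hq)
  simp only [Bool.or_eq_true, List.any_eq_true, List.mem_range, Bool.not_eq_true'] at h
  rcases h with h | ⟨i, hi, h⟩
  · exact hne (Nat.eq_of_beq_eq_true h)
  obtain ⟨a1, -, a3⟩ := lp_spec (D := D) hp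
  obtain ⟨b1, -, b3⟩ := lp_spec (D := D) hq
  have hg : (lp D q)⁻¹ * lp D p ∈ Cen z := mul_mem (inv_mem b1) a1
  have hs := (Frame.stabF_iff_norm D hg).1 (by
    have := inv_mem (pt_eq_iff.1 e)
    rwa [show ((lp D p)⁻¹ * lp D q)⁻¹ = (lp D q)⁻¹ * lp D p by group] at this)
  simp only [stabF, List.all_eq_true, List.mem_range] at hs
  have hm := mask_mem hq (blt_lt (hs i hi))
  rw [← mv_mm, ← b3, ← F.mat_mul _ b1 _ hg, mul_inv_cancel_left, a3] at hm
  rw [hm] at h
  exact Bool.noConfusion h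

theorem mem_through_pos (hf : Fused D) {g k h : G} :
    pt D h ∈ through D (g⁻¹ * z * g) k ↔
      pt D h ∈ orb D k ∧ ∃ p < 77, pt D h = pt D (g⁻¹ * lp D p) := by
  rw [mem_through]
  refine and_congr_right' ⟨fun hy => ?_, fun ⟨p, hp, e⟩ => ?_⟩
  · have hz : z ∈ cj D (g * h) := by
      have := (mem_cj_mul (n := g)).2 hy
      rwa [show g * (g⁻¹ * z * g) * g⁻¹ = z by group] at this
    obtain ⟨p, hp, e⟩ := cover hf hz
    refine ⟨p, hp, pt_eq_iff.2 ?_⟩
    have := pt_eq_iff.1 e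
    rwa [show h⁻¹ * (g⁻¹ * lp D p) = (g * h)⁻¹ * lp D p by group]
  · rw [cj_congr e]
    have := (mem_cj_mul (n := g⁻¹)).2 (z_mem_cj_cen (D := D) (lp_spec (D := D) hp).1)
    rwa [inv_inv] at this

open Classical in
theorem through_card (hf : Fused D) (g k : G) :
    (through D (g⁻¹ * z * g) k).ncard =
      ((Finset.range 77).filter fun p => pt D (g⁻¹ * lp D p) ∈ orb D k).card := by
  rw [← Set.ncard_coe_finset]
  refine (Set.ncard_congr (fun p _ => pt D (g⁻¹ * lp D p)) (fun p hp => ?_) (fun p q hp hq e => ?_)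
    fun r hr => ?_).symm
  · simp only [Finset.coe_filter, Finset.mem_range, Set.mem_setOf_eq] at hp
    exact (mem_through_pos hf).2 ⟨hp.2, p, hp.1, rfl⟩
  · simp only [Finset.coe_filter, Finset.mem_range, Set.mem_setOf_eq] at hp hq
    refine lp_inj (D := D) hp.1 hq.1 (pt_eq_iff.2 ?_)
    have := pt_eq_iff.1 e
    rwa [show (g⁻¹ * lp D p)⁻¹ * (g⁻¹ * lp D q) = (lp D p)⁻¹ * lp D q by group] at this
  · obtain ⟨h, rfl⟩ := QuotientGroup.mk_surjective r
    obtain ⟨h1, p, hp, e⟩ := (mem_through_pos hf).1 hr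
    refine ⟨p, ?_, e.symm⟩
    simp only [Finset.coe_filter, Finset.mem_range, Set.mem_setOf_eq]
    exact ⟨hp, e ▸ h1⟩

/-! ### Codes modulo the central involution -/

/-- An element with given coordinates. -/
def Cd (F : Frame z P) (u : G) (a : ℕ × List ℕ) : Prop :=
  ∃ r ∈ Rad z, ∃ l ∈ Cen z, l ∈ normalizer (P : Set G) ∧ u = r * l ∧ F.co r = a.1 ∧ F.mat l = a.2

theorem Cd.cen {u : G} {a : ℕ × List ℕ} (h : Cd F u a) : u ∈ Cen z := by
  obtain ⟨r, hr, l, hl, -, rfl, -, -⟩ := h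
  exact mul_mem (rad_le_Cen hr) hl

theorem Cd.mat_eq {u : G} {a : ℕ × List ℕ} (h : Cd F u a) : F.mat u = a.2 := by
  obtain ⟨r, hr, l, hl, -, rfl, -, e⟩ := h
  rw [F.mat_mul _ (rad_le_Cen hr) _ hl, (F.mat_eq_id _ (rad_le_Cen hr)).2 hr,
    (F.mat_inL l hl).idM_mm, e]

theorem Cd.lift {l : G} (hl : l ∈ Cen z) (hn : l ∈ normalizer (P : Set G)) :
    Cd F l (0, F.mat l) :=
  ⟨1, one_mem _, l, hl, hn, (one_mul l).symm, F.co_one, rfl⟩

theorem Cd.one : Cd F (1 : G) (0, idM) :=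
  ⟨1, one_mem _, 1, one_mem _, one_mem _, (one_mul 1).symm, F.co_one, F.mat_one⟩

theorem Cd.mul {u v : G} {a b : ℕ × List ℕ} (hu : Cd F u a) (hv : Cd F v b) :
    Cd F (u * v) (cm a b) := by
  obtain ⟨r, hr, l, hl, hln, rfl, er, el⟩ := hu
  obtain ⟨r', hr', l', hl', hln', rfl, er', el'⟩ := hv
  refine ⟨r * (l * r' * l⁻¹), mul_mem hr (F.rad_conj hl hr'), l * l', mul_mem hl hl',
    mul_mem hln hln', by group, ?_, ?_⟩
  · show _ = a.1 ^^^ mv a.2 b.1
    rw [F.co_mul _ hr _ (F.rad_conj hl hr'), F.conj_co hl hr', er, er', el]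
  · show _ = mm a.2 b.2
    rw [F.mat_mul _ hl _ hl', el, el']

theorem Cd.prod {us : List G} {w : List (ℕ × List ℕ)} (h : List.Forall₂ (Cd F) us w) :
    Cd F us.prod (cprod w) := by
  induction h with
  | nil => exact Cd.one
  | cons h _ ih => rw [List.prod_cons, cprod]; exact h.mul ih

theorem mat_inv_eq {h : G} (hh : h ∈ Cen z) {m : List ℕ} (hm : mm (F.mat h) m = idM)
    (hi : mm idM m = m) : F.mat h⁻¹ = m := by
  calc F.mat h⁻¹ = mm (F.mat h⁻¹) idM := ((F.mat_inL _ (inv_mem hh)).mm_idM).symm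
    _ = mm (mm (F.mat h⁻¹) (F.mat h)) m := by rw [← hm, Cert.mm_assoc]
    _ = m := by rw [← F.mat_mul _ (inv_mem hh) _ hh, inv_mul_cancel, F.mat_one, hi]

theorem Cd.inv {u : G} {a : ℕ × List ℕ} (hu : Cd F u a) {m : List ℕ} (hm : mm a.2 m = idM)
    (hi : mm idM m = m) : Cd F u⁻¹ (mv m a.1, m) := by
  obtain ⟨r, hr, l, hl, hln, rfl, er, el⟩ := hu
  have e := mat_inv_eq hl (el ▸ hm) hi
  refine ⟨l⁻¹ * r⁻¹ * l⁻¹⁻¹, F.rad_conj (inv_mem hl) (inv_mem hr), l⁻¹, inv_mem hl, inv_mem hln,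
    by group, ?_, e⟩
  rw [F.conj_co (inv_mem hl) (inv_mem hr), F.co_inv hr, e, er]

theorem Cd.unique (hD : VData F) {u : G} {a b : ℕ × List ℕ} (ha : Cd F u a) (hb : Cd F u b) :
    a = b := by
  have hm : a.2 = b.2 := ha.mat_eq.symm.trans hb.mat_eq
  obtain ⟨r, hr, l, hl, hln, rfl, er, el⟩ := ha
  obtain ⟨r', hr', l', hl', hln', e, er', el'⟩ := hb
  refine Prod.ext ?_ hm
  rcases Frame.eq_or_zmul hD hl hln hl' hln' (by rw [el, el', hm]) with h | h
  · rw [h] at e
    rw [← er, ← er', mul_right_cancel e]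
  · rw [h, F.z_comm hl', ← mul_assoc] at e
    rw [← er, ← er', ← mul_right_cancel e, F.co_mul_z hr]

theorem Cd.rad {u : G} {a : ℕ × List ℕ} (hu : Cd F u a) (hm : a.2 = idM) (hD : VData F) :
    u ∈ Rad z ∧ F.co u = a.1 := by
  obtain ⟨r, hr, l, hl, hln, rfl, er, el⟩ := hu
  rcases Frame.eq_or_zmul hD hl hln (one_mem _) (one_mem _) (by rw [el, hm, F.mat_one]) with h | h
  · rw [h, mul_one]; exact ⟨hr, er⟩
  · rw [h, one_mul, F.co_mul_z hr]; exact ⟨mul_mem hr F.z_mem_rad, er⟩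

theorem Cd.vE (hD : VData F) {n : ℕ} (hn : n < 2048) :
    Cd F (Frame.vE hD n) (n % 64, upTab.getD (n / 128) idM) := by
  have hc : n / 128 < 16 := by omega
  obtain ⟨p1, p2, -⟩ := F.eE_spec (show n % 64 < 4096 by omega)
  obtain ⟨v1, v2, -⟩ := Frame.vC_spec hD hc
  refine ⟨F.eE (n % 64) * F.zp (n.testBit 6), mul_mem p1 (F.zp_mem _), vC hD (n / 128),
    (Frame.V0_le_CP hD v1).1, centralizer_le_normalizer _ (Frame.V0_le_CP hD v1).2, rfl, ?_,
    by rw [v2, upTab_eq hc]⟩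
  show _ = n % 64
  rw [F.co_mul _ p1 _ (F.zp_mem _), p2, F.co_zp, Nat.xor_zero]

/-- The conjugate of an element of `V`. -/
noncomputable def wEl (D : VData F) (p n : ℕ) : G := lp D p * Frame.vE D n * (lp D p)⁻¹

theorem wEl_word {p n : ℕ} (hp : p < 77) (hn : n < 2048) {m : List ℕ}
    (hm : mm (rM p) m = idM) (hi : mm idM m = m) :
    List.Forall₂ (Cd F) [lp D p, Frame.vE D n, (lp D p)⁻¹] (wordW p m n) := by
  obtain ⟨l1, l2, l3⟩ := lp_spec (D := D) hp
  refine .cons ?_ (.cons (Cd.vE D hn) (.cons ?_ .nil))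
  · rw [← l3]; exact Cd.lift l1 l2
  · rw [← mat_inv_eq l1 (by rw [l3]; exact hm) hi]
    exact Cd.lift (inv_mem l1) (inv_mem l2)

theorem cj_comm {g u v : G} (hu : u ∈ cj D g) (hv : v ∈ cj D g) : u * v = v * u := by
  have h := Frame.V_comm D (mem_cj.1 hu) (mem_cj.1 hv)
  calc u * v = g * (g⁻¹ * u * g * (g⁻¹ * v * g)) * g⁻¹ := by group
    _ = g * (g⁻¹ * v * g * (g⁻¹ * u * g)) * g⁻¹ := by rw [h]
    _ = v * u := by group

theorem cj_sq {g u : G} (hu : u ∈ cj D g) : u * u = 1 := by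
  have h := Frame.V_sq D (mem_cj.1 hu)
  calc u * u = g * (g⁻¹ * u * g * (g⁻¹ * u * g)) * g⁻¹ := by group
    _ = 1 := by rw [h]; group

/-- An excluded pair of words is not inside a conjugate missing the central involution. -/
theorem bad_false (hf : Fused D) {g : G} (hzg : z ∉ cj D g) {us vs : List G}
    {a b : List (ℕ × List ℕ)} (ha : List.Forall₂ (Cd F) us a) (hb : List.Forall₂ (Cd F) vs b)
    (hu : us.prod ∈ cj D g) (hv : vs.prod ∈ cj D g) (h : bad a b = true) : False := by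
  have h1 := Cd.prod (List.rel_append ha hb)
  have h2 := Cd.prod (List.rel_append hb ha)
  rw [List.prod_append] at h1 h2
  rw [cj_comm hv hu] at h2
  have he := Cd.unique D h1 h2
  simp only [bad, he, beq_self_eq_true, Bool.not_true, Bool.false_or, Bool.and_eq_true,
    Bool.or_eq_true] at h
  obtain ⟨hid, h⟩ := h
  obtain ⟨hr, hco⟩ := Cd.rad h2 (eq_of_beq hid) D
  have hmem := mul_mem hu hv
  rw [← hco] at h
  rcases h with h | h
  · have hs := F.sq _ hr
    rw [h, cj_sq hmem] at hs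
    exact F.z_ne hs.symm
  · have h0 : us.prod * vs.prod ≠ 1 := fun e => by
      rw [e, F.co_one] at h
      exact absurd h (by decide +kernel)
    obtain ⟨i, hi, e⟩ := oneMask_iff h
    obtain ⟨m, hm, em⟩ := Cert.orbOK.reach Cert.oneOrb_ok (by norm_num) i hi
    obtain ⟨l, hl, -, hlm⟩ := F.exists_liftN (Order.mkL m hm.inL)
    have hlm' : F.mat l = m := hlm
    have hx : l⁻¹ * (us.prod * vs.prod) * l⁻¹⁻¹ ∈ Rad z := F.rad_conj (inv_mem hl) hr
    rw [inv_inv] at hx
    have hc : F.co (l⁻¹ * (us.prod * vs.prod) * l) = 1 := by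
      refine hm.inL.mv_inj (F.co_lt _ hx) (by norm_num) ?_
      rw [em, e, ← hlm', ← F.conj_co hl hx]
      congr 1
      group
    have hVl : us.prod * vs.prod ∈ cj D l := mem_cj.2 ((D.rad _ hx).2 (by rw [hc]; norm_num))
    have := unique_cj hf h0 (Order.not_z_of_one hf hr h) hmem hVl
    exact hzg (cj_congr this ▸ z_mem_cj_cen hl)

/-- A killed word is not inside a conjugate missing the central involution. -/
theorem killed_false (hf : Fused D) {g : G} (hzg : z ∉ cj D g) {s : List G}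
    {a : List (ℕ × List ℕ)} (ha : List.Forall₂ (Cd F) s a) (hs : s.prod ∈ cj D g)
    {x h : G} (hx : Cd F x (0, Order.kr 2)) (hxg : x ∈ cj D g) {f : ℕ}
    (hh : Cd F h (f, witM (wit2.getD 0 (0, 0, 0, false, 0, 0)))) (hhg : h ∈ cn D g)
    (H : killed f a = true) : False := by
  have hX : List.Forall₂ (Cd F) [x] wordX := .cons hx .nil
  have hx' : [x].prod ∈ cj D g := by simpa using hxg
  have hi : mm idM witInv = witInv := by decide +kernel
  have hm := inv_ok
  simp only [Bool.and_eq_true, beq_iff_eq] at hm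
  have hB : List.Forall₂ (Cd F) ([h] ++ (s ++ [h⁻¹])) (wordH f ++ (a ++ wordHi f)) :=
    List.rel_append (.cons hh .nil) (List.rel_append ha (.cons (hh.inv hm.1.1 hi) .nil))
  have hb : ([h] ++ (s ++ [h⁻¹])).prod ∈ cj D g := by
    have := cj_normal hhg hs
    simpa [List.prod_append, mul_assoc] using this
  simp only [killed, Bool.or_eq_true] at H
  rcases H with H | H | H
  · exact bad_false hf hzg ha hX hs hx' H
  · exact bad_false hf hzg ha hB hs hb H
  · exact bad_false hf hzg hX hB hx' hb H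

end CfsgLib.J4Type.Rank7
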