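import Cfsg.Agent.Lib.J4Type.Rank7.Fix
import Cfsg.Agent.Lib.J4Type.Three.Results
import Cfsg.Agent.Lib.J4Type.NV.Count
import Cfsg.Agent.Lib.J4Type.NV.Norm

/-!
Twenty-seven does not divide the stabiliser of a Far coset: the normaliser of a Sylow subgroup fixes an
involution of central type in `V`.
-/

set_option autoImplicit false
set_option linter.unusedSectionVars false

namespace CfsgLib.J4Type.Rank7

open Cfsg Subgroup

variable {G : Type*} [Group G] [Finite G] {z : G} {P : Subgroup G} {F : Frame z P} {D : VData F}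

/-- Two subgroups of order `27` of the normaliser of `V` are conjugate in it. -/
theorem conj_three (hf : Fused D) {R R' : Subgroup G} (hR : Nat.card R = 27) (hR' : Nat.card R' = 27)
    (h : R ≤ NN D) (h' : R' ≤ NN D) :
    ∃ n ∈ NN D, R' = R.map (MulAut.conj n).toMonoidHom := by
  haveI : Fact (Nat.Prime 3) := ⟨by norm_num⟩
  have hfac : (Nat.card ↥(NN D)).factorization 3 = 3 := by
    rw [show Nat.card ↥(NN D) = _ from Frame.card_norm D hf,
      show 2 ^ 11 * 244823040 = 3 ^ 3 * 18570280960 by norm_num,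
      Nat.factorization_mul (by norm_num) (by norm_num), Finsupp.add_apply,
      Nat.Prime.factorization_pow (by norm_num : Nat.Prime 3), Finsupp.single_eq_same,
      Nat.factorization_eq_zero_of_not_dvd (by norm_num)]
  have hc : ∀ S : Subgroup G, Nat.card S = 27 → S ≤ NN D →
      Nat.card (S.subgroupOf (NN D)) = 3 ^ (Nat.card ↥(NN D)).factorization 3 := fun S hS hle => by
    rw [hfac, Nat.card_congr (subgroupOfEquivOfLe hle).toEquiv, hS]; norm_num
  obtain ⟨s, hs⟩ := MulAction.exists_smul_eq ↥(NN D) (Sylow.ofCard _ (hc R hR h)) (Sylow.ofCard _ (hc R' hR' h'))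
  refine ⟨s, s.2, ?_⟩
  have e := congrArg (fun Q : Sylow 3 ↥(NN D) => ((Q : Subgroup ↥(NN D))).map (NN D).subtype) hs
  simp only [Sylow.coe_subgroup_smul, Sylow.coe_ofCard, map_subgroupOf_eq_of_le h'] at e
  rw [← e]
  ext x
  constructor
  · rintro ⟨_, ⟨w, hw, rfl⟩, rfl⟩
    exact ⟨w, hw, rfl⟩
  · rintro ⟨w, hw, rfl⟩
    exact ⟨_, ⟨⟨w, h hw⟩, hw, rfl⟩, rfl⟩

/-- **Twenty-seven does not divide the stabiliser of a Far coset.** -/
theorem not_three (hf : Fused D) (hG : Nat.card G = 86775571046077562880) {g : G} (hg : Far D g) :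
    ¬ 27 ∣ Nat.card ↥(st D g) := by
  intro h27
  haveI : Fact (Nat.Prime 3) := ⟨by norm_num⟩
  obtain ⟨R₁', hR₁'⟩ := Sylow.exists_subgroup_card_pow_prime 3 (n := 3) (G := ↥(st D g))
    (by rw [show (3 : ℕ) ^ 3 = 27 by norm_num]; exact h27)
  obtain ⟨R₀', hR₀'⟩ := Sylow.exists_subgroup_card_pow_prime 3 (n := 3) (G := ↥(Cen z ⊓ NN D))
    (by rw [show Nat.card ↥(Cen z ⊓ NN D) = _ from Frame.card_norm_cen D]; norm_num)
  set R₁ := R₁'.map (st D g).subtype with hR₁
  set R₀ := R₀'.map (Cen z ⊓ NN D).subtype with hR₀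
  have h1 : Nat.card R₁ = 27 := by
    rw [hR₁, card_map_of_injective (st D g).subtype_injective, hR₁']; norm_num
  have h0 : Nat.card R₀ = 27 := by
    rw [hR₀, card_map_of_injective (Cen z ⊓ NN D).subtype_injective, hR₀']; norm_num
  have hR1le : R₁ ≤ st D g := map_subtype_le _
  have hR0le : R₀ ≤ Cen z ⊓ NN D := map_subtype_le _
  have hfac : (Nat.card G).factorization 3 = 3 := by
    rw [hG, show (86775571046077562880 : ℕ) = 3 ^ 3 * 3213910038743613440 by norm_num,
      Nat.factorization_mul (by norm_num) (by norm_num), Finsupp.add_apply,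
      Nat.Prime.factorization_pow (by norm_num : Nat.Prime 3), Finsupp.single_eq_same,
      Nat.factorization_eq_zero_of_not_dvd (by norm_num)]
  have hS : Nat.card R₀ = 3 ^ (Nat.card G).factorization 3 := by rw [h0, hfac]; norm_num
  obtain ⟨-, -, -, hN0, -⟩ := Three.sylow_three F (Frame.local_of_fused D hf) (Sylow.ofCard R₀ hS)
    (by rw [Sylow.coe_ofCard]; exact hR0le.trans inf_le_left)
  rw [Sylow.coe_ofCard] at hN0
  obtain ⟨n₀, hn₀, e₀⟩ := conj_three hf h0 h1 (hR0le.trans inf_le_right) (hR1le.trans inf_le_left)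
  set R₂ := R₁.map (MulAut.conj g⁻¹).toMonoidHom with hR₂
  have h2le : R₂ ≤ NN D := by
    rintro _ ⟨x, hx, rfl⟩
    have := mem_cn.1 (hR1le hx).2
    simpa using this
  obtain ⟨n, hn, e₂⟩ := conj_three hf
    (by rw [hR₂, card_map_of_injective (MulAut.conj g⁻¹).injective, h1]) h1 h2le (hR1le.trans inf_le_left)
  set u := n₀ * z * n₀⁻¹ with hu
  have huV : u ∈ D.V := (mem_normalizer_iff.1 hn₀ z).1 D.z_mem
  -- the moved element normalises the Sylow subgroup of the centraliser of `z`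
  set h := n₀⁻¹ * (g * n⁻¹) * n₀ with hh
  have hmap : R₀.map (MulAut.conj h).toMonoidHom = R₀ := by
    have hsq : ∀ (a b : G) (S : Subgroup G), (S.map (MulAut.conj a).toMonoidHom).map
        (MulAut.conj b).toMonoidHom = S.map (MulAut.conj (b * a)).toMonoidHom := fun a b S => by
      rw [Subgroup.map_map]
      congr 1
      ext x
      simp [mul_assoc]
    have e0' : R₀ = R₁.map (MulAut.conj n₀⁻¹).toMonoidHom := by
      rw [e₀, hsq, inv_mul_cancel, map_one]
      exact (map_id R₀).symm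
    have eh : R₁.map (MulAut.conj (g * n⁻¹)).toMonoidHom = R₁ := by
      conv_lhs => rw [e₂, hsq, show g * n⁻¹ * n = g by group, hR₂, hsq, mul_inv_cancel, map_one]
      exact map_id R₁
    calc R₀.map (MulAut.conj h).toMonoidHom
        = R₁.map (MulAut.conj (n₀⁻¹ * (g * n⁻¹))).toMonoidHom := by
          rw [e₀, hsq, hh]
      _ = R₀ := by rw [← hsq, eh, ← e0']
  have hhN : h ∈ normalizer (R₀ : Set G) := by
    refine mem_normalizer_iff.2 fun x => ⟨fun hx => hmap ▸ ⟨x, hx, rfl⟩, fun hx => ?_⟩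
    rw [← hmap] at hx
    obtain ⟨w, hw, e⟩ := hx
    exact (MulAut.conj h).injective e ▸ hw
  have hz : h * z = z * h := mem_centralizer_singleton_iff.1 (hN0 hhN)
  have hfix : g * n⁻¹ * u * (g * n⁻¹)⁻¹ = u := by
    calc g * n⁻¹ * u * (g * n⁻¹)⁻¹ = n₀ * (h * z) * h⁻¹ * n₀⁻¹ := by rw [hu, hh]; group
      _ = u := by rw [hz, hu]; group
  refine not_adj_of_far hg ⟨u, huV, isConj_iff.2 ⟨n₀, rfl⟩, n⁻¹ * u * n, ?_, ?_⟩
  · have := (mem_normalizer_iff.1 (inv_mem hn) u).1 huV
    rwa [inv_inv] at this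
  · show g * (n⁻¹ * u * n) * g⁻¹ = u
    conv_rhs => rw [← hfix]
    group

end CfsgLib.J4Type.Rank7
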