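import Cfsg.Agent.Lib.J4Type.TwentyThree.Main
import Cfsg.Agent.Lib.J4Type.NV.Norm
import Cfsg.Agent.Lib.J4Type.Rank7.Fix

/-!
The orbit of length `82575360`: the conjugate of `N` by an involution inverting an element of order `23`
meets it in a group of order `6072`; no other Far coset has a stabiliser of order divisible by `23`.
-/

set_option autoImplicit false
set_option linter.style.haveILetI false
set_option linter.unusedSectionVars false
set_option maxRecDepth 100000

namespace CfsgLib.J4Type.Rank7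

open Cfsg Subgroup
open CfsgLib.J4Type.TwentyThree

variable {G : Type*} [Group G] [Finite G]

/-- A second conjugate of the normaliser meeting it in a group of order `6072` containing `23:11`. -/
theorem exists_far_mover {N V : Subgroup G} (I : Input N V)
    (hG : Nat.card G = 86775571046077562880)
    (hU : ∀ b : G, orderOf b = 23 → centralizer ({b} : Set G) = zpowers b ∧
      Nat.card (normalizer (zpowers b : Set G)) = 506) :
    ∃ y b : G, orderOf b = 23 ∧ Nat.card ↥(N ⊓ N.map (MulAut.conj y).toMonoidHom) = 6072 ∧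
      V ⊓ N.map (MulAut.conj y).toMonoidHom = ⊥ ∧ N ⊓ V.map (MulAut.conj y).toMonoidHom = ⊥ ∧
      b ∈ N ⊓ N.map (MulAut.conj y).toMonoidHom ∧
      253 ∣ Nat.card ↥(N ⊓ normalizer (zpowers b : Set G)) := by
  classical
  haveI : Fact (Nat.Prime 23) := ⟨by norm_num⟩
  haveI : Fact (Nat.Prime 2) := ⟨Nat.prime_two⟩
  have hinj : ∀ k : N, (k : G) ∈ I.K → I.φ k = 1 → k = 1 := by
    intro k hk h1
    have h2 : (k : G) ∈ V := by
      have : k ∈ I.φ.ker := h1
      rwa [I.ker] at this
    have h3 : (k : G) ∈ I.K ⊓ V := ⟨hk, h2⟩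
    rw [I.K_inf, mem_bot] at h3
    exact Subtype.ext h3
  obtain ⟨kb, hkb, eb⟩ := I.lift shiftM
  obtain ⟨ku, hku, eu⟩ := I.lift twoM
  set b : G := (kb : G) with hbdef
  set u : G := (ku : G) with hudef
  have hb23 : b ^ 23 = 1 := by
    have := hinj (kb ^ 23) (I.K.pow_mem hkb 23)
      (by rw [map_pow, eb, ← shiftM_order, pow_orderOf_eq_one])
    exact congrArg Subtype.val this
  have hb1 : b ≠ 1 := by
    intro h
    have h1 : kb = 1 := Subtype.ext h
    rw [h1, map_one] at eb
    have := shiftM_order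
    rw [← eb, orderOf_one] at this
    norm_num at this
  have hb : orderOf b = 23 := orderOf_eq_prime hb23 hb1
  have hu11 : u ^ 11 = 1 := congrArg Subtype.val
    (hinj (ku ^ 11) (I.K.pow_mem hku 11) (by rw [map_pow, eu, twoM_pow]))
  have hu1 : u ≠ 1 := by
    intro h
    have h1 : ku = 1 := Subtype.ext h
    rw [h1, map_one] at eu
    exact twoM_ne eu.symm
  have hub : u * b * u⁻¹ = b ^ 2 := by
    have := hinj (ku * kb * ku⁻¹ * (kb ^ 2)⁻¹)
      (mul_mem (mul_mem (mul_mem hku hkb) (inv_mem hku)) (inv_mem (I.K.pow_mem hkb 2)))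
      (by simp only [map_mul, map_inv, map_pow, eu, eb, twoM_shiftM, mul_inv_cancel])
    have h2 := congrArg Subtype.val this
    push_cast at h2
    exact mul_inv_eq_one.1 h2
  obtain ⟨hC, hNU⟩ := hU b hb
  set U := normalizer (zpowers b : Set G) with hUdef
  have hbU : b ∈ U := le_normalizer (mem_zpowers b)
  have huU : u ∈ U := by
    rw [hUdef, mem_normalizer_iff]
    have hmap : (zpowers b).map (MulAut.conj u).toMonoidHom = zpowers b := by
      refine eq_of_le_of_card_ge ?_ (le_of_eq ?_)
      · rw [MonoidHom.map_zpowers, zpowers_le]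
        show u * b * u⁻¹ ∈ zpowers b
        rw [hub]; exact pow_mem (mem_zpowers b) 2
      · exact Nat.card_congr
          ((zpowers b).equivMapOfInjective _ (MulAut.conj u).injective).toEquiv
    intro x
    constructor
    · intro hx
      rw [← hmap]
      exact ⟨x, hx, rfl⟩
    · intro hx
      rw [← hmap] at hx
      obtain ⟨w, hw, e⟩ := hx
      have : w = x := mul_left_cancel (mul_right_cancel e)
      exact this ▸ hw
  have ho11 : orderOf u = 11 := by
    haveI : Fact (Nat.Prime 11) := ⟨by norm_num⟩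
    exact orderOf_eq_prime hu11 hu1
  have h253 : ∀ H : Subgroup G, b ∈ H → u ∈ H → 253 ∣ Nat.card H := by
    intro H hbH huH
    have e1 := card_dvd_of_le (zpowers_le.2 hbH)
    have e2 := card_dvd_of_le (zpowers_le.2 huH)
    rw [Nat.card_zpowers, hb] at e1
    rw [Nat.card_zpowers, ho11] at e2
    exact Nat.Coprime.mul_dvd_of_dvd_of_dvd (by norm_num : Nat.Coprime 23 11) e1 e2
  -- an involution inverting `b`
  obtain ⟨y', hy'⟩ := exists_prime_orderOf_dvd_card' (G := U) 2 (by rw [hNU]; norm_num)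
  set y : G := (y' : G) with hydef
  have hyU : y ∈ U := y'.2
  have hy : orderOf y = 2 := by rw [hydef, Subgroup.orderOf_coe, hy']
  have hy2 : y * y = 1 := by rw [← pow_two, ← hy]; exact pow_orderOf_eq_one y
  have hyi : y⁻¹ = y := inv_eq_of_mul_eq_one_left hy2
  have hyy : ∀ x : G, y * (y * x) = x := fun x => by rw [← mul_assoc, hy2, one_mul]
  have hyb : y * b * y⁻¹ = b⁻¹ := by
    obtain ⟨i, hi⟩ := conj_pow_of_mem_normalizer hb hyU
    have h2 := conj_iterate hi 2
    rw [pow_two y, hy2, one_mul, inv_one, mul_one] at h2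
    have h3 : (1 : ℕ) ≡ i ^ 2 [MOD 23] := by
      rw [← hb]; exact pow_eq_pow_iff_modEq.1 (by rw [pow_one]; exact h2)
    have h4 : ((i : ZMod 23)) ^ 2 = 1 := by
      have := (ZMod.natCast_eq_natCast_iff _ _ _).2 h3
      rw [Nat.cast_pow, Nat.cast_one] at this
      exact this.symm
    rcases sq_eq_one_iff.1 h4 with h5 | h5
    · exfalso
      have h6 : b ^ i = b := by
        conv_rhs => rw [← pow_one b]
        rw [pow_eq_pow_iff_modEq, hb, ← ZMod.natCast_eq_natCast_iff, Nat.cast_one]
        exact h5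
      have hyC : y ∈ zpowers b := by
        rw [← hC, mem_centralizer_singleton_iff, ← mul_inv_eq_iff_eq_mul, hi, h6]
      have := card_dvd_of_le (zpowers_le.2 hyC)
      rw [Nat.card_zpowers, Nat.card_zpowers, hy, hb] at this
      norm_num at this
    · have h6 : b ^ i = b ^ 22 := by
        rw [pow_eq_pow_iff_modEq, hb, ← ZMod.natCast_eq_natCast_iff, h5]
        rfl
      rw [hi, h6]
      exact eq_inv_of_mul_eq_one_left (by rw [← pow_succ, hb23])
  have hyN : y ∉ N := by
    intro h
    refine no_invert (I.φ ⟨y, h⟩) ?_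
    have e : (⟨y, h⟩ * kb * ⟨y, h⟩⁻¹ : N) = kb⁻¹ := Subtype.ext hyb
    have := congrArg I.φ e
    simp only [map_mul, map_inv, eb] at this
    exact this
  -- the intersection of `N` with its conjugate
  set c := (MulAut.conj y).toMonoidHom with hcdef
  have hcinj : Function.Injective c := (MulAut.conj y).injective
  set N1 := N.map c with hN1
  have hmem1 : ∀ x, x ∈ N1 ↔ y * x * y ∈ N := by
    intro x
    constructor
    · rintro ⟨w, hw, rfl⟩
      have e : y * (y * w * y⁻¹) * y = w := by rw [hyi]; simp only [mul_assoc, hyy, hy2, mul_one]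
      show y * (y * w * y⁻¹) * y ∈ N
      rw [e]; exact hw
    · intro h
      refine ⟨y * x * y, h, ?_⟩
      show y * (y * x * y) * y⁻¹ = x
      rw [hyi]; simp only [mul_assoc, hyy, hy2, mul_one]
  set S0 := N ⊓ N1 with hS0
  have hbN : b ∈ N := kb.2
  have huN : u ∈ N := ku.2
  have hbS : b ∈ S0 := by
    refine ⟨hbN, (hmem1 b).2 ?_⟩
    have : y * b * y = b⁻¹ := by rw [← hyb, hyi]
    rw [this]; exact inv_mem hbN
  -- `y` normalises `23:11`
  set B := U ⊓ N with hB
  have hBdvd : 253 ∣ Nat.card B := h253 B ⟨hbU, hbN⟩ ⟨huU, huN⟩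
  have hBle : Nat.card B ∣ 506 := by rw [← hNU]; exact card_dvd_of_le inf_le_left
  have hB506 : Nat.card B ≠ 506 := by
    intro h
    have : B = U := eq_of_le_of_card_ge inf_le_left (by rw [hNU, h])
    have hy0 : y ∈ B := this.symm ▸ hyU
    exact hyN hy0.2
  have hB253 : Nat.card B = 253 := by
    obtain ⟨d, hd⟩ := hBdvd
    have h1 : Nat.card B ≤ 506 := Nat.le_of_dvd (by norm_num) hBle
    have h2 := Nat.card_pos (α := B)
    omega
  have hidx : (B.subgroupOf U).index = 2 := by
    have h := (B.subgroupOf U).card_mul_index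
    rw [Nat.card_congr (subgroupOfEquivOfLe (inf_le_left : B ≤ U)).toEquiv, hB253, hNU] at h
    omega
  have hBn : (B.subgroupOf U).Normal := normal_of_index_eq_two hidx
  have huS : u ∈ S0 := by
    refine ⟨huN, (hmem1 u).2 ?_⟩
    have h := hBn.conj_mem ⟨u, huU⟩ (show (⟨u, huU⟩ : U) ∈ B.subgroupOf U from ⟨huU, huN⟩) ⟨y, hyU⟩
    have h' : y * u * y⁻¹ ∈ N := h.2
    rwa [hyi] at h'
  have hyS : ∀ x ∈ S0, y * x * y ∈ S0 := by
    intro x hx
    refine ⟨(hmem1 x).1 hx.2, (hmem1 _).2 ?_⟩
    simp only [mul_assoc, hy2, hyy, mul_one]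
    exact hx.1
  have hN1card : Nat.card N1 = Nat.card N :=
    (Nat.card_congr (N.equivMapOfInjective c hcinj).toEquiv).symm
  have hbound : 2 ^ 11 * 244823040 ≤ Nat.card S0 * 173067389 := by
    have e : S0.relIndex N = N1.relIndex N := by rw [hS0, inf_relIndex_left]
    have h1 : Nat.card S0 * S0.relIndex N = Nat.card N := by
      have := (S0.subgroupOf N).card_mul_index
      rwa [Nat.card_congr (subgroupOfEquivOfLe (inf_le_left : S0 ≤ N)).toEquiv] at this
    have h2 : N1.relIndex N ≤ N1.index := by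
      rw [← relIndex_top_right]
      exact relIndex_le_of_le_right le_top (by rw [relIndex_top_right]; exact index_ne_zero_of_finite)
    have h3 := N1.card_mul_index
    rw [hN1card, I.cardN, hG] at h3
    have h4 : N1.index = 173067389 := by omega
    rw [e, I.cardN] at h1
    calc 2 ^ 11 * 244823040 = Nat.card S0 * N1.relIndex N := h1.symm
      _ ≤ Nat.card S0 * 173067389 := Nat.mul_le_mul_left _ (h4 ▸ h2)
  -- no nontrivial element of `V` is in the intersection
  set W := V ⊓ N1 with hW
  have hVnorm : ∀ g ∈ N, ∀ v ∈ V, g * v * g⁻¹ ∈ V := fun g hg v hv =>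
    (mem_normalizer_iff.1 (show g ∈ normalizer (V : Set G) from I.norm ▸ hg) v).1 hv
  have hWbot : W = ⊥ := by
    have hdvd : 23 ∣ Nat.card W - 1 := by
      have := CfsgLib.Amalgam.TIInverted.free_dvd (A := zpowers b) (B := W)
        (fun a ha w hw => by
          have haS : a ∈ S0 := (zpowers_le.2 hbS) ha
          exact ⟨hVnorm a haS.1 w hw.1, N1.mul_mem (N1.mul_mem haS.2 hw.2) (N1.inv_mem haS.2)⟩)
        (fun a ha w hw hw1 e => by
          by_contra ha1
          obtain ⟨n, rfl⟩ := ha
          have ha23 : (b ^ n) ^ 23 = 1 := by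
            rw [← zpow_natCast, ← zpow_mul, mul_comm, zpow_mul, zpow_natCast, hb23, one_zpow]
          obtain ⟨hCa, -⟩ := hU _ (orderOf_eq_prime ha23 ha1)
          have hwC : w ∈ zpowers (b ^ n) := hCa ▸ mem_centralizer_singleton_iff.2 e.symm
          obtain ⟨m, rfl⟩ := hwC
          exact hw1 (coprime_eq_one (m := 2) (n := 23) (I.sq _ hw.1) (by
            show ((b ^ n) ^ m) ^ 23 = 1
            rw [← zpow_natCast, ← zpow_mul, mul_comm, zpow_mul, zpow_natCast, ha23, one_zpow])
            (by norm_num)))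
      rwa [Nat.card_zpowers, hb] at this
    obtain ⟨k, hk, hk'⟩ := (Nat.dvd_prime_pow Nat.prime_two).1
      (I.cardV ▸ card_dvd_of_le (inf_le_left : W ≤ V))
    rw [hk'] at hdvd
    have hk11 : k = 0 ∨ k = 11 := by
      revert hdvd
      interval_cases k <;> norm_num
    rcases hk11 with rfl | rfl
    · exact eq_bot_of_card_eq W (by rw [hk', pow_zero])
    · exfalso
      have hVN1 : V ≤ N1 := by
        have : W = V := eq_of_le_of_card_ge inf_le_left (by rw [hk', I.cardV])
        exact this ▸ inf_le_right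
      set V1 := V.map c with hV1
      have hV1card : Nat.card V1 = 2 ^ 11 := by
        rw [← I.cardV]; exact (Nat.card_congr (V.equivMapOfInjective c hcinj).toEquiv).symm
      have hV1sq : ∀ v ∈ V1, v ^ 2 = 1 := by
        rintro v ⟨w, hw, rfl⟩
        rw [← map_pow, I.sq w hw, map_one]
      have hN1V1 : N1 ≤ normalizer (V1 : Set G) := by
        rw [hN1, I.norm, hV1]
        exact (map_equiv_normalizer_eq V (MulAut.conj y)).le
      have hp : IsPGroup 2 V := IsPGroup.of_card I.cardV
      have hp1 : IsPGroup 2 V1 := IsPGroup.of_card hV1card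
      obtain ⟨T, hT⟩ := (hp.to_sup_of_normal_right' hp1 (hVN1.trans hN1V1)).exists_le_sylow
      have hEq : V = V1 := I.unique T V V1 (le_sup_left.trans hT) (le_sup_right.trans hT) I.elem
        I.cardV (CfsgLib.J4Type.TwentyThree.elem_of_sq hV1sq) hV1card
      have hyNV : y ∈ normalizer (V : Set G) := by
        rw [mem_normalizer_iff]
        intro x
        constructor
        · intro hx
          rw [hEq]; exact ⟨x, hx, rfl⟩
        · intro hx
          rw [hEq] at hx
          obtain ⟨w, hw, e⟩ := hx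
          have : w = x := mul_left_cancel (mul_right_cancel e)
          exact this ▸ hw
      exact hyN (I.norm ▸ hyNV)
  let π : S0 →* M24 := I.φ.comp (inclusion inf_le_left)
  have hπ : Function.Injective π := by
    rw [injective_iff_map_eq_one]
    intro x hx
    have h1 : inclusion (inf_le_left : S0 ≤ N) x ∈ I.φ.ker := hx
    rw [I.ker] at h1
    have h2 : (x : G) ∈ W := ⟨h1, x.2.2⟩
    rw [hWbot, mem_bot] at h2
    exact Subtype.ext h2
  have hbM : shiftM ∈ π.range := ⟨⟨b, hbS⟩, eb⟩
  have huM : twoM ∈ π.range := ⟨⟨u, huS⟩, eu⟩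
  have hcardT : Nat.card π.range = Nat.card S0 :=
    (Nat.card_congr (MonoidHom.ofInjective hπ).toEquiv).symm
  have hS6072 : Nat.card S0 = 6072 := by
    rcases overgroup π.range hbM huM with h | h | h
    · rw [hcardT] at h; rw [h] at hbound; norm_num at hbound
    · rw [← hcardT]; exact h
    · exfalso
      let θ : MulAut S0 :=
        { toFun := fun x => ⟨y * x * y, hyS x x.2⟩
          invFun := fun x => ⟨y * x * y, hyS x x.2⟩
          left_inv := fun x => Subtype.ext (by simp only [mul_assoc, hy2, hyy, mul_one])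
          right_inv := fun x => Subtype.ext (by simp only [mul_assoc, hy2, hyy, mul_one])
          map_mul' := fun x x' => Subtype.ext (by
            show y * ((x : G) * x') * y = y * x * y * (y * x' * y)
            simp only [mul_assoc, hyy]) }
      obtain ⟨s, hs⟩ := inner_of_equiv (MonoidHom.ofInjective hπ) h θ
      refine no_invert (π s) ?_
      have h2 := DFunLike.congr_fun hs ⟨b, hbS⟩
      rw [MulAut.conj_apply] at h2
      have h3 : s * ⟨b, hbS⟩ * s⁻¹ = (⟨b, hbS⟩ : S0)⁻¹ := by
        rw [← h2]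
        refine Subtype.ext ?_
        show y * b * y = b⁻¹
        rw [← hyb, hyi]
      have h4 := congrArg π h3
      rw [map_mul, map_mul, map_inv, map_inv, show π ⟨b, hbS⟩ = shiftM from eb] at h4
      exact h4
  refine ⟨y, b, hb, hS6072, hWbot, ?_, hbS, h253 _ ⟨hbN, hbU⟩ ⟨huN, huU⟩⟩
  rw [eq_bot_iff]
  rintro x ⟨hxN, w, hw, rfl⟩
  have hw1 : w ∈ W := ⟨hw, (hmem1 w).2 (by
    have h : y * w * y⁻¹ ∈ N := hxN
    rwa [hyi] at h)⟩
  rw [hWbot, mem_bot] at hw1
  simp [hw1]

variable {z : G} {P : Subgroup G} {F : Frame z P}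

/-- **The orbit of length `82575360`**, and no further Far coset is fixed by an element of order `23`. -/
theorem exists_g5 (D : VData F) (hf : Fused D) (hG : Nat.card G = 86775571046077562880)
    (hU : ∀ b : G, orderOf b = 23 → centralizer ({b} : Set G) = zpowers b ∧
      Nat.card (normalizer (zpowers b : Set G)) = 506) :
    ∃ g5 : G, (orb D g5).ncard = 82575360 ∧ Far D g5 ∧
      ∀ g, Far D g → pt D g ∉ orb D g5 → ¬ 23 ∣ Nat.card ↥(st D g) := by
  obtain ⟨I⟩ : Nonempty (Input (NN D) D.V) := by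
    obtain ⟨φ, hsurj, hker, -⟩ := Frame.exists_norm_hom D hf
    obtain ⟨K, hK, hi, hs, -⟩ := Frame.exists_complement D hf
    refine ⟨⟨rfl, D.elem.2, D.card, Frame.card_norm D hf, D.unique, D.elem, φ, hker, K, hK, hi, ?_⟩⟩
    intro σ
    obtain ⟨n, rfl⟩ := hsurj σ
    have hn : (n : G) ∈ K ⊔ D.V := hs.symm ▸ n.2
    rw [← SetLike.mem_coe, coe_mul_of_left_le_normalizer_right K D.V hK] at hn
    obtain ⟨k, hk, v, hv, e⟩ := hn
    refine ⟨⟨k, hK hk⟩, hk, ?_⟩
    have hv' : (⟨v, le_normalizer hv⟩ : ↥(NN D)) ∈ φ.ker := by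
      rw [hker]; exact hv
    have e' : n = ⟨k, hK hk⟩ * ⟨v, le_normalizer hv⟩ := Subtype.ext e.symm
    rw [e', map_mul, MonoidHom.mem_ker.1 hv', mul_one]
  obtain ⟨y, b, hb, hcard, hV1, hV2, hbS, h253⟩ := exists_far_mover I hG hU
  have hfar : Far D y := ⟨hV1, by rw [inf_comm]; exact hV2⟩
  refine ⟨y, ?_, hfar, fun g hg hne h23 => ?_⟩
  · have h := orb_card (D := D) y
    rw [show Nat.card ↥(st D y) = 6072 from hcard, show Nat.card ↥(NN D) = _ from Frame.card_norm D hf] at h
    omega
  · have hN23 : ¬ 23 * 23 ∣ Nat.card ↥(NN D) := by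
      rw [show Nat.card ↥(NN D) = _ from Frame.card_norm D hf]; norm_num
    set Q := zpowers b with hQdef
    have hQ : Nat.card Q = 23 := by rw [hQdef, Nat.card_zpowers, hb]
    have hQN : Q ≤ NN D := zpowers_le.2 hbS.1
    have hfix := fix_card_prime (by norm_num : Nat.Prime 23) hQ hQN hN23
    rw [(hU b hb).2] at hfix
    have h2 : (fixSet (X := G ⧸ NN D) Q).ncard ≤ 2 := by
      obtain ⟨m, hm⟩ := h253
      rw [hm] at hfix
      by_contra hc
      have hm0 : m ≠ 0 := fun e => by simp [e] at hfix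
      nlinarith [Nat.mul_le_mul (show 3 ≤ (fixSet (X := G ⧸ NN D) Q).ncard by omega)
        (show 1 ≤ m by omega)]
    obtain ⟨k, hk, hkx⟩ := exists_fix_prime (by norm_num : Nat.Prime 23) hQ hQN hN23 (pt D g)
      (by rwa [st_eq])
    have h1 : pt D 1 ∈ fixSet Q := mem_fix_iff.2 (by
      rw [stab_pt]
      intro w hw
      rw [mem_cn]
      simpa using hQN hw)
    have h5 : pt D y ∈ fixSet Q := mem_fix_iff.2 (by rw [stab_pt]; exact zpowers_le.2 hbS.2)
    have hx : k • pt D g ∈ orb D g := ⟨⟨k, hk⟩, rfl⟩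
    have hself : ∀ {h : G}, Far D h → pt D 1 ∉ orb D h := fun {h} hh hm =>
      not_adj_of_far hh (by
        obtain ⟨⟨n, hn⟩, e⟩ := hm
        have e' : pt D (n * h) = pt D 1 := e
        have hmem := QuotientGroup.eq.1 e'.symm
        rw [inv_one, one_mul] at hmem
        have hhN : h ∈ NN D := by
          simpa [← mul_assoc] using mul_mem (inv_mem hn) hmem
        refine ⟨z, D.z_mem, IsConj.refl z, h⁻¹ * z * h, ?_, by
          show h * (h⁻¹ * z * h) * h⁻¹ = z; group⟩
        have := (mem_normalizer_iff.1 (inv_mem hhN) z).1 D.z_mem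
        rwa [inv_inv] at this)
    have hA : pt D 1 ≠ pt D y := fun e => hself hfar (e ▸ self_orb y)
    have hB : pt D 1 ≠ k • pt D g := fun e => hself hg (e ▸ hx)
    have hC : pt D y ≠ k • pt D g := fun e => hne (by
      have : orb D g = orb D y := (MulAction.orbit_eq_iff.2 (e ▸ hx)).symm
      exact this ▸ self_orb g)
    have hle := Set.ncard_le_ncard (show ({pt D 1, pt D y, k • pt D g} : Set (G ⧸ NN D)) ⊆ fixSet Q by
      rintro w (rfl | rfl | rfl)
      exacts [h1, h5, hkx])
    rw [Set.ncard_insert_of_notMem (by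
      simp only [Set.mem_insert_iff, Set.mem_singleton_iff, not_or]; exact ⟨hA, hB⟩),
      Set.ncard_pair hC] at hle
    omega

end CfsgLib.J4Type.Rank7
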