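import Cfsg.Agent.Lib.J4Type.Rank7.RestEleven
import Cfsg.Agent.Lib.J4Type.Rank7.RestThree
import Cfsg.Agent.Lib.J4Type.Rank7.RestTwentyThree

/-!
The orbit of length `82575360` and the stabilisers in the remaining orbit.
-/

set_option autoImplicit false
set_option linter.unusedSectionVars false

namespace CfsgLib.J4Type.Rank7

open Cfsg Subgroup

variable {G : Type*} [Group G] [Finite G] {z : G} {P : Subgroup G} {F : Frame z P} {D : VData F}

/-- The data of the two orbits meeting `V` trivially. -/
theorem rest (hf : Fused D) (hG : Nat.card G = 86775571046077562880)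
    (hU : ∀ b : G, orderOf b = 23 → centralizer ({b} : Set G) = zpowers b ∧
      Nat.card (normalizer (zpowers b : Set G)) = 506) (K : Known D) : Nonempty (Rest D) := by
  have hidx : (NN D).index = 173067389 := by
    have h := (NN D).card_mul_index
    rw [show Nat.card ↥(NN D) = _ from Frame.card_norm D hf, hG] at h
    omega
  obtain ⟨g5, h5, hf5, h23⟩ := exists_g5 D hf hG hU
  exact ⟨{
    g5 := g5
    size5 := h5
    far5 := hf5
    dvd_rest := fun g hg hne => dvd_9216 (st_dvd_card24 hf hg) (not_five hf K hg) (not_seven hf K hg)
      (not_eleven hf hidx K h5 h23 (fun g hg => not_three hf hG hg) hg hne) (h23 g hg hne)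
      (not_three hf hG hg) }⟩

end CfsgLib.J4Type.Rank7
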