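import Cfsg.Agent.Lib.J4Type.Rank7.Basic
import Cfsg.Agent.Lib.J4Type.NV.Norm

/-!
The stabiliser of a Far coset embeds in `M₂₄`; without the primes `5`, `7`, `11`, `23` and without `27`
its order divides `9216`.
-/

set_option autoImplicit false
set_option linter.unusedSectionVars false

namespace CfsgLib.J4Type.Rank7

open Cfsg Subgroup
open CfsgLib.Golay (card_M24 isSimple_M24)

variable {G : Type*} [Group G] [Finite G] {z : G} {P : Subgroup G} {F : Frame z P} {D : VData F}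

theorem st_dvd_card24 (hf : Fused D) {g : G} (hg : Far D g) : Nat.card ↥(st D g) ∣ 244823040 := by
  obtain ⟨φ, -, hker, -⟩ := Frame.exists_norm_hom D hf
  let ψ : st D g →* M24 := φ.comp (inclusion inf_le_left)
  have hψ : Function.Injective ψ := by
    refine (injective_iff_map_eq_one ψ).2 fun x hx => ?_
    have h1 : inclusion (inf_le_left : st D g ≤ NN D) x ∈ φ.ker := hx
    rw [hker] at h1
    have h2 : (x : G) ∈ D.V ⊓ cn D g := ⟨h1, x.2.2⟩
    rw [hg.1, mem_bot] at h2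
    exact Subtype.ext h2
  have := Subgroup.card_dvd_of_injective ψ hψ
  rwa [card_M24] at this

theorem dvd_9216 {n : ℕ} (h : n ∣ 244823040) (h5 : ¬ 5 ∣ n) (h7 : ¬ 7 ∣ n) (h11 : ¬ 11 ∣ n)
    (h23 : ¬ 23 ∣ n) (h27 : ¬ 27 ∣ n) : n ∣ 9216 := by
  have cop : ∀ p : ℕ, p.Prime → ¬ p ∣ n → n.Coprime p := fun p hp hn =>
    Nat.Coprime.symm (hp.coprime_iff_not_dvd.2 hn)
  have e1 : n ∣ 2 ^ 10 * 3 ^ 3 * 5 * 7 * 11 * 23 := h
  have e2 := (cop 5 (by norm_num) h5).dvd_of_dvd_mul_right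
    ((cop 7 (by norm_num) h7).dvd_of_dvd_mul_right
      ((cop 11 (by norm_num) h11).dvd_of_dvd_mul_right
        ((cop 23 (by norm_num) h23).dvd_of_dvd_mul_right e1)))
  obtain ⟨a, b, ha, hb, rfl⟩ := Nat.dvd_mul.1 e2
  obtain ⟨i, hi, rfl⟩ := (Nat.dvd_prime_pow (by norm_num : Nat.Prime 3)).1 hb
  have hi2 : i ≤ 2 := by
    by_contra hc
    have : i = 3 := by omega
    subst this
    exact h27 (dvd_mul_left _ _)
  rw [show (9216 : ℕ) = 2 ^ 10 * 3 ^ 2 by norm_num]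
  exact Nat.mul_dvd_mul ha (Nat.pow_dvd_pow 3 hi2)

end CfsgLib.J4Type.Rank7
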