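import Cfsg.Agent.Lib.J4Type.Rank7.Fix
import Cfsg.Agent.Lib.J4Type.Seven.Struct
import Cfsg.Agent.Lib.Golay.Mathieu
import Mathlib.GroupTheory.Transfer

/-!
Seven does not divide the stabiliser of a Far coset: an element of order seven fixes at most five cosets, but
its centraliser in `V` would be regular on four Far ones besides the base and one adjacent coset.
-/

set_option autoImplicit false
set_option linter.unusedSectionVars false
set_option maxRecDepth 100000

namespace CfsgLib.J4Type.Rank7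

open Cfsg Subgroup
open CfsgLib.Golay (card_M24 isSimple_M24)

variable {G : Type*} [Group G] [Finite G] {z : G} {P : Subgroup G}

section Mover

variable {S : Seven.Setup z P} (A : Seven.Ctx S)
include A

/-- Some element of the normaliser of `V` normalises `⟨a⟩` without centralising it. -/
theorem seven_mover : ∃ n ∈ NN S.D, n ∈ normalizer (zpowers A.a : Set G) ∧ n * A.a ≠ A.a * n := by
  haveI : Fact (Nat.Prime 7) := ⟨by norm_num⟩
  by_contra hno
  push Not at hno
  let a' : NN S.D := ⟨A.a, A.a_norm⟩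
  have hfac : (Nat.card ↥(NN S.D)).factorization 7 = 1 := by
    rw [show Nat.card ↥(NN S.D) = _ from Frame.card_norm S.D S.fused,
      show 2 ^ 11 * 244823040 = 7 ^ 1 * 71628226560 by norm_num,
      Nat.factorization_mul (by norm_num) (by norm_num), Finsupp.add_apply,
      Nat.Prime.factorization_pow (by norm_num : Nat.Prime 7), Finsupp.single_eq_same,
      Nat.factorization_eq_zero_of_not_dvd (by norm_num)]
  let T : Sylow 7 (NN S.D) := Sylow.ofCard (zpowers a') (by
    rw [Nat.card_zpowers, Subgroup.orderOf_mk, A.a_order, hfac, pow_one])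
  have hT : normalizer ((T : Subgroup (NN S.D)) : Set (NN S.D)) ≤
      centralizer ((T : Subgroup (NN S.D)) : Set (NN S.D)) := by
    intro n hn
    have hc : (n : G) * A.a = A.a * n := by
      refine hno n n.2 (Seven.mem_normalizer_powers ?_)
      obtain ⟨k, hk⟩ := mem_zpowers_iff.1
        ((mem_normalizer_iff.1 hn a').1 (mem_zpowers a') : n * a' * n⁻¹ ∈ zpowers a')
      exact mem_zpowers_iff.2 ⟨k, congrArg Subtype.val hk⟩
    refine mem_centralizer_iff.2 fun y hy => ?_
    obtain ⟨k, rfl⟩ := mem_zpowers_iff.1 (show y ∈ zpowers a' from hy)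
    exact ((show Commute n a' from Subtype.ext hc).zpow_right k).eq.symm
  set K := (MonoidHom.transferSylow T hT).ker
  have hKi : K.index = 7 := by
    rw [(MonoidHom.ker_transferSylow_isComplement' T hT).symm.index_eq_card]
    show Nat.card (zpowers a') = 7
    rw [Nat.card_zpowers, Subgroup.orderOf_mk, A.a_order]
  obtain ⟨φ, hsurj, -, -⟩ := Frame.exists_norm_hom S.D S.fused
  haveI : IsSimpleGroup M24 := isSimple_M24
  have hKm : (K.map φ).Normal := Subgroup.Normal.map inferInstance φ hsurj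
  have hidx : (K.map φ).index ∣ 7 := hKi ▸ K.index_map_dvd hsurj
  rcases hKm.eq_bot_or_eq_top with h | h
  · rw [h, Subgroup.index_bot, card_M24] at hidx
    norm_num at hidx
  · refine MonoidHom.not_dvd_card_ker_transferSylow T hT ?_
    have h1 : Nat.card (K.map φ) ∣ Nat.card K := K.card_map_dvd φ
    rw [h, Subgroup.card_top, card_M24] at h1
    exact dvd_trans (by norm_num) h1

/-- An element of order seven fixes at most five cosets. -/
theorem seven_fix_le : (fixSet (X := G ⧸ NN S.D) (zpowers A.a)).ncard ≤ 5 := by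
  have h := fix_card_prime (by norm_num : Nat.Prime 7) (Q := zpowers A.a)
    (by rw [Nat.card_zpowers, A.a_order]) (zpowers_le.2 A.a_norm)
    (fun h => A.not_dvd_49 (h.trans (card_subgroup_dvd_card _)))
  rw [A.card_normalizer] at h
  set R := NN S.D ⊓ normalizer (zpowers A.a : Set G)
  have hM : A.M ≤ R := fun m hm => ⟨hm.1, Seven.mem_normalizer_powers (by
    rw [A.mem_X.1 hm.2, mul_inv_cancel_right]; exact mem_zpowers _)⟩
  obtain ⟨k, hk⟩ := card_dvd_of_le hM
  rw [A.card_M] at hk
  obtain ⟨n, hn, hnR, hnc⟩ := seven_mover A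
  have hk1 : k ≠ 1 := fun e => by
    have hRM : A.M = R := eq_of_le_of_card_ge hM (by rw [hk, e, A.card_M])
    have : n ∈ A.M := hRM ▸ (show n ∈ R from ⟨hn, hnR⟩)
    exact hnc (A.mem_X.1 this.2)
  rw [hk] at h
  have hk0 : k ≠ 0 := fun e => by simp [e] at h
  have h15 : (fixSet (X := G ⧸ NN S.D) (zpowers A.a)).ncard * k = 15 := by nlinarith
  by_contra hc
  have hk2 : 2 ≤ k := by omega
  have hle : k ≤ 2 := by nlinarith
  have : k = 2 := by omega
  subst this
  omega

end Mover

variable {F : Frame z P} {D : VData F}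

/-- **Seven does not divide the stabiliser of a Far coset.** -/
theorem not_seven (hf : Fused D) (K : Known D) {g : G} (hg : Far D g) :
    ¬ 7 ∣ Nat.card ↥(st D g) := by
  intro h7
  haveI : Fact (Nat.Prime 7) := ⟨by norm_num⟩
  obtain ⟨S, hSF, hSD⟩ : ∃ S : Seven.Setup z P, S.F = F ∧ HEq S.D D := by
    have hck := Seven.cent_ok
    simp only [Local57.centCheck, Bool.and_eq_true, List.all_eq_true] at hck
    have hne : Seven.m7 ≠ idM := by decide +kernel
    obtain ⟨s, hs, ho, hm⟩ := Local57.exists_gen F Seven.inL_m7 (Three.eqM_sound hck.2) (p := 7)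
      (by norm_num) (by decide) (Three.eqM_sound hck.1.2) hne
    exact ⟨⟨F, D, hf, s, hs, ho, hm⟩, rfl, HEq.rfl⟩
  subst hSF
  obtain rfl := eq_of_heq hSD
  obtain ⟨A⟩ := Seven.exists_ctx S
  set Q := zpowers A.a
  have hQ : Nat.card Q = 7 := by rw [Nat.card_zpowers, A.a_order]
  have hQN : Q ≤ NN S.D := zpowers_le.2 A.a_norm
  have hd : ¬ 7 * 7 ∣ Nat.card ↥(NN S.D) := fun h => A.not_dvd_49 (h.trans (card_subgroup_dvd_card _))
  obtain ⟨k, hk, hkx⟩ := exists_fix_prime (by norm_num : Nat.Prime 7) hQ hQN hd (pt S.D g)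
    (by rwa [st_eq])
  set x := k • pt S.D g
  have hx : x ∈ orb S.D g := ⟨⟨k, hk⟩, rfl⟩
  have hst1 : Nat.card ↥(st S.D K.g1) = 33030144 := by
    have h := orb_card (D := S.D) K.g1
    rw [K.size1, show Nat.card ↥(NN S.D) = _ from Frame.card_norm S.D S.fused] at h
    omega
  obtain ⟨k1, hk1, hk1x⟩ := exists_fix_prime (by norm_num : Nat.Prime 7) hQ hQN hd (pt S.D K.g1)
    (by rw [st_eq, hst1]; norm_num)
  set y := k1 • pt S.D K.g1
  have hy : y ∈ orb S.D K.g1 := ⟨⟨k1, hk1⟩, rfl⟩
  have h1 : pt S.D 1 ∈ fixSet Q := mem_fix_iff.2 (by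
    rw [stab_pt]
    intro w hw
    rw [mem_cn]
    simpa using hQN hw)
  -- the fixed elements of `V` are regular on the fixed point
  have hWQ : A.W ≤ normalizer (Q : Set G) := fun w hw => Seven.mem_normalizer_powers (by
    rw [A.mem_X.1 hw.2, mul_inv_cancel_right]; exact mem_zpowers _)
  have hW : (orbS A.W x).ncard = 4 := by
    have h := orbS_card A.W x
    have h2 : Nat.card ↥(A.W ⊓ MulAction.stabilizer G x) = 1 := by
      refine Nat.le_antisymm ?_ Nat.card_pos
      calc Nat.card ↥(A.W ⊓ MulAction.stabilizer G x)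
          ≤ Nat.card ↥(S.D.V ⊓ MulAction.stabilizer G x) :=
            card_le_of_le (inf_le_inf_right _ inf_le_left)
        _ = 1 := by rw [card_vst hx, hg.1, Subgroup.card_bot]
    rw [h2, A.card_W, mul_one] at h
    exact h
  have hsub : {pt S.D 1, y} ∪ orbS A.W x ⊆ fixSet Q := Set.union_subset (by
    rintro w (rfl | rfl)
    exacts [h1, hk1x]) (orbS_sub_fix hWQ hkx)
  obtain ⟨hn1, hn2, -, -⟩ := far_orb_ne K hg
  have hWorb : orbS A.W x ⊆ orb S.D g := by
    rintro _ ⟨w, hw, rfl⟩
    exact ⟨⟨w * k, mul_mem (le_normalizer hw.1) hk⟩, (mul_smul w k (pt S.D g) :)⟩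
  have hne : pt S.D 1 ≠ y := fun e => by
    have e1 : orb S.D 1 = orb S.D K.g1 := orb_eq (e ▸ hy)
    have := congrArg Set.ncard e1
    rw [orb_one, K.size1] at this
    omega
  have hdis : Disjoint ({pt S.D 1, y} : Set (G ⧸ NN S.D)) (orbS A.W x) := by
    refine Set.disjoint_left.2 fun w hw hw' => ?_
    have h := MulAction.orbit_eq_iff.2 (hWorb hw')
    rcases hw with rfl | rfl
    · exact hn1 h.symm
    · exact hn2 (h.symm.trans (MulAction.orbit_eq_iff.2 hy))
  have hle := Set.ncard_le_ncard hsub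
  rw [Set.ncard_union_eq hdis, Set.ncard_pair hne, hW] at hle
  have h5 : (fixSet Q).ncard ≤ 5 := seven_fix_le A
  omega

end CfsgLib.J4Type.Rank7
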