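import Cfsg.Agent.Lib.J4Type.Rank7.RestFive
import Cfsg.Agent.Lib.J4Type.Rank7.RestSeven
import Cfsg.Agent.Lib.J4Type.Rank7.RestDvd
import Cfsg.Agent.Lib.J4Type.Rank7.Classes
import Cfsg.Agent.Lib.Golay.M24Index2

/-!
Eleven does not divide the stabiliser of a Far coset outside the orbit of length `82575360`: such a
stabiliser has order at most `11 * 1024`, so its orbit would fill the remaining `54405120` cosets.
-/

set_option autoImplicit false
set_option linter.unusedSectionVars false
set_option linter.style.haveILetI false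
set_option maxRecDepth 100000

namespace CfsgLib.J4Type.Rank7

open Cfsg Subgroup
open CfsgLib.Golay (eleven_fix fixPts invariant_modEq permOf)
open scoped Pointwise
open CfsgLib.Mathieu (invol_cases order3_cases fixS tOct tFree tOctPows tFreePows card_comm_tOct
  card_comm_tFree)

/-- No element of order two or three of `M₂₄` commutes with one of order eleven. -/
theorem eleven_commute {a b : M24} (ha : orderOf a = 11) (hab : b * a = a * b) :
    orderOf b ≠ 2 ∧ orderOf b ≠ 3 := by
  classical
  haveI : Fact (Nat.Prime 11) := ⟨by norm_num⟩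
  have hc : (b : Equiv.Perm GolayPt) * a = a * b := congrArg Subtype.val hab
  constructor
  · intro hb
    have h11 : 11 ∣ Nat.card (comm24 (b : Equiv.Perm GolayPt)) := by
      have := orderOf_dvd_natCard (⟨(a : Equiv.Perm GolayPt), mem_comm24.2 ⟨a.2, hc.symm⟩⟩ :
        comm24 (b : Equiv.Perm GolayPt))
      rwa [Subgroup.orderOf_mk, Subgroup.orderOf_coe, ha] at this
    have e0 : Nat.card (comm24 (permOf tOct)) = 21504 :=
      card_comm24_rep _ _ (by rw [show [tOct] = tOctPows from rfl]; exact card_comm_tOct)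
    have e2 : Nat.card (comm24 (permOf tFree)) = 7680 :=
      card_comm24_rep _ _ (by rw [show [tFree] = tFreePows from rfl]; exact card_comm_tFree)
    rcases invol_cases b.2 (by rwa [Subgroup.orderOf_coe]) with ⟨d, hd, e, -⟩ | ⟨d, hd, e, -⟩
    · rw [e, card_comm24_conj hd, e0] at h11
      norm_num at h11
    · rw [e, card_comm24_conj hd, e2] at h11
      norm_num at h11
  · intro hb
    haveI : Fact (Nat.Prime 3) := ⟨by norm_num⟩
    -- `b` fixes the two fixed points of `a`
    have hbfix : ∀ p : GolayPt, a • p = p → a • (b • p) = b • p := fun p hp => by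
      rw [← mul_smul, ← hab, mul_smul, hp]
    have hafix : ∀ p : GolayPt, b • p = p → b • (a • p) = a • p := fun p hp => by
      rw [← mul_smul, hab, mul_smul, hp]
    have hfa := eleven_fix ha
    have hU : a • fixPts b = fixPts b := by
      refine Finset.eq_of_subset_of_card_le (fun q hq => ?_) (by rw [Finset.card_smul_finset])
      obtain ⟨p, hp, rfl⟩ := Finset.mem_smul_finset.1 hq
      exact Finset.mem_filter.2 ⟨Finset.mem_univ _, hafix p (Finset.mem_filter.1 hp).2⟩
    have hV : b • fixPts a = fixPts a := by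
      refine Finset.eq_of_subset_of_card_le (fun q hq => ?_) (by rw [Finset.card_smul_finset])
      obtain ⟨p, hp, rfl⟩ := Finset.mem_smul_finset.1 hq
      exact Finset.mem_filter.2 ⟨Finset.mem_univ _, hbfix p (Finset.mem_filter.1 hp).2⟩
    have h1 := invariant_modEq (p := 3) (hb ▸ pow_orderOf_eq_one b) hV
    have h2 := invariant_modEq (p := 11) (ha ▸ pow_orderOf_eq_one a) hU
    have hle1 := Finset.card_le_card (Finset.inter_subset_left : fixPts a ∩ fixPts b ⊆ fixPts a)
    rw [Nat.ModEq, hfa] at h1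
    have h12 : (fixPts a ∩ fixPts b).card = 2 := by omega
    rw [Finset.inter_comm, h12] at h2
    have h6 : (fixPts b).card = 6 := by
      have e : fixPts b = fixS (b : Equiv.Perm GolayPt) := rfl
      rcases order3_cases b.2 (by rwa [Subgroup.orderOf_coe]) with ⟨d, -, -, h⟩ | ⟨d, -, -, h⟩
      · rw [e, h]
      · rw [e, h, Finset.card_empty] at h2
        exact absurd h2 (by decide)
    rw [h6] at h2
    exact absurd h2 (by decide)

variable {G : Type*} [Group G] [Finite G] {z : G} {P : Subgroup G} {F : Frame z P} {D : VData F}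

/-- A divisor of `9216` congruent to one modulo eleven. -/
theorem index_cases {m : ℕ} (hm : m ∣ 9216) (h1 : m % 11 = 1) :
    m = 1 ∨ m = 12 ∨ m = 144 ∨ m = 1024 := by
  obtain ⟨a, b, ha, hb, rfl⟩ := Nat.dvd_mul.1 (show m ∣ 2 ^ 10 * 3 ^ 2 from hm)
  obtain ⟨i, hi, rfl⟩ := (Nat.dvd_prime_pow Nat.prime_two).1 ha
  obtain ⟨j, hj, rfl⟩ := (Nat.dvd_prime_pow (by norm_num : Nat.Prime 3)).1 hb
  interval_cases i <;> interval_cases j <;> simp_all

/-- A stabiliser of order divisible by eleven is small. -/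
theorem card_le_of_eleven (hf : Fused D) {g : G} (hg : Far D g)
    (hd : Nat.card ↥(st D g) ∣ 101376) (h11 : 11 ∣ Nat.card ↥(st D g)) :
    Nat.card ↥(st D g) ≤ 11264 := by
  classical
  haveI : Fact (Nat.Prime 11) := ⟨by norm_num⟩
  obtain ⟨φ, -, hker, -⟩ := Frame.exists_norm_hom D hf
  let ψ : st D g →* M24 := φ.comp (inclusion inf_le_left)
  have hψ : Function.Injective ψ := by
    refine (injective_iff_map_eq_one ψ).2 fun x hx => ?_
    have h1 : inclusion (inf_le_left : st D g ≤ NN D) x ∈ φ.ker := hx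
    rw [hker] at h1
    have h2 : (x : G) ∈ D.V ⊓ cn D g := ⟨h1, x.2.2⟩
    rw [hg.1, mem_bot] at h2
    exact Subtype.ext h2
  obtain ⟨a, ha⟩ := exists_prime_orderOf_dvd_card' 11 h11
  have hd11 : ¬ 11 * 11 ∣ Nat.card ↥(st D g) := fun h => absurd (h.trans hd) (by norm_num)
  have hfac : (Nat.card ↥(st D g)).factorization 11 = 1 := by
    have h0 : Nat.card ↥(st D g) ≠ 0 := Nat.card_pos.ne'
    have h1 := ((by norm_num : Nat.Prime 11).dvd_iff_one_le_factorization h0).1 h11
    by_contra hne
    exact hd11 (pow_two 11 ▸ ((by norm_num : Nat.Prime 11).pow_dvd_iff_le_factorization h0).2 (by omega))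
  let T : Sylow 11 (st D g) := Sylow.ofCard (zpowers a) (by
    rw [Nat.card_zpowers, ha, hfac, pow_one])
  have hmod := card_sylow_modEq_one 11 (st D g)
  rw [Sylow.card_eq_index_normalizer T] at hmod
  change (normalizer (zpowers a : Set (st D g))).index % 11 = 1 % 11 at hmod
  set Nm := normalizer (zpowers a : Set (st D g))
  set C := centralizer ({a} : Set (st D g))
  have hC : Nat.card C ∣ 11 := by
    have hno : ∀ p : ℕ, p.Prime → (p = 2 ∨ p = 3) → ¬ p ∣ Nat.card C := by
      intro p hp hp23 hdvd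
      haveI := Fact.mk hp
      obtain ⟨⟨b, hbC⟩, hb⟩ := exists_prime_orderOf_dvd_card' p hdvd
      rw [Subgroup.orderOf_mk] at hb
      have h1 := eleven_commute (a := ψ a) (b := ψ b) (by rw [orderOf_injective ψ hψ, ha])
        (by rw [← map_mul, ← map_mul, mem_centralizer_singleton_iff.1 hbC])
      rw [orderOf_injective ψ hψ, hb] at h1
      rcases hp23 with rfl | rfl
      exacts [h1.1 rfl, h1.2 rfl]
    have e : Nat.card C ∣ 2 ^ 10 * 3 ^ 2 * 11 := (card_subgroup_dvd_card C).trans hd
    have cop : ∀ p : ℕ, p.Prime → (p = 2 ∨ p = 3) → ∀ k, (Nat.card C).Coprime (p ^ k) :=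
      fun p hp h k => Nat.Coprime.pow_right k (Nat.Coprime.symm (hp.coprime_iff_not_dvd.2 (hno p hp h)))
    rw [mul_assoc] at e
    exact (cop 3 (by norm_num) (Or.inr rfl) 2).dvd_of_dvd_mul_left
      ((cop 2 Nat.prime_two (Or.inl rfl) 10).dvd_of_dvd_mul_left e)
  have haC : zpowers a ≤ C := zpowers_le.2 (mem_centralizer_singleton_iff.2 rfl)
  have hCa : C = zpowers a := (eq_of_le_of_card_ge haC (by
    rw [Nat.card_zpowers, ha]; exact Nat.le_of_dvd (by norm_num) hC)).symm
  -- the normaliser of the subgroup of order eleven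
  have hNm : Nat.card Nm ∣ 110 := by
    haveI : IsCyclic (zpowers a) := (Subgroup.isCyclic_iff_exists_zpowers_eq_top _).2 ⟨a, rfl⟩
    let θ := (zpowers a).normalizerMonoidHom
    have h1 := θ.ker.card_mul_index
    rw [Subgroup.index_ker] at h1
    have h2 : Nat.card θ.ker ∣ 11 := by
      rw [Subgroup.normalizerMonoidHom_ker]
      refine dvd_trans ?_ hC
      rw [show centralizer ((zpowers a : Subgroup (st D g)) : Set (st D g)) = C from ?_,
        Nat.card_congr (subgroupOfEquivOfLe ?_).toEquiv]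
      · rw [hCa]; exact le_normalizer
      · rw [zpowers_eq_closure, centralizer_closure]
    have h3 : Nat.card θ.range ∣ 10 := by
      have h4 : Nat.card (MulAut (zpowers a)) = 10 := by
        rw [Nat.card_congr (IsCyclic.mulAutMulEquiv (zpowers a)).toEquiv, Nat.card_zpowers, ha,
          Nat.card_eq_fintype_card, ZMod.card_units_eq_totient]
        decide
      exact h4 ▸ card_subgroup_dvd_card θ.range
    exact h1 ▸ Nat.mul_dvd_mul h2 h3
  have hm : Nm.index * Nat.card Nm = Nat.card ↥(st D g) := by rw [mul_comm]; exact Nm.card_mul_index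
  have hN22 : Nat.card Nm ∣ 22 := by
    have h : Nat.card Nm ∣ Nat.gcd 110 101376 :=
      Nat.dvd_gcd hNm ((card_subgroup_dvd_card Nm).trans hd)
    exact h
  have h11N : 11 ∣ Nat.card Nm := by
    have := card_dvd_of_le (le_normalizer : zpowers a ≤ Nm)
    rwa [Nat.card_zpowers, ha] at this
  obtain ⟨k, hk⟩ := h11N
  rw [hk] at hN22 hm
  have hk2 : k ∣ 2 := Nat.dvd_of_mul_dvd_mul_left (by norm_num) (show 11 * k ∣ 11 * 2 from hN22)
  have hmk : Nm.index * k ∣ 9216 := by
    refine Nat.dvd_of_mul_dvd_mul_left (show 0 < 11 by norm_num) ?_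
    rw [show 11 * (Nm.index * k) = Nm.index * (11 * k) by ring, hm]
    exact hd
  have hm' := index_cases ((dvd_mul_right _ _).trans hmk) hmod
  rcases (Nat.dvd_prime Nat.prime_two).1 hk2 with rfl | rfl <;>
    rcases hm' with h | h | h | h <;> rw [h] at hm hmk <;> omega

/-- **Eleven does not divide the stabiliser of a Far coset outside the orbit of length `82575360`.** -/
theorem not_eleven (hf : Fused D) (hidx : (NN D).index = 173067389) (K : Known D) {g5 : G}
    (h5 : (orb D g5).ncard = 82575360)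
    (h23 : ∀ g, Far D g → pt D g ∉ orb D g5 → ¬ 23 ∣ Nat.card ↥(st D g))
    (h27 : ∀ g, Far D g → ¬ 27 ∣ Nat.card ↥(st D g))
    {g : G} (hg : Far D g) (hne : pt D g ∉ orb D g5) : ¬ 11 ∣ Nat.card ↥(st D g) := by
  classical
  intro h11
  have hdvd : ∀ h, Far D h → pt D h ∉ orb D g5 → Nat.card ↥(st D h) ∣ 101376 := by
    intro h hh hh5
    have e1 : Nat.card ↥(st D h) ∣ (2 ^ 10 * 3 ^ 3 * 11) * 5 * 7 * 23 :=
      st_dvd_card24 hf hh
    have cop : ∀ p : ℕ, p.Prime → ¬ p ∣ Nat.card ↥(st D h) → (Nat.card ↥(st D h)).Coprime p :=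
      fun p hp hn => Nat.Coprime.symm (hp.coprime_iff_not_dvd.2 hn)
    have e2 := (cop 5 (by norm_num) (not_five hf K hh)).dvd_of_dvd_mul_right
      ((cop 7 (by norm_num) (not_seven hf K hh)).dvd_of_dvd_mul_right
        ((cop 23 (by norm_num) (h23 h hh hh5)).dvd_of_dvd_mul_right e1))
    obtain ⟨u, v, hu, hv, huv⟩ := Nat.dvd_mul.1 e2
    obtain ⟨u1, u2, hu1, hu2, rfl⟩ := Nat.dvd_mul.1 hu
    obtain ⟨i, hi, rfl⟩ := (Nat.dvd_prime_pow (by norm_num : Nat.Prime 3)).1 hu2
    have hi2 : i ≤ 2 := by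
      by_contra hc
      obtain rfl : i = 3 := by omega
      exact h27 h hh (huv ▸ Dvd.dvd.mul_right (dvd_mul_left _ _) _)
    rw [← huv, show (101376 : ℕ) = 2 ^ 10 * 3 ^ 2 * 11 by norm_num]
    exact Nat.mul_dvd_mul (Nat.mul_dvd_mul hu1 (Nat.pow_dvd_pow 3 hi2)) hv
  have horb : ∀ h, (orb D h).ncard * Nat.card ↥(st D h) = 501397585920 := fun h => by
    rw [orb_card, show Nat.card ↥(NN D) = _ from Frame.card_norm D hf]; norm_num
  have hbig : ∀ h, Far D h → pt D h ∉ orb D g5 → 11 ∣ Nat.card ↥(st D h) →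
      44513280 ≤ (orb D h).ncard := by
    intro h hh hh5 hdiv
    have h2 := card_le_of_eleven hf hh (hdvd h hh hh5) hdiv
    have h1 := horb h
    by_contra hc
    have := Nat.mul_le_mul (show (orb D h).ncard ≤ 44513279 by omega) h2
    omega
  have hbig' : ∀ h, Far D h → pt D h ∉ orb D g5 → 44513280 ≤ (orb D h).ncard := by
    intro h hh hh5
    by_cases hdiv : 11 ∣ Nat.card ↥(st D h)
    · exact hbig h hh hh5 hdiv
    · have h2 : Nat.card ↥(st D h) ≤ 9216 := Nat.le_of_dvd (by norm_num)
        ((Nat.Coprime.symm ((by norm_num : Nat.Prime 11).coprime_iff_not_dvd.2 hdiv)).dvd_of_dvd_mul_right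
          (show Nat.card ↥(st D h) ∣ 9216 * 11 from hdvd h hh hh5))
      have h1 := horb h
      by_contra hc
      have := Nat.mul_le_mul (show (orb D h).ncard ≤ 44513279 by omega) h2
      omega
  -- the cosets outside the orbit
  let Kn : Set (G ⧸ NN D) := orb D 1 ∪ orb D K.g1 ∪ orb D K.g2 ∪ orb D K.g3 ∪ orb D K.g4 ∪ orb D g5
  have hdis : ∀ a b : G, (orb D a).ncard ≠ (orb D b).ncard → Disjoint (orb D a) (orb D b) :=
    fun a b h => Set.disjoint_left.2 fun x hx hy => h (congrArg Set.ncard
      ((MulAction.orbit_eq_iff.2 hx).symm.trans (MulAction.orbit_eq_iff.2 hy)))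
  have hKn : Kn.ncard = 118662269 := by
    simp only [Kn]
    rw [Set.ncard_union_eq, Set.ncard_union_eq, Set.ncard_union_eq, Set.ncard_union_eq,
      Set.ncard_union_eq, orb_one, K.size1, K.size2, K.size3, K.size4, h5]
    all_goals
      try simp only [Set.disjoint_union_left]
      repeat' apply And.intro
      all_goals
        apply hdis
        simp only [orb_one, K.size1, K.size2, K.size3, K.size4, h5]
        omega
  have hg11 := hbig g hg hne h11
  have hgK : Disjoint Kn (orb D g) := by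
    simp only [Kn, Set.disjoint_union_left]
    refine ⟨⟨⟨⟨⟨hdis _ _ ?_, hdis _ _ ?_⟩, hdis _ _ ?_⟩, hdis _ _ ?_⟩, hdis _ _ ?_⟩,
      Set.disjoint_left.2 fun x hx hy => hne (by
        rw [show orb D g5 = orb D g from
          (MulAction.orbit_eq_iff.2 hx).symm.trans (MulAction.orbit_eq_iff.2 hy)]
        exact self_orb g)⟩
    all_goals simp only [orb_one, K.size1, K.size2, K.size3, K.size4]; omega
  haveI : Fintype (G ⧸ NN D) := Fintype.ofFinite _
  have hn : Nat.card (G ⧸ NN D) = 173067389 := hidx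
  rcases eq_or_ne (Kn ∪ orb D g) Set.univ with hu | hu
  · have h := congrArg Set.ncard hu
    rw [Set.ncard_union_eq hgK, hKn, Set.ncard_univ, hn] at h
    have h1 := horb g
    rw [show (orb D g).ncard = 54405120 by omega] at h1
    have : Nat.card ↥(st D g) = 9216 := by omega
    rw [this] at h11
    norm_num at h11
  · obtain ⟨q, hq⟩ := (Set.ne_univ_iff_exists_notMem _).1 hu
    obtain ⟨h, rfl⟩ := QuotientGroup.mk_surjective q
    simp only [Kn, Set.mem_union, not_or] at hq
    obtain ⟨⟨⟨⟨⟨⟨q0, q1⟩, q2⟩, q3⟩, q4⟩, q5⟩, qg⟩ := hq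
    have hfar : Far D h := (K.cases h).resolve_right fun r => by
      rcases r with r | r | r | r | r
      exacts [q0 r, q1 r, q2 r, q3 r, q4 r]
    have hh := hbig' h hfar q5
    have hd1 : Disjoint (Kn ∪ orb D g) (orb D h) := by
      have key : ∀ a, pt D h ∉ orb D a → Disjoint (orb D a) (orb D h) := fun a r =>
        Set.disjoint_left.2 fun x hx hy => r (by
          rw [show orb D a = orb D h from
            (MulAction.orbit_eq_iff.2 hx).symm.trans (MulAction.orbit_eq_iff.2 hy)]
          exact self_orb h)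
      simp only [Kn, Set.disjoint_union_left]
      exact ⟨⟨⟨⟨⟨⟨key _ q0, key _ q1⟩, key _ q2⟩, key _ q3⟩, key _ q4⟩, key _ q5⟩, key _ qg⟩
    have hle := Set.ncard_le_ncard (Set.subset_univ (Kn ∪ orb D g ∪ orb D h))
    rw [Set.ncard_union_eq hd1, Set.ncard_union_eq hgK, hKn, Set.ncard_univ, hn] at hle
    omega

end CfsgLib.J4Type.Rank7
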