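import Cfsg.Agent.Lib.J4Type.Rank7.Fix
import Cfsg.Agent.Lib.J4Type.Five.Results
import Cfsg.Agent.Lib.J4Type.NV.Norm

/-!
Five does not divide the stabiliser of a Far coset: the fourteen fixed cosets of an element of order
five would leave exactly four in the third orbit, so thirty-two Sylow subgroups in its stabiliser.
-/

set_option autoImplicit false
set_option linter.unusedSectionVars false
set_option linter.style.haveILetI false
set_option maxRecDepth 100000
set_option Elab.async false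

namespace CfsgLib.J4Type.Rank7

open Cfsg Subgroup
open CfsgLib.J4Type.Five (m5 n5 reps5)
open CfsgLib.J4Type.Local57 (spread)
open CfsgLib.J4Type.Cert (stabF)

/-- The powers of the squaring matrix. -/
def n5pows : List (List ℕ) := [idM, n5, mm n5 n5, mm n5 (mm n5 n5)]

/-- Sixty matrices normalising the subgroup of order five and the plane. -/
def list60 : List (List ℕ) :=
  ((spread reps5).filter stabF).flatMap fun c => n5pows.map fun n => mm c n

theorem list60_ok : list60.Nodup ∧ list60.length = 60 := by decide +kernel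

theorem stab_m5_n5 : stabF m5 = true ∧ stabF n5 = true := by decide +kernel

theorem exists_moving_code : (spread reps5).any (fun c => !stabF c) = true := by decide +kernel

variable {G : Type*} [Group G] [Finite G] {z : G} {P : Subgroup G}

theorem rad_five {S : Five.Setup z P} : 8 ≤ Nat.card ↥(S.D.V ⊓ S.X) := by
  have hspec : ∀ i : Fin 4, S.F.eE i.val ∈ Rad z ∧ S.F.co (S.F.eE i.val) = i.val := fun i =>
    ⟨(S.F.eE_spec (by omega)).1, (S.F.eE_spec (by omega)).2.1⟩
  have hmem : ∀ i : Fin 4, ∀ b : Bool, S.F.eE i.val * S.F.zp b ∈ S.D.V ⊓ S.X := by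
    intro i b
    refine mul_mem ⟨Frame.plane_mem S.D (by omega), (S.rad_mem_X (hspec i).1).2 ?_⟩
      ⟨Frame.zp_mem_V S.D b, ?_⟩
    · rw [(hspec i).2]
      revert i
      decide
    · cases b
      · exact one_mem _
      · exact S.z_mem_CX.2
  let f : Fin 4 × Bool → ↥(S.D.V ⊓ S.X) := fun x => ⟨_, hmem x.1 x.2⟩
  have hzr : ∀ b : Bool, S.F.zp b ∈ Rad z ∧ S.F.co (S.F.zp b) = 0 := by
    intro b
    cases b
    · exact ⟨one_mem _, S.F.co_one'⟩
    · exact ⟨S.F.z_mem_rad', S.F.co_z'⟩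
  have hf : Function.Injective f := by
    rintro ⟨i, b⟩ ⟨j, c⟩ h
    have h' : S.F.eE i.val * S.F.zp b = S.F.eE j.val * S.F.zp c := congrArg Subtype.val h
    have e := congrArg S.F.co h'
    rw [S.F.co_mul _ (hspec i).1 _ (hzr b).1, S.F.co_mul _ (hspec j).1 _ (hzr c).1, (hspec i).2,
      (hspec j).2, (hzr b).2, (hzr c).2, Nat.xor_zero, Nat.xor_zero] at e
    obtain rfl := Fin.ext e
    have hb := mul_left_cancel h'
    cases b <;> cases c <;> simp [Frame.zp] at hb ⊢
    · exact absurd hb.symm S.F.z_ne_one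
    · exact absurd hb S.F.z_ne_one
  simpa using Nat.card_le_card_of_injective f hf

theorem norm_five {S : Five.Setup z P} :
    1920 ≤ Nat.card ↥(normalizer (S.D.V : Set G) ⊓ normalizer (zpowers S.q : Set G)) := by
  classical
  let M : Subgroup G :=
    Cen z ⊓ (normalizer (S.D.V : Set G) ⊓ normalizer (zpowers S.q : Set G))
  refine le_trans ?_ (card_le_of_le (inf_le_right : M ≤ _))
  have hX : ∀ {x : G}, x ∈ S.CX → x ∈ normalizer (zpowers S.q : Set G) := fun hx =>
    Five.mem_normalizer_zpowers (by rw [S.mem_X.1 hx.2, mul_inv_cancel_right]; exact mem_zpowers _)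
  let φ : M →* Cert.LGrp :=
    { toFun := fun h => ⟨S.F.mat h, S.F.mat_inL h h.2.1⟩
      map_one' := Subtype.ext S.F.mat_one'
      map_mul' := fun a b => Subtype.ext (S.F.mat_mul a a.2.1 b b.2.1) }
  have hR : ∀ x ∈ S.R, x ∈ M := fun x hx =>
    ⟨rad_le_Cen hx.1, S.D.rad_le_norm hx.1, hX (S.R_le hx)⟩
  have hker : 32 ≤ Nat.card φ.ker := by
    rw [← S.card_R]
    refine Nat.card_le_card_of_injective
      (fun x : S.R => (⟨⟨x, hR x x.2⟩, ?_⟩ : φ.ker)) fun a b e => ?_
    · exact Subtype.ext ((S.F.mat_eq_id _ (hR x x.2).1).2 x.2.1)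
    · exact Subtype.ext (congrArg (fun y : φ.ker => ((y : M) : G)) e)
  -- the squaring element
  obtain ⟨l, hl, hlm, hlq⟩ : ∃ l ∈ Cen z ⊓ normalizer (P : Set G),
      S.F.mat l = n5 ∧ l * S.q * l⁻¹ = S.q ^ 2 := by
    refine Local57.exists_moving S.F S.q_mem S.q_odd Five.inL_n5 2 ?_
    rw [pow_two, S.F.mat_mul _ S.q_mem.1 _ S.q_mem.1, S.q_mat]
    exact Three.eqM_sound Five.square_ok
  have hlM : l ∈ M := ⟨hl.1, (Frame.stabF_iff_norm S.D hl.1).2 (hlm ▸ stab_m5_n5.2),
    Five.mem_normalizer_zpowers (hlq ▸ pow_mem (mem_zpowers _) 2)⟩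
  have hrange : ∀ m ∈ list60, ∃ h : M, S.F.mat h = m := by
    intro m hm
    simp only [list60, List.mem_flatMap, List.mem_filter, List.mem_map] at hm
    obtain ⟨c, ⟨hc, hst⟩, n, hn, rfl⟩ := hm
    obtain ⟨a, ha, ham, -⟩ := S.exists_lift hc
    have haM : a ∈ M := ⟨ha.1, (Frame.stabF_iff_norm S.D ha.1).2 (ham ▸ hst), hX ha⟩
    simp only [n5pows, List.mem_cons, List.not_mem_nil, or_false] at hn
    have h2 : S.F.mat (l * l) = mm n5 n5 := by rw [S.F.mat_mul _ hl.1 _ hl.1, hlm]
    have h3 : S.F.mat (l * (l * l)) = mm n5 (mm n5 n5) := by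
      rw [S.F.mat_mul _ hl.1 _ (mul_mem hl.1 hl.1), hlm, h2]
    rcases hn with rfl | rfl | rfl | rfl
    · exact ⟨⟨a * 1, mul_mem haM (one_mem _)⟩, by
        show S.F.mat (a * 1) = _
        rw [S.F.mat_mul _ ha.1 _ (one_mem _), ham, S.F.mat_one']⟩
    · exact ⟨⟨a * l, mul_mem haM hlM⟩, by
        show S.F.mat (a * l) = _
        rw [S.F.mat_mul _ ha.1 _ hl.1, ham, hlm]⟩
    · exact ⟨⟨a * (l * l), mul_mem haM (mul_mem hlM hlM)⟩, by
        show S.F.mat (a * (l * l)) = _
        rw [S.F.mat_mul _ ha.1 _ (mul_mem hl.1 hl.1), ham, h2]⟩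
    · exact ⟨⟨a * (l * (l * l)), mul_mem haM (mul_mem hlM (mul_mem hlM hlM))⟩, by
        show S.F.mat (a * (l * (l * l))) = _
        rw [S.F.mat_mul _ ha.1 _ (mul_mem hl.1 (mul_mem hl.1 hl.1)), ham, h3]⟩
  have hr : 60 ≤ Nat.card φ.range := by
    choose h hh using fun m : {m // m ∈ list60} => hrange m.1 m.2
    have := Nat.card_le_card_of_injective (fun m => (⟨φ (h m), h m, rfl⟩ : φ.range)) (fun a b e =>
      Subtype.ext ((hh a).symm.trans
        ((congrArg (fun y : φ.range => (y : Cert.LGrp).1) e).trans (hh b))))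
    rw [Nat.card_eq_fintype_card, Fintype.card_of_subtype list60.toFinset (fun x => List.mem_toFinset),
      List.toFinset_card_of_nodup list60_ok.1, list60_ok.2] at this
    exact this
  have h1 := Subgroup.card_mul_index φ.ker
  rw [Subgroup.index_ker] at h1
  rw [← h1]
  exact le_trans (by norm_num) (Nat.mul_le_mul hker hr)

variable {F : Frame z P} {D : VData F}

/-- **Five does not divide the stabiliser of a Far coset.** -/
theorem not_five (hf : Fused D) (K : Known D) {g : G} (hg : Far D g) :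
    ¬ 5 ∣ Nat.card ↥(st D g) := by
  intro h5
  haveI : Fact (Nat.Prime 5) := ⟨by norm_num⟩
  obtain ⟨S, hSF, hSD⟩ : ∃ S : Five.Setup z P, S.F = F ∧ HEq S.D D := by
    have hck := Five.cent_ok
    simp only [Local57.centCheck, Bool.and_eq_true, List.all_eq_true] at hck
    have hne : m5 ≠ idM := by decide +kernel
    obtain ⟨q, hq, ho, hm⟩ := Local57.exists_gen F Five.inL_m5 (Three.eqM_sound hck.2) (p := 5)
      (by norm_num) (by decide) (Three.eqM_sound hck.1.2) hne
    exact ⟨⟨F, D, hf, q, hq, ho, hm⟩, rfl, HEq.rfl⟩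
  subst hSF
  obtain rfl := eq_of_heq hSD
  set Q := zpowers S.q with hQdef
  have hQ : Nat.card Q = 5 := by rw [hQdef, Nat.card_zpowers, S.q_order]
  have hqN : S.q ∈ NN S.D := (Frame.stabF_iff_norm S.D S.q_mem.1).2 (S.q_mat.symm ▸ stab_m5_n5.1)
  have hQN : Q ≤ NN S.D := zpowers_le.2 hqN
  obtain ⟨h25, -, -, hnorm⟩ := Five.five S.F S.D hf Q hQ (zpowers_le.2 S.q_mem.1)
  have hd : ∀ H : Subgroup G, ¬ 5 * 5 ∣ Nat.card H := fun H h =>
    h25 (h.trans (card_subgroup_dvd_card H))
  have hfix := fix_card_prime (by norm_num : Nat.Prime 5) hQ hQN (hd _)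
  have hnn : 1920 ≤ Nat.card ↥(NN S.D ⊓ normalizer (Q : Set G)) := norm_five
  rw [hnorm] at hfix
  have hF14 : (fixSet (X := G ⧸ NN S.D) Q).ncard ≤ 14 := by
    by_contra hc
    have := Nat.mul_le_mul (show 15 ≤ (fixSet (X := G ⧸ NN S.D) Q).ncard by omega) hnn
    omega
  -- a moving element in the centraliser of `q`
  obtain ⟨c, hc, hcs⟩ := List.any_eq_true.1 exists_moving_code
  obtain ⟨a, ha, ham, -⟩ := S.exists_lift hc
  have haN : a ∉ NN S.D := fun h => by
    have e : stabF c = true := ham ▸ (Frame.stabF_iff_norm S.D ha.1).1 h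
    simp only [e, Bool.not_true] at hcs
    exact Bool.noConfusion hcs
  set W := S.D.V ⊓ S.X with hW
  have hWQ : W ≤ normalizer (Q : Set G) := fun w hw =>
    Five.mem_normalizer_zpowers (by rw [S.mem_X.1 hw.2, mul_inv_cancel_right]; exact mem_zpowers _)
  have hWN : W ≤ NN S.D := inf_le_left.trans le_normalizer
  have h1fix : pt S.D 1 ∈ fixSet Q := mem_fix_iff.2 (by
    rw [stab_pt]
    intro x hx
    rw [mem_cn]
    simpa using hQN hx)
  have hafix : pt S.D a ∈ fixSet Q := mem_fix_iff.2 (by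
    rw [stab_pt, hQdef, zpowers_le, mem_cn]
    have : a⁻¹ * S.q * a = S.q := by rw [mul_assoc, ← S.mem_X.1 ha.2, inv_mul_cancel_left]
    rwa [this])
  have hadj : Adj S.D a := by
    refine ⟨z, S.D.z_mem, IsConj.refl z, z, S.D.z_mem, ?_⟩
    show a * z * a⁻¹ = z
    rw [mem_centralizer_singleton_iff.1 ha.1, mul_inv_cancel_right]
  -- orbits of `W` on fixed points
  have horb : ∀ (h : G) (m : ℕ), Nat.card ↥(S.D.V ⊓ cn S.D h) = m → 5 ∣ Nat.card ↥(st S.D h) →
      ∃ x ∈ orb S.D h, x ∈ fixSet Q ∧ 8 ≤ (orb S.D h ∩ fixSet Q).ncard * m := by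
    intro h m hm hdvd
    obtain ⟨k, hk, hkx⟩ := exists_fix_prime (by norm_num : Nat.Prime 5) hQ hQN (hd _) (pt S.D h)
      (by rwa [st_eq])
    have hx : k • pt S.D h ∈ orb S.D h := ⟨⟨k, hk⟩, rfl⟩
    refine ⟨_, hx, hkx, ?_⟩
    have h1 := orbS_card W (k • pt S.D h)
    have h2 : Nat.card ↥(W ⊓ MulAction.stabilizer G (k • pt S.D h)) ≤ m := by
      rw [← hm, ← card_vst hx]
      exact card_le_of_le (inf_le_inf_right _ inf_le_left)
    have h3 : orbS W (k • pt S.D h) ⊆ orb S.D h ∩ fixSet Q := fun y hy =>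
      ⟨by
        obtain ⟨w, hw, rfl⟩ := hy
        exact ⟨⟨w * k, mul_mem (hWN hw) hk⟩, (mul_smul w k (pt S.D h) :)⟩, orbS_sub_fix hWQ hkx hy⟩
    have h4 := Set.ncard_le_ncard h3
    calc 8 ≤ Nat.card W := rad_five
      _ ≤ _ := h1 ▸ Nat.mul_le_mul h4 h2
  have hst3 : Nat.card ↥(st S.D K.g3) = 15360 := by
    have h := orb_card (D := S.D) K.g3
    rw [K.size3, show Nat.card ↥(NN S.D) = _ from Frame.card_norm S.D hf] at h
    omega
  obtain ⟨x3, hx3, hx3f, hA3⟩ := horb K.g3 2 K.inf3 (hst3 ▸ by norm_num)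
  obtain ⟨-, -, -, hAf⟩ := horb g 1 (by rw [hg.1, Subgroup.card_bot]) h5
  set A3 := orb S.D K.g3 ∩ fixSet Q with hA3def
  set Af := orb S.D g ∩ fixSet Q with hAfdef
  obtain ⟨hn1, -, -, hn3⟩ := far_orb_ne K hg
  have hne1 : pt S.D 1 ≠ pt S.D a := fun e => haN (by
    have := QuotientGroup.eq.1 e
    simpa using this)
  have hnot : ∀ {x h : G}, pt S.D x ∈ orb S.D h → orb S.D x ≠ orb S.D h → False :=
    fun hx hne => hne (orb_eq hx)
  have hadj1 : Adj S.D 1 := (K.adj_iff 1).2 (Or.inl (self_orb 1))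
  have hsub : {pt S.D 1, pt S.D a} ∪ A3 ∪ Af ⊆ fixSet Q := by
    refine Set.union_subset (Set.union_subset ?_ Set.inter_subset_right) Set.inter_subset_right
    intro x hx
    rcases hx with rfl | rfl
    exacts [h1fix, hafix]
  have hna : ∀ x : G, Adj S.D x → pt S.D x ∉ A3 ∧ pt S.D x ∉ Af := fun x hx =>
    ⟨fun h => hnot h.1 (adj_orb_ne K hx), fun h => not_adj_of_far hg (by
      rw [K.adj_iff]
      have e : orb S.D x = orb S.D g := orb_eq h.1
      rcases (K.adj_iff x).1 hx with r | r | r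
      · exact Or.inl (orb_eq r ▸ e.symm ▸ self_orb g)
      · exact Or.inr (Or.inl (orb_eq r ▸ e.symm ▸ self_orb g))
      · exact Or.inr (Or.inr (orb_eq r ▸ e.symm ▸ self_orb g)))⟩
  have hcard : 2 + A3.ncard + Af.ncard ≤ (fixSet (X := G ⧸ NN S.D) Q).ncard := by
    refine le_trans (le_of_eq ?_) (Set.ncard_le_ncard hsub)
    rw [Set.ncard_union_eq ?_, Set.ncard_union_eq ?_, Set.ncard_pair hne1]
    · refine Set.disjoint_left.2 fun x hx hx' => ?_
      rcases hx with rfl | rfl
      exacts [(hna 1 hadj1).1 hx', (hna a hadj).1 hx']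
    · refine Set.disjoint_left.2 fun x hx hx' => ?_
      rcases hx with (rfl | rfl) | hx
      · exact (hna 1 hadj1).2 hx'
      · exact (hna a hadj).2 hx'
      · exact hn3 ((MulAction.orbit_eq_iff.2 hx'.1).symm.trans (MulAction.orbit_eq_iff.2 hx.1))
  have hA3' : A3.ncard = 4 := by omega
  have hN1920 : Nat.card ↥(NN S.D ⊓ normalizer (Q : Set G)) = 1920 := by
    have : (fixSet (X := G ⧸ NN S.D) Q).ncard = 14 := by omega
    rw [this] at hfix
    omega
  have hoS : orbS (NN S.D) x3 = orb S.D K.g3 := by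
    rw [← orbS_pt]
    obtain ⟨⟨n, hn⟩, e⟩ := hx3
    have e' : n • pt S.D K.g3 = x3 := e
    ext y
    constructor
    · rintro ⟨k, hk, rfl⟩
      exact ⟨k * n, mul_mem hk hn, by rw [mul_smul, e']⟩
    · rintro ⟨k, hk, rfl⟩
      exact ⟨k * n⁻¹, mul_mem hk (inv_mem hn), by rw [mul_smul, ← e', inv_smul_smul]⟩
  have hS := fix_orbit_card_prime (by norm_num : Nat.Prime 5) hQ hx3f hQN (hd _)
  rw [hoS, hN1920, ← hA3def, hA3'] at hS
  set T := NN S.D ⊓ MulAction.stabilizer G x3 with hT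
  have hTcard : Nat.card T = 15360 := by
    have h := orbS_card (NN S.D) x3
    rw [hoS, K.size3, show Nat.card ↥(NN S.D) = _ from Frame.card_norm S.D hf] at h
    rw [hT]
    omega
  have hQT : Q ≤ T := le_inf hQN hx3f
  have hc5 : Nat.card (Q.subgroupOf T) = 5 ^ (Nat.card T).factorization 5 := by
    rw [Nat.card_congr (subgroupOfEquivOfLe hQT).toEquiv, hQ, hTcard,
      show (15360 : ℕ) = 5 * 3072 by norm_num, Nat.factorization_mul (by norm_num) (by norm_num)]
    simp [Nat.Prime.factorization_self (show Nat.Prime 5 by norm_num),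
      Nat.factorization_eq_zero_of_not_dvd (show ¬ 5 ∣ 3072 by norm_num)]
  let R : Sylow 5 T := Sylow.ofCard (Q.subgroupOf T) hc5
  have hmod := card_sylow_modEq_one 5 T
  rw [Sylow.card_eq_index_normalizer R] at hmod
  have hRc : ((R : Subgroup T) : Set T) = (Q.subgroupOf T : Set T) := by
    rw [Sylow.coe_ofCard]
  have hnc : Nat.card ↥(normalizer ((R : Subgroup T) : Set T)) = 480 := by
    rw [hRc, ← subgroupOf_normalizer_eq hQT, ← inf_subgroupOf_left,
      Nat.card_congr (subgroupOfEquivOfLe inf_le_left).toEquiv]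
    omega
  have hidx := Subgroup.card_mul_index (normalizer ((R : Subgroup T) : Set T))
  rw [hnc, hTcard] at hidx
  have h32 : (normalizer ((R : Subgroup T) : Set T)).index = 32 := by omega
  have hm : (normalizer ((R : Subgroup T) : Set T)).index % 5 = 1 % 5 := hmod
  omega

end CfsgLib.J4Type.Rank7
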