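import Cfsg.Agent.Lib.J4Type.Rank7.Planes
import Cfsg.Agent.Lib.J4Type.Order.HTypesFix
import Cfsg.Agent.Lib.J4Type.Order.TSide
import Cfsg.Agent.Lib.J4Type.Order.Formula

/-!
The two root involutions of pair type in the centraliser of the central involution, the conjugate
containing each, and elements centralising them.
-/

set_option autoImplicit false
set_option linter.unusedSectionVars false
set_option maxRecDepth 100000

namespace CfsgLib.J4Type.Rank7

open Cfsg Subgroup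
open CfsgLib.J4Type.Cert (rM qM kM inX_rM inX_stab blt_lt LGrp)
open CfsgLib.J4Type.Order (kr linB eact shift emul powM inT mkL)
open CfsgLib.J4Type.Order.TSetup (t0)
open CfsgLib.J4Type.Frame (xr)

variable {G : Type*} [Group G] [Finite G] {z : G} {P : Subgroup G} {F : Frame z P} {D : VData F}

/-- An element of a coset at a root. -/
noncomputable def rootX (D : VData F) (c a : ℕ) : G := F.dec a * Frame.xr D c

theorem witM_inL {q : ℕ × ℕ × ℕ × Bool × ℕ × ℕ} (hq : q ∈ wit2 ++ wit3) :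
    InL (witM q) ∧ q.2.2.2.2.1 < 4096 ∧ q.2.2.2.2.2 < 4096 := by
  have h := List.all_eq_true.1 wit_bound q hq
  simp only [Bool.and_eq_true] at h
  obtain ⟨⟨⟨⟨h1, h2⟩, h3⟩, h4⟩, h5⟩ := h
  refine ⟨(inX_rM _ (blt_lt h1)).inL.comp ?_, blt_lt h4, blt_lt h5⟩
  cases q.2.2.2.1
  · exact (inX_stab (blt_lt h2) (blt_lt h3)).inL
  · exact (inX_stab (blt_lt h2) (blt_lt h3)).inL.comp InL.sig_mem

theorem cd_dec {f : ℕ} (hf : f < 4096) {l : G} (hl : l ∈ Cen z)
    (hn : l ∈ normalizer (P : Set G)) : Cd F (F.dec f * l) (f, F.mat l) :=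
  ⟨F.dec f, F.dec_mem f, l, hl, hn, rfl, by rw [F.co_dec]; exact Nat.mod_eq_of_lt hf, rfl⟩

variable (hf : Fused D)
include hf

theorem rootX_spec {c : ℕ} (hc : c < 4) (a : ℕ) :
    rootX D c a ∈ Cen z ∧ F.mat (rootX D c a) = kr c := by
  obtain ⟨x1, -, x3, -⟩ := Frame.xr_spec D hf hc
  exact ⟨mul_mem (F.dec_mem_cen a) x1, by rw [rootX, Frame.mat_coset D x1, x3]⟩

theorem root_isT [IsSimpleGroup G] (S : Order.TSetup D) {c a : ℕ} (hc : c < 4) (ha : a < 8192) :
    F.isT (rootX D c a) ↔ inT true true false true c a = true := by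
  obtain ⟨h1, h2, -⟩ := Order.tSide D hf S.t0_pairV
  exact Frame.isT_coset D hf S.t0_pairV (Order.classes D hf S.t0_pairV) h1 h2 hc ha

theorem exists_root [IsSimpleGroup G] (S : Order.TSetup D) {x : G} (h : F.isT x) :
    ∃ g : G, g * t0 D * g⁻¹ = x := by
  have hx : orderOf x = 2 :=
    orderOf_eq_prime (hp := ⟨Nat.prime_two⟩) (by rw [pow_two]; exact h.1) h.2.1
  exact isConj_iff.1 ((S.dichotomy hx).2 h.2.2)

/-- A lift commuting with a root up to the central involution. -/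
theorem exists_lift_root {c : ℕ} (hc : c < 4) (a : ℕ) {m : List ℕ} (hm : InL m)
    (hcm : mm m (kr c) = mm (kr c) m) :
    ∃ l ∈ Cen z, l ∈ normalizer (P : Set G) ∧ F.mat l = m ∧
      ((∀ f, F.dec f * l * rootX D c a * (F.dec f * l)⁻¹ =
          rootX D c (shift (kr c) f (eact m (linB m) a))) ∨
        ∀ f, F.dec f * l * rootX D c a * (F.dec f * l)⁻¹ =
          rootX D c (emul (shift (kr c) f (eact m (linB m) a)) 4096)) := by
  obtain ⟨x1, x2, x3, -⟩ := Frame.xr_spec D hf hc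
  obtain ⟨l, l1, l2, l3⟩ := F.exists_liftN (mkL m hm)
  have l3' : F.mat l = m := l3
  refine ⟨l, l1, l2, l3', ?_⟩
  have e : F.mat (l * xr D c * l⁻¹) = F.mat (xr D c) := by
    rw [F.mat_mul _ (mul_mem l1 x1) _ (inv_mem l1), F.mat_mul _ l1 _ x1, l3', x3, hcm, ← x3, ← l3',
      ← F.mat_mul _ x1 _ l1, ← F.mat_mul _ (mul_mem x1 l1) _ (inv_mem l1), mul_inv_cancel_right]
  have key : ∀ f, F.dec f * l * rootX D c a * (F.dec f * l)⁻¹ =
      F.dec f * (F.dec (eact m (linB m) a) * (l * xr D c * l⁻¹)) * (F.dec f)⁻¹ := fun f => by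
    have hd := F.conj_dec l1 l2 a
    rw [l3'] at hd
    rw [← hd, rootX]
    group
  rcases Frame.eq_or_zmul D (mul_mem (mul_mem l1 x1) (inv_mem l1))
      (mul_mem (mul_mem l2 x2) (inv_mem l2)) x1 x2 e with h | h
  · refine .inl fun f => ?_
    rw [key, h, Frame.dec_shift D x1 x2, x3]
    rfl
  · refine .inr fun f => ?_
    have hs := Frame.dec_shift D x1 x2 f (eact m (linB m) a)
    rw [x3] at hs
    rw [key, h, rootX, ← F.dec_mul, F.dec_z, mul_assoc (F.dec (shift (kr c) f (eact m (linB m) a))),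
      ← F.z_comm x1, ← mul_assoc (F.dec (shift (kr c) f (eact m (linB m) a))), ← hs]
    have hz : z * (F.dec f)⁻¹ = (F.dec f)⁻¹ * z := (F.z_comm (inv_mem (F.dec_mem_cen f))).symm
    simp only [mul_assoc, hz]

theorem exists_wit2 {q : ℕ × ℕ × ℕ × Bool × ℕ × ℕ} (hq : q ∈ wit2) :
    ∃ h, h * rootX D 2 0 = rootX D 2 0 * h ∧ ∃ f,
      (f = q.2.2.2.2.1 ∨ f = q.2.2.2.2.2) ∧ Cd F h (f, witM q) := by
  obtain ⟨hm, b1, b2⟩ := witM_inL (List.mem_append_left wit3 hq)
  have hc := wit_comm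
  simp only [Bool.and_eq_true, List.all_eq_true, beq_iff_eq] at hc
  obtain ⟨l, l1, l2, l3, h⟩ := exists_lift_root hf (c := 2) (by norm_num) 0 hm (hc.1 q hq)
  have hs := List.all_eq_true.1 wit2_shift q hq
  simp only [Bool.and_eq_true] at hs
  rcases h with h | h
  · refine ⟨_, mul_inv_eq_iff_eq_mul.1 ((h q.2.2.2.2.1).trans ?_), _, .inl rfl,
      l3 ▸ cd_dec b1 l1 l2⟩
    rw [Nat.eq_of_beq_eq_true hs.1]
  · refine ⟨_, mul_inv_eq_iff_eq_mul.1 ((h q.2.2.2.2.2).trans ?_), _, .inr rfl,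
      l3 ▸ cd_dec b2 l1 l2⟩
    rw [Nat.eq_of_beq_eq_true hs.2]

theorem exists_wit3 [IsSimpleGroup G] (S : Order.TSetup D)
    {q : ℕ × ℕ × ℕ × Bool × ℕ × ℕ} (hq : q ∈ wit3) :
    ∃ h, h * rootX D 3 4096 = rootX D 3 4096 * h ∧ ∃ f, Cd F h (f, witM q) := by
  obtain ⟨hm, b1, -⟩ := witM_inL (List.mem_append_right wit2 hq)
  have hc := wit_comm
  simp only [Bool.and_eq_true, List.all_eq_true, beq_iff_eq] at hc
  obtain ⟨l, l1, l2, l3, h⟩ := exists_lift_root hf (c := 3) (by norm_num) 4096 hm (hc.2 q hq)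
  have hs := List.all_eq_true.1 wit3_shift q hq
  simp only [Bool.and_eq_true] at hs
  rcases h with h | h
  · refine ⟨_, mul_inv_eq_iff_eq_mul.1 ((h q.2.2.2.2.1).trans ?_), _, l3 ▸ cd_dec b1 l1 l2⟩
    rw [Nat.eq_of_beq_eq_true hs.1]
  · exfalso
    have e := h q.2.2.2.2.1
    rw [Nat.eq_of_beq_eq_true hs.2] at e
    have ht := (root_isT hf S (by norm_num) (by norm_num)).2 inT_roots.2.1
    rw [← F.isT_conj (F.dec q.2.2.2.2.1 * l), e, root_isT hf S (by norm_num) (by norm_num),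
      inT_roots.2.2] at ht
    exact Bool.noConfusion ht

section AtRoot

variable (S : Order.TSetup D) {c a : ℕ} {g : G} (R : g * t0 D * g⁻¹ = rootX D c a)
include S R

theorem root_mem_cj : rootX D c a ∈ cj D g := by
  rw [mem_cj, ← R, show g⁻¹ * (g * t0 D * g⁻¹) * g = t0 D by group]
  exact S.t0_pairV.1

theorem cent_le_cn {u : G} (h : u * rootX D c a = rootX D c a * u) :
    u ∈ cn D g ∧ g⁻¹ * u * g * t0 D = t0 D * (g⁻¹ * u * g) := by
  have e : g⁻¹ * u * g * t0 D = t0 D * (g⁻¹ * u * g) := by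
    rw [← R] at h
    calc g⁻¹ * u * g * t0 D = g⁻¹ * (u * (g * t0 D * g⁻¹)) * g := by group
      _ = g⁻¹ * (g * t0 D * g⁻¹ * u) * g := by rw [h]
      _ = t0 D * (g⁻¹ * u * g) := by group
  exact ⟨mem_cn.2 (S.cent_le (mem_centralizer_singleton_iff.2 e)), e⟩

theorem z_mem_cn (hc : c < 4) : z ∈ cn D g :=
  (cent_le_cn hf S R (F.z_comm (rootX_spec hf hc a).1).symm).1

theorem z_notMem_cj (hc : c = 2 ∨ c = 3) : z ∉ cj D g := fun hz => by
  have hc4 : c < 4 := by omega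
  obtain ⟨p, hp, e⟩ := cover hf hz
  have hx := root_mem_cj hf S R
  rw [cj_congr e, mem_cj] at hx
  obtain ⟨n, hn, en⟩ := Frame.exists_vE D hx
  obtain ⟨l1, -, l3⟩ := lp_spec (D := D) hp
  obtain ⟨r1, r2⟩ := rootX_spec hf hc4 a
  have hv := Cd.vE (F := F) D hn
  have hm := congrArg F.mat (show rootX D c a * lp D p = lp D p * Frame.vE D n by rw [en]; group)
  rw [F.mat_mul _ r1 _ l1, F.mat_mul _ l1 _ hv.cen, r2, l3, hv.mat_eq] at hm
  have h := List.all_eq_true.1 (List.all_eq_true.1 (List.all_eq_true.1 root_ok c (by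
    rcases hc with rfl | rfl <;> simp)) p (List.mem_range.2 hp)) (n / 128)
    (List.mem_range.2 (by omega))
  rw [hm] at h
  simp at h

theorem root_base (hc : c = 2 ∨ c = 3) :
    g⁻¹ * z * g ∈ NN D ∧ g⁻¹ * z * g ∉ D.V ∧ IsConj z (g⁻¹ * z * g) :=
  ⟨mem_cn.1 (z_mem_cn hf S R (by omega)), fun h => z_notMem_cj hf S R hc (mem_cj.2 h),
    isConj_iff.2 ⟨g⁻¹, by group⟩⟩

/-- A centralising element does not change the orbit of a position. -/
theorem pos_step {h : G} (hh : h ∈ Cen z) (hx : h * rootX D c a = rootX D c a * h) {p q : ℕ}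
    (hp : p < 77) (hq : q < 77) (H : imgOK (F.mat h) p q = true) :
    orb D (g⁻¹ * lp D q) = orb D (g⁻¹ * lp D p) := by
  refine orb_eq ?_
  have e : pt D (g⁻¹ * lp D q) = pt D (g⁻¹ * h * g * (g⁻¹ * lp D p)) := by
    refine pt_eq_iff.2 ?_
    have := pt_eq_iff.1 (move (D := D) hh hp hq H).symm
    rwa [show (g⁻¹ * lp D q)⁻¹ * (g⁻¹ * h * g * (g⁻¹ * lp D p)) = (lp D q)⁻¹ * (h * lp D p) by group]
  rw [e]
  exact mem_orb_of (mem_cn.1 (cent_le_cn hf S R hx).1)

/-- A fixed position gives an involution of pair type in the normaliser. -/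
theorem fixed_pos (hc : c < 4) (ht : F.isT (rootX D c a)) {p : ℕ} (hp : p < 77)
    (H : imgOK (kr c) p p = true) :
    ∃ t ∈ cj D ((lp D p)⁻¹ * g), t ∈ NN D ∧ t ≠ 1 ∧ t * t = 1 ∧ ¬ IsConj z t := by
  obtain ⟨r1, r2⟩ := rootX_spec hf hc a
  have e := pt_eq_iff.1 (move (D := D) r1 hp hp (by rw [r2]; exact H)).symm
  refine ⟨(lp D p)⁻¹ * rootX D c a * lp D p, ?_, by rwa [mul_assoc], ?_⟩
  · have := (mem_cj_mul (n := (lp D p)⁻¹)).2 (root_mem_cj hf S R)
    rwa [inv_inv] at this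
  · have := (F.isT_conj (lp D p)⁻¹ (rootX D c a)).2 ht
    rw [inv_inv] at this
    exact ⟨this.2.1, this.1, this.2.2⟩

/-- An element of prime order of the centraliser of the root divides the centraliser in the
normaliser. -/
theorem dvd_cent {h : G} (hh : h ∈ Cen z) (hx : h * rootX D c a = rootX D c a * h) {k : ℕ}
    (hk : k.Prime) (h1 : powM (F.mat h) k = idM) (h0 : F.mat h ≠ idM) :
    k ∣ Nat.card ↥(NN D ⊓ centralizer ({g⁻¹ * z * g} : Set G)) := by
  let n : ↥(NN D ⊓ centralizer ({g⁻¹ * z * g} : Set G)) :=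
    ⟨g⁻¹ * h * g, Subgroup.mem_inf.2 ⟨mem_cn.1 (cent_le_cn hf S R hx).1,
      mem_centralizer_singleton_iff.2 (by
        calc g⁻¹ * h * g * (g⁻¹ * z * g) = g⁻¹ * (h * z) * g := by group
          _ = g⁻¹ * z * g * (g⁻¹ * h * g) := by rw [F.z_comm hh]; group)⟩⟩
  have e : orderOf n = orderOf h := by
    rw [← Subgroup.orderOf_coe]
    simpa [n, MulAut.conj_apply] using MulEquiv.orderOf_eq (MulAut.conj g⁻¹) h
  refine Dvd.dvd.trans ?_ (orderOf_dvd_natCard n)
  rw [e]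
  let H : Cen z := ⟨h, hh⟩
  have hd : orderOf (F.matL H) ∣ orderOf H := orderOf_map_dvd F.matL H
  rw [show orderOf H = orderOf h from (Subgroup.orderOf_coe H).symm] at hd
  suffices orderOf (F.matL H) = k by rwa [this] at hd
  refine orderOf_eq_prime (hp := ⟨hk⟩) ?_ fun e => h0 ?_
  · rw [← map_pow]
    refine LGrp.ext ?_
    show F.mat (h ^ k) = idM
    rw [F.mat_pow_eq hh, h1]
  · exact congrArg Subtype.val e

end AtRoot

end CfsgLib.J4Type.Rank7
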