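import Cfsg.Agent.Lib.J4Type.Rank7.Known
import Cfsg.Agent.Lib.J4Type.Order.ZSide

/-!
The order of the group and the index of the normaliser, and passing the orbits to a conjugate
subgroup.
-/

set_option autoImplicit false
set_option linter.unusedSectionVars false

namespace CfsgLib.J4Type.Rank7

open Cfsg Subgroup

variable {G : Type*} [Group G] [Finite G] {z : G} {P : Subgroup G} {F : Frame z P}

/-- The order of the group. -/
theorem card_group [IsSimpleGroup G] (D : VData F) (hf : Fused D) :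
    Nat.card G = 86775571046077562880 := by
  obtain ⟨s, hs⟩ := Frame.exists_pairV D hf
  obtain ⟨hc, hn, hat⟩ := Order.tSide D hf hs
  exact Order.order_eq D hf hs hc (Order.zSide D hf hs (Order.classes D hf hs) hc hn) hat

/-- The index of the normaliser. -/
theorem index_NN [IsSimpleGroup G] (D : VData F) (hf : Fused D) :
    (NN D).index = 173067389 := by
  have h := (NN D).card_mul_index
  rw [card_group D hf, show Nat.card ↥(NN D) = 2 ^ 11 * 244823040 from Frame.card_norm D hf] at h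
  omega

/-- The orbits on the cosets do not change on passing to a conjugate. -/
theorem transport {D : VData F} {V : Subgroup G} (hV : IsElementaryAbelian 2 V)
    (hcard : Nat.card ↥V = 2 ^ 11) {l : List ℕ} {n : ℕ} (hidx : (NN D).index = n)
    (h : ∃ c : Fin 7 → G ⧸ NN D,
      (∀ i j : Fin 7, i ≠ j → MulAction.orbit ↥(NN D) (c i) ≠ MulAction.orbit ↥(NN D) (c j)) ∧
      (∀ q : G ⧸ NN D, ∃ i : Fin 7, q ∈ MulAction.orbit ↥(NN D) (c i)) ∧
      (List.ofFn fun i => (MulAction.orbit ↥(NN D) (c i)).ncard) = l) :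
    (normalizer (V : Set G)).index = n ∧ ∃ c : Fin 7 → G ⧸ normalizer (V : Set G),
      (∀ i j : Fin 7, i ≠ j → MulAction.orbit ↥(normalizer (V : Set G)) (c i) ≠
        MulAction.orbit ↥(normalizer (V : Set G)) (c j)) ∧
      (∀ q : G ⧸ normalizer (V : Set G),
        ∃ i : Fin 7, q ∈ MulAction.orbit ↥(normalizer (V : Set G)) (c i)) ∧
      (List.ofFn fun i => (MulAction.orbit ↥(normalizer (V : Set G)) (c i)).ncard) = l := by
  obtain ⟨g, rfl⟩ := D.conj V hV hcard
  obtain ⟨c, h1, h2, h3⟩ := h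
  set M := normalizer ((D.V.map (MulAut.conj g).toMonoidHom : Subgroup G) : Set G)
  have hM : M = (NN D).map (MulAut.conj g).toMonoidHom :=
    (Subgroup.map_equiv_normalizer_eq D.V (MulAut.conj g)).symm
  have hm : ∀ x, g * x * g⁻¹ ∈ M ↔ x ∈ NN D := fun x => by
    rw [hM]
    refine ⟨?_, fun h => ⟨x, h, rfl⟩⟩
    rintro ⟨w, hw, e⟩
    have e' : g * w * g⁻¹ = g * x * g⁻¹ := e
    rwa [← mul_left_cancel (mul_right_cancel e')]
  let φ : G ⧸ NN D → G ⧸ M := Quotient.map' (fun x => g * x * g⁻¹) fun a b e => by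
    rw [QuotientGroup.leftRel_apply] at e ⊢
    rw [show (g * a * g⁻¹)⁻¹ * (g * b * g⁻¹) = g * (a⁻¹ * b) * g⁻¹ by group, hm]
    exact e
  have φmk : ∀ x : G, φ (x : G ⧸ NN D) = ((g * x * g⁻¹ : G) : G ⧸ M) := fun x => rfl
  have φinj : Function.Injective φ := fun a b e => by
    obtain ⟨a, rfl⟩ := QuotientGroup.mk_surjective a
    obtain ⟨b, rfl⟩ := QuotientGroup.mk_surjective b
    rw [φmk, φmk, QuotientGroup.eq,
      show (g * a * g⁻¹)⁻¹ * (g * b * g⁻¹) = g * (a⁻¹ * b) * g⁻¹ by group, hm] at e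
    exact QuotientGroup.eq.2 e
  have φsurj : Function.Surjective φ := fun q => by
    obtain ⟨x, rfl⟩ := QuotientGroup.mk_surjective q
    exact ⟨((g⁻¹ * x * g : G) : G ⧸ NN D), by rw [φmk]; congr 1; group⟩
  have horb : ∀ q, MulAction.orbit ↥M (φ q) = φ '' MulAction.orbit ↥(NN D) q := fun q => by
    obtain ⟨a, rfl⟩ := QuotientGroup.mk_surjective q
    ext r
    constructor
    · rintro ⟨m, rfl⟩
      have hm' : g⁻¹ * m.1 * g ∈ NN D := (hm _).1 (by
        rw [show g * (g⁻¹ * m.1 * g) * g⁻¹ = m.1 by group]; exact m.2)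
      refine ⟨_, ⟨⟨_, hm'⟩, rfl⟩, ?_⟩
      show φ ((g⁻¹ * m.1 * g * a : G) : G ⧸ NN D) = ((m.1 * (g * a * g⁻¹) : G) : G ⧸ M)
      rw [φmk]
      congr 1
      group
    · rintro ⟨_, ⟨k, rfl⟩, rfl⟩
      refine ⟨⟨g * k.1 * g⁻¹, (hm _).2 k.2⟩, ?_⟩
      show ((g * k.1 * g⁻¹ * (g * a * g⁻¹) : G) : G ⧸ M) = φ ((k.1 * a : G) : G ⧸ NN D)
      rw [φmk]
      congr 1
      group
  refine ⟨?_, fun i => φ (c i), fun i j hij e => h1 i j hij ?_, fun q => ?_, ?_⟩
  · rw [← hidx]
    exact (Nat.card_congr (Equiv.ofBijective φ ⟨φinj, φsurj⟩)).symm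
  · rw [horb, horb] at e
    exact Set.image_injective.2 φinj e
  · obtain ⟨r, rfl⟩ := φsurj q
    obtain ⟨i, hi⟩ := h2 r
    exact ⟨i, by rw [horb]; exact ⟨r, hi, rfl⟩⟩
  · rw [← h3]
    exact congrArg List.ofFn (funext fun i => by
      rw [horb, Set.ncard_image_of_injective _ φinj])

end CfsgLib.J4Type.Rank7
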